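import Cfsg.Agent.H78.StSp2
import Cfsg.Agent.H78.StM3
import Cfsg.Agent.H62.SpA

/-!
# The Steinberg character of `PSp_{2m}`: assembly from the abstract Steinberg module (helper78)

The combinatorial facts on the Weyl group (`hrev`, `hrevmem`, `hsign`), the generation statement
(`hgen`) and the Sylow statement (`hsyl`) are hypotheses here; they are supplied in the statement
file from team pieces.
-/

set_option autoImplicit false

namespace Cfsg.Agent.H78.StSp

open Matrix Cfsg.Agent.H50.AutPSL Cfsg.Agent.H78.StSL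

variable {m : ℕ} {F : Type*} [Field F]

local notation "Spm" => symplecticGroup (Fin (m + 1)) F

/-- The monomial elements. -/
noncomputable def nn : Option (Fin m) → Spm
  | none => nl
  | some k => ns k

/-- The root groups. -/
def XX : Option (Fin m) → Set Spm
  | none => Set.range (xl (Fin.last m))
  | some k => Set.range (xd k.castSucc k.succ (cs_ne k))

/-- The simple reflections as elements of the Weyl group. -/
def sgenW (o : Option (Fin m)) : WSp m := ⟨sgen m o, Subgroup.subset_closure ⟨o, rfl⟩⟩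

/-- The "positive" halves. -/
def WpS : Option (Fin m) → Set (WSp m)
  | none => {w | w.1.symm (pE m (Fin.last m)) < w.1.symm (pF m (Fin.last m))}
  | some k => {w | w.1.symm (pE m k.castSucc) < w.1.symm (pE m k.succ)}

theorem psi_nn_smul (o : Option (Fin m)) (w : Equiv.Perm (Fin ((m + 1) + (m + 1)))) :
    psi m F (nn o) • (apt w : Flg ((m + 1) + (m + 1)) F) = apt (sgen m o * w) := by
  cases o with
  | none =>
    show psi m F nl • _ = _
    rw [psi_nl, nE_smul_apt]
    rfl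
  | some k =>
    show psi m F (ns k) • _ = _
    rw [psi_ns, dbl_n_smul_apt, ← mul_assoc]
    rfl

theorem sgen_mul_self (o : Option (Fin m)) (w : Equiv.Perm (Fin ((m + 1) + (m + 1)))) :
    sgen m o * (sgen m o * w) = w := by
  cases o with
  | none =>
    show Equiv.swap _ _ * (Equiv.swap _ _ * w) = w
    rw [← mul_assoc, Equiv.swap_mul_self, one_mul]
  | some k =>
    show Equiv.swap (pE m k.castSucc) (pE m k.succ) * Equiv.swap (pF m k.succ) (pF m k.castSucc) *
      (Equiv.swap (pE m k.castSucc) (pE m k.succ) * Equiv.swap (pF m k.succ) (pF m k.castSucc) * w)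
      = w
    rw [mul_assoc, mul_assoc, ← swap_comm_of_disj _ _ _ _ (disj_short k), ← mul_assoc,
      Equiv.swap_mul_self, one_mul, ← mul_assoc, Equiv.swap_mul_self, one_mul]

theorem symm_sgen_some (k : Fin m) (w : Equiv.Perm (Fin ((m + 1) + (m + 1))))
    (c : Fin ((m + 1) + (m + 1))) :
    (sgen m (some k) * w).symm c =
      w.symm (Equiv.swap (pF m k.succ) (pF m k.castSucc)
        (Equiv.swap (pE m k.castSucc) (pE m k.succ) c)) := by
  show (Equiv.swap (pE m k.castSucc) (pE m k.succ) * Equiv.swap (pF m k.succ) (pF m k.castSucc) *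
    w).symm c = _
  rw [mul_assoc, symm_swap_mul, symm_swap_mul]

theorem mem_WpS_iff (o : Option (Fin m)) (w : WSp m) :
    sgenW o * w ∈ WpS o ↔ w ∉ WpS o := by
  cases o with
  | none =>
    show (Equiv.swap (pE m (Fin.last m)) (pF m (Fin.last m)) * w.1).symm (pE m (Fin.last m)) <
      (Equiv.swap (pE m (Fin.last m)) (pF m (Fin.last m)) * w.1).symm (pF m (Fin.last m)) ↔
      ¬ (w.1.symm (pE m (Fin.last m)) < w.1.symm (pF m (Fin.last m)))
    rw [symm_swap_mul, symm_swap_mul, Equiv.swap_apply_left, Equiv.swap_apply_right, not_lt]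
    have hne : w.1.symm (pF m (Fin.last m)) ≠ w.1.symm (pE m (Fin.last m)) :=
      fun h => pE_ne_pF _ _ (w.1.symm.injective h).symm
    exact ⟨le_of_lt, fun h => lt_of_le_of_ne h hne⟩
  | some k =>
    show (sgen m (some k) * w.1).symm (pE m k.castSucc) <
      (sgen m (some k) * w.1).symm (pE m k.succ) ↔
      ¬ (w.1.symm (pE m k.castSucc) < w.1.symm (pE m k.succ))
    rw [symm_sgen_some, symm_sgen_some, Equiv.swap_apply_left, Equiv.swap_apply_right,
      Equiv.swap_apply_of_ne_of_ne (pE_ne_pF _ _) (pE_ne_pF _ _),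
      Equiv.swap_apply_of_ne_of_ne (pE_ne_pF _ _) (pE_ne_pF _ _), not_lt]
    have hne : w.1.symm (pE m k.succ) ≠ w.1.symm (pE m k.castSucc) :=
      fun h => pE_ne (cs_ne k) (w.1.symm.injective h).symm
    exact ⟨le_of_lt, fun h => lt_of_le_of_ne h hne⟩

/-- The inequality for the `f`-pair follows from the one for the `e`-pair. -/
theorem pF_lt_of_rev (hrev : ∀ w ∈ WSp m, ∀ c, w (Fin.rev c) = Fin.rev (w c)) (w : WSp m)
    (k : Fin m) (h : w.1.symm (pE m k.castSucc) < w.1.symm (pE m k.succ)) :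
    w.1.symm (pF m k.succ) < w.1.symm (pF m k.castSucc) := by
  have hw : ∀ c, w.1.symm (Fin.rev c) = Fin.rev (w.1.symm c) :=
    hrev (w.1.symm) ((WSp m).inv_mem w.2)
  rw [← rev_pE, ← rev_pE, hw, hw, Fin.rev_lt_rev]
  exact h

theorem isUT_of_mul_eq_one [Fintype F] {n : ℕ} (A A' : Matrix (Fin n) (Fin n) F) (hA : IsUT A)
    (h : A * A' = 1) : IsUT A' := by
  obtain ⟨s, hsA⟩ : ∃ s : SpecialLinearGroup (Fin n) F, s.1 = A := ⟨⟨A, hA.det⟩, rfl⟩
  have hs : s ∈ Uni n F := by
    show IsUT s.1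
    rw [hsA]
    exact hA
  have hs' : IsUT (s⁻¹).1 := (Uni n F).inv_mem hs
  have e : (s⁻¹).1 = A' := by
    have h1 : (s⁻¹).1 * A = 1 := by
      have := congrArg Subtype.val (inv_mul_cancel s)
      rw [← hsA]
      exact this
    calc (s⁻¹).1 = (s⁻¹).1 * (A * A') := by rw [h, Matrix.mul_one]
      _ = A' := by rw [← Matrix.mul_assoc, h1, Matrix.one_mul]
  rw [← e]
  exact hs'

theorem siegel_mem_USp [Fintype F] (S : Matrix (Fin (m + 1)) (Fin (m + 1)) F) (hS : Sᵀ = S) :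
    (⟨fromBlocks 1 S 0 1, Cfsg.Agent.H45.upper_mem_sp S hS⟩ : Spm) ∈ USp m F :=
  mem_USp_of_blocks _ 1 S 1 rfl isUT_one (fun _ _ hij => Matrix.one_apply_ne hij.ne)
    (fun i => Matrix.one_apply_eq i)

theorem levi_mem_USp [Fintype F] (A A' : Matrix (Fin (m + 1)) (Fin (m + 1)) F) (hA : IsUT A)
    (h : A * A' = 1) :
    (⟨fromBlocks A 0 0 A'ᵀ, Cfsg.Agent.H45.diag_mem_sp A A' h⟩ : Spm) ∈ USp m F :=
  mem_USp_of_blocks _ A 0 A'ᵀ rfl hA
    (fun i j hij => (isUT_of_mul_eq_one A A' hA h).1 j i hij)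
    (fun i => (isUT_of_mul_eq_one A A' hA h).2 i)

/-- The centre acts trivially on the apartment. -/
theorem center_smul (z : Spm) (hz : z ∈ Subgroup.center Spm)
    (w : Equiv.Perm (Fin ((m + 1) + (m + 1)))) :
    psi m F z • (apt w : Flg ((m + 1) + (m + 1)) F) = apt w := by
  have hz' : z⁻¹ ∈ Subgroup.center Spm := Subgroup.inv_mem _ hz
  apply Flg.ext'
  intro k v
  rw [mem_smul, mem_apt, mem_apt, ← map_inv, psi_val]
  rcases Cfsg.Agent.H62.sp_center_sub _ hz' with h | h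
  · rw [h, map_one, one_mulVec]
  · rw [h, map_neg, map_one, neg_mulVec, one_mulVec]
    simp only [Pi.neg_apply, neg_eq_zero]

/-- The orbit statement, by induction on the Weyl group. -/
theorem orbit_wsp (x : Equiv.Perm (Fin ((m + 1) + (m + 1)))) (hx : x ∈ WSp m) :
    ∃ g : Spm, ∀ w : Equiv.Perm (Fin ((m + 1) + (m + 1))),
      psi m F g • (apt w : Flg ((m + 1) + (m + 1)) F) = apt (x * w) := by
  refine Subgroup.closure_induction (p := fun x _ => ∃ g : Spm,
    ∀ w : Equiv.Perm (Fin ((m + 1) + (m + 1))),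
      psi m F g • (apt w : Flg ((m + 1) + (m + 1)) F) = apt (x * w)) ?_ ?_ ?_ ?_ hx
  · rintro _ ⟨o, rfl⟩
    exact ⟨nn o, fun w => psi_nn_smul o w⟩
  · exact ⟨1, fun w => by rw [map_one, one_smul, one_mul]⟩
  · rintro x y _ _ ⟨g, hg⟩ ⟨h, hh⟩
    exact ⟨g * h, fun w => by rw [map_mul, mul_smul, hh, hg, mul_assoc]⟩
  · rintro x _ ⟨g, hg⟩
    refine ⟨g⁻¹, fun w => ?_⟩
    rw [map_inv, inv_smul_eq_iff, hg, ← mul_assoc, mul_inv_cancel, one_mul]

/-- The Steinberg character of `Sp_{2(m+1)}(F)` modulo its centre, from the combinatorial, generation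
and Sylow inputs. -/
theorem sp_steinberg_of [Fintype F] (p : ℕ) [Fact p.Prime] [CharP F p] (m : ℕ)
    (hrev : ∀ w ∈ WSp m, ∀ c, w (Fin.rev c) = Fin.rev (w c))
    (hrevmem : (Fin.revPerm : Equiv.Perm (Fin ((m + 1) + (m + 1)))) ∈ WSp m)
    (hsign : ∃ ε : WSp m →* ℤˣ, ∀ o, ε ⟨sgen m o, Subgroup.subset_closure ⟨o, rfl⟩⟩ = -1)
    (hgen : ∀ K : Subgroup (symplecticGroup (Fin (m + 1)) F),
      (∀ S : Matrix (Fin (m + 1)) (Fin (m + 1)) F, Sᵀ = S →
        ∃ g ∈ K, (g : Matrix (Fin (m + 1) ⊕ Fin (m + 1)) (Fin (m + 1) ⊕ Fin (m + 1)) F) =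
          Matrix.fromBlocks 1 S 0 1) →
      (∀ i j : Fin (m + 1), i < j → ∀ t : F,
        ∃ g ∈ K, (g : Matrix (Fin (m + 1) ⊕ Fin (m + 1)) (Fin (m + 1) ⊕ Fin (m + 1)) F) =
          Matrix.fromBlocks (transvection i j t) 0 0 (transvection j i (-t))) →
      (∀ k : Fin m, ∀ t : F,
        ∃ g ∈ K, (g : Matrix (Fin (m + 1) ⊕ Fin (m + 1)) (Fin (m + 1) ⊕ Fin (m + 1)) F) =
          Matrix.fromBlocks (transvection k.succ k.castSucc t) 0 0
            (transvection k.castSucc k.succ (-t))) →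
      (∀ t : F,
        ∃ g ∈ K, (g : Matrix (Fin (m + 1) ⊕ Fin (m + 1)) (Fin (m + 1) ⊕ Fin (m + 1)) F) =
          Matrix.fromBlocks 1 0 (Matrix.single (Fin.last m) (Fin.last m) t) 1) → K = ⊤)
    (hsyl : ∀ U' : Subgroup (symplecticGroup (Fin (m + 1)) F), IsPGroup p U' →
      (∀ A A' : Matrix (Fin (m + 1)) (Fin (m + 1)) F, IsUT A → A * A' = 1 →
        ∃ g ∈ U', (g : Matrix (Fin (m + 1) ⊕ Fin (m + 1)) (Fin (m + 1) ⊕ Fin (m + 1)) F) =
          Matrix.fromBlocks A 0 0 A'ᵀ) →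
      (∀ S : Matrix (Fin (m + 1)) (Fin (m + 1)) F, Sᵀ = S →
        ∃ g ∈ U', (g : Matrix (Fin (m + 1) ⊕ Fin (m + 1)) (Fin (m + 1) ⊕ Fin (m + 1)) F) =
          Matrix.fromBlocks 1 S 0 1) → ¬ p ∣ U'.index) :
    ∃ χ : symplecticGroup (Fin (m + 1)) F ⧸ Subgroup.center (symplecticGroup (Fin (m + 1)) F) → ℂ,
      Cfsg.IsIrrCharacter (symplecticGroup (Fin (m + 1)) F ⧸
        Subgroup.center (symplecticGroup (Fin (m + 1)) F)) χ ∧
      ∀ P : Sylow p (symplecticGroup (Fin (m + 1)) F ⧸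
        Subgroup.center (symplecticGroup (Fin (m + 1)) F)),
        χ 1 = Nat.card P ∧ ∀ x : symplecticGroup (Fin (m + 1)) F ⧸
        Subgroup.center (symplecticGroup (Fin (m + 1)) F), x ∈ P → x ≠ 1 → χ x = 0 := by
  classical
  letI : Fintype (WSp m) := Fintype.ofFinite _
  obtain ⟨ε, hε⟩ := hsign
  obtain ⟨f, hp, hF⟩ := FiniteField.card F p
  have hUp : IsPGroup p (USp m F) :=
    (IsPGroup.of_card (n := f * ∑ j : Fin ((m + 1) + (m + 1)), (j : ℕ))
      (by rw [card_Uni, hF, pow_mul])).comap_of_injective (psi m F) psi_injective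
  have hUi : ¬ p ∣ (USp m F).index :=
    hsyl (USp m F) hUp (fun A A' hA h => ⟨_, levi_mem_USp A A' hA h, rfl⟩)
      (fun S hS => ⟨_, siegel_mem_USp S hS, rfl⟩)
  -- generation
  have hgen' : Subgroup.closure (((USp m F : Subgroup (symplecticGroup (Fin (m + 1)) F)) :
      Set (symplecticGroup (Fin (m + 1)) F)) ∪ Set.range nn) = ⊤ := by
    obtain ⟨K, hK⟩ : ∃ K : Subgroup (symplecticGroup (Fin (m + 1)) F), K = Subgroup.closure
      (((USp m F : Subgroup (symplecticGroup (Fin (m + 1)) F)) :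
        Set (symplecticGroup (Fin (m + 1)) F)) ∪ Set.range nn) := ⟨_, rfl⟩
    rw [← hK]
    have hU : ∀ g ∈ USp m F, g ∈ K := fun g hg => by
      rw [hK]; exact Subgroup.subset_closure (Or.inl hg)
    have hn : ∀ o, (nn o : symplecticGroup (Fin (m + 1)) F) ∈ K := fun o => by
      rw [hK]; exact Subgroup.subset_closure (Or.inr ⟨o, rfl⟩)
    refine hgen K (fun S hS => ⟨_, hU _ (siegel_mem_USp S hS), rfl⟩)
      (fun i j hij t => ⟨_, hU _ (xd_mem_USp i j hij t), rfl⟩) ?_ ?_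
    · intro k t
      refine ⟨xd k.succ k.castSucc (cs_ne k).symm t, ?_, rfl⟩
      rw [← ns_conj k t]
      exact K.mul_mem (K.mul_mem (hn (some k)) (hU _ (xd_mem_USp _ _ Fin.castSucc_lt_succ _)))
        (K.inv_mem (hn (some k)))
    · intro t
      refine ⟨yl (Fin.last m) t, ?_, rfl⟩
      rw [← nl_conj t]
      exact K.mul_mem (K.mul_mem (hn none) (hU _ (xl_mem_USp _ _))) (K.inv_mem (hn none))
  refine Cfsg.Agent.H78.StM.steinberg_main p (USp m F)
    (fun w : WSp m => (apt w.1 : Flg ((m + 1) + (m + 1)) F))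
    (fun w => (((ε w : ℤˣ) : ℤ) : ℂ)) (apt 1)
    (fun u hu => uni_smul_apt_one (psi m F u) hu) ?_ ⟨Fin.revPerm, hrevmem⟩ ?_ ?_
    nn XX (fun o w => sgenW o * w) WpS hgen' ?_ ?_ ?_ (fun o w => mem_WpS_iff o w) ?_ ?_ ?_ ?_
    hUp hUi (Subgroup.center _)
    (fun z hz => ⟨fun u _ => (Subgroup.mem_center_iff.mp hz u).symm,
      fun w => center_smul z hz w.1⟩)
  · -- orbit
    intro w
    obtain ⟨g, hg⟩ := orbit_wsp (F := F) w.1 w.2
    exact ⟨g, by rw [sp_smul_def, hg, mul_one]⟩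
  · -- sign of w₀
    rcases Int.units_eq_one_or (ε ⟨Fin.revPerm, hrevmem⟩) with h | h <;> simp [h]
  · -- big cell
    intro v hv w h
    obtain ⟨h1, h2⟩ := big_cell (psi m F v) hv w.1 h
    exact ⟨(map_eq_one_iff _ psi_injective).mp h1, Subtype.ext h2⟩
  · -- involutions
    intro o w
    apply Subtype.ext
    exact sgen_mul_self o w.1
  · -- sign
    intro o w
    have h1 : ε (sgenW o * w) = - ε w := by
      rw [map_mul]
      show ε ⟨sgen m o, _⟩ * ε w = _
      rw [hε o, neg_one_mul]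
    rw [h1]
    push_cast
    rfl
  · -- monomial action
    intro o w
    exact psi_nn_smul o w.1
  · -- root groups in U
    intro o x hx
    cases o with
    | none =>
      obtain ⟨t, rfl⟩ := hx
      exact xl_mem_USp _ t
    | some k =>
      obtain ⟨t, rfl⟩ := hx
      exact xd_mem_USp _ _ Fin.castSucc_lt_succ t
  · -- root groups fix the positive half
    intro o x hx w hw
    cases o with
    | none =>
      obtain ⟨t, rfl⟩ := hx
      rw [sp_smul_def, psi_xl]
      exact xE_smul_apt _ _ _ t w.1 hw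
    | some k =>
      obtain ⟨t, rfl⟩ := hx
      rw [sp_smul_def, psi_xd]
      exact dbl_x_smul_apt _ _ _ _ _ _ t (-t) w.1 hw (pF_lt_of_rev hrev w k hw)
  · -- rank one
    intro o x hx hx1
    cases o with
    | none =>
      obtain ⟨t, rfl⟩ := hx
      have ht : t ≠ 0 := by
        rintro rfl
        exact hx1 (xl_zero _)
      refine ⟨xl (Fin.last m) (-t⁻¹), ⟨_, rfl⟩, fun w hw => ?_⟩
      have h := rank1 (F := F) (pE m (Fin.last m)) (pF m (Fin.last m)) (pE_ne_pF _ _) t ht w.1 hw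
      rw [← psi_nl, ← psi_xl, ← psi_xl, ← map_mul] at h
      exact h
    | some k =>
      obtain ⟨t, rfl⟩ := hx
      have ht : t ≠ 0 := by
        rintro rfl
        exact hx1 (xd_zero _ _ _)
      refine ⟨xd k.castSucc k.succ (cs_ne k) (-t⁻¹), ⟨_, rfl⟩, fun w hw => ?_⟩
      have e : (sgenW (some k) * w : WSp m).1 = Equiv.swap (pE m k.castSucc) (pE m k.succ) *
          (Equiv.swap (pF m k.succ) (pF m k.castSucc) * w.1) := mul_assoc _ _ _
      have h := dbl_rank1 (F := F) (pE m k.castSucc) (pE m k.succ) (pF m k.succ) (pF m k.castSucc)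
        (pE_ne (cs_ne k)) (pF_ne (cs_ne k).symm) (disj_short k) t (-t) ht (neg_ne_zero.mpr ht)
        w.1 hw (pF_lt_of_rev hrev w k hw)
      rw [inv_neg, ← e, ← psi_ns, ← psi_xd, ← psi_xd, ← map_mul] at h
      exact h
  · -- factorisation
    intro o u hu
    cases o with
    | none =>
      obtain ⟨u', hu', t, h1, h2⟩ := factor_long u hu
      exact ⟨u', hu', _, ⟨t, rfl⟩, h1, h2⟩
    | some k =>
      obtain ⟨u', hu', t, h1, h2⟩ := factor_short k u hu
      exact ⟨u', hu', _, ⟨t, rfl⟩, h1, h2⟩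

end Cfsg.Agent.H78.StSp
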