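import Cfsg.Agent.H78.StODefs
import Cfsg.Agent.H78.StSp3
import Cfsg.Agent.H78.StM4
import Cfsg.Agent.H49.Levi

/-!
# Steinberg module for `Ω⁺_{2(m+1)}`: embedding, flag action of `GL`, basic elements (helper78)
-/

set_option autoImplicit false

namespace Cfsg.Agent.H78.StO

open Matrix Cfsg.Agent.H50.AutPSL Cfsg.Agent.H78.StSL Cfsg.Agent.H78.StSp

/-! ### The general linear group acting on flags -/

section GLflags

variable {n : ℕ} {F : Type*} [Field F]

noncomputable instance glAction : MulAction (GL (Fin n) F) (Flg n F) where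
  smul g φ := ⟨fun k => {v | ((g⁻¹ : GL (Fin n) F) : Matrix (Fin n) (Fin n) F) *ᵥ v ∈ φ.s k}⟩
  one_smul φ := Flg.ext' fun k v => by
    show (((1 : GL (Fin n) F)⁻¹ : GL (Fin n) F) : Matrix (Fin n) (Fin n) F) *ᵥ v ∈ φ.s k ↔ _
    rw [inv_one]
    show (1 : Matrix (Fin n) (Fin n) F) *ᵥ v ∈ _ ↔ _
    rw [one_mulVec]
  mul_smul g h φ := Flg.ext' fun k v => by
    show (((g * h)⁻¹ : GL (Fin n) F) : Matrix (Fin n) (Fin n) F) *ᵥ v ∈ φ.s k ↔
      ((h⁻¹ : GL (Fin n) F) : Matrix (Fin n) (Fin n) F) *ᵥ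
        (((g⁻¹ : GL (Fin n) F) : Matrix (Fin n) (Fin n) F) *ᵥ v) ∈ φ.s k
    rw [_root_.mul_inv_rev, mulVec_mulVec]
    rfl

theorem gl_mem_smul (g : GL (Fin n) F) (φ : Flg n F) (k : Fin n) (v : Fin n → F) :
    v ∈ (g • φ).s k ↔ ((g⁻¹ : GL (Fin n) F) : Matrix (Fin n) (Fin n) F) *ᵥ v ∈ φ.s k := Iff.rfl

theorem gl_smul_toGL (s : SpecialLinearGroup (Fin n) F) (φ : Flg n F) :
    (SpecialLinearGroup.toGL s) • φ = s • φ := by
  apply Flg.ext'
  intro k v
  rw [gl_mem_smul, mem_smul, ← map_inv]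
  rfl

theorem toGL_injective : Function.Injective
    (SpecialLinearGroup.toGL : SpecialLinearGroup (Fin n) F →* GL (Fin n) F) := by
  intro a b h
  apply Subtype.ext
  have := congrArg (fun g : GL (Fin n) F => (g : Matrix (Fin n) (Fin n) F)) h
  exact this

/-- Generalized monomial matrices in `GL`. -/
theorem gmono_inv_mul (N : GL (Fin n) F) :
    ((N⁻¹ : GL (Fin n) F) : Matrix (Fin n) (Fin n) F) * (N : Matrix (Fin n) (Fin n) F) = 1 := by
  rw [← Units.val_mul, inv_mul_cancel]
  rfl

theorem gmono_pivot (s : Equiv.Perm (Fin n)) (N : GL (Fin n) F)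
    (hN : ∀ a b, a ≠ s b → (N : Matrix (Fin n) (Fin n) F) a b = 0) (b : Fin n) :
    ((N⁻¹ : GL (Fin n) F) : Matrix (Fin n) (Fin n) F) b (s b) *
      (N : Matrix (Fin n) (Fin n) F) (s b) b = 1 := by
  have h := congrFun (congrFun (gmono_inv_mul N) b) b
  rw [Matrix.mul_apply, Matrix.one_apply_eq, Fintype.sum_eq_single (s b)] at h
  · exact h
  · intro k hk
    rw [hN k b hk, mul_zero]

theorem gmono_inv_zero (s : Equiv.Perm (Fin n)) (N : GL (Fin n) F)
    (hN : ∀ a b, a ≠ s b → (N : Matrix (Fin n) (Fin n) F) a b = 0) (c d : Fin n) (hd : d ≠ s c) :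
    ((N⁻¹ : GL (Fin n) F) : Matrix (Fin n) (Fin n) F) c d = 0 := by
  have hcb : c ≠ s.symm d := by
    intro e
    apply hd
    rw [e, Equiv.apply_symm_apply]
  have h := congrFun (congrFun (gmono_inv_mul N) c) (s.symm d)
  rw [Matrix.mul_apply, Matrix.one_apply_ne hcb, Fintype.sum_eq_single (s (s.symm d))] at h
  · rw [Equiv.apply_symm_apply] at h
    have h2 : (N : Matrix (Fin n) (Fin n) F) d (s.symm d) ≠ 0 := by
      intro h0
      have h1 := gmono_pivot s N hN (s.symm d)
      rw [Equiv.apply_symm_apply, h0, mul_zero] at h1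
      exact zero_ne_one h1
    exact (mul_eq_zero.1 h).resolve_right h2
  · intro k hk
    rw [hN k (s.symm d) hk, mul_zero]

theorem gmono_inv_mulVec (s : Equiv.Perm (Fin n)) (N : GL (Fin n) F)
    (hN : ∀ a b, a ≠ s b → (N : Matrix (Fin n) (Fin n) F) a b = 0) (v : Fin n → F) (c : Fin n) :
    (((N⁻¹ : GL (Fin n) F) : Matrix (Fin n) (Fin n) F) *ᵥ v) c =
      ((N⁻¹ : GL (Fin n) F) : Matrix (Fin n) (Fin n) F) c (s c) * v (s c) := by
  show ∑ d, ((N⁻¹ : GL (Fin n) F) : Matrix (Fin n) (Fin n) F) c d * v d = _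
  rw [Fintype.sum_eq_single (s c)]
  intro d hd
  rw [gmono_inv_zero s N hN c d hd, zero_mul]

/-- A generalized monomial matrix permutes the apartment. -/
theorem gmono_smul_apt (s : Equiv.Perm (Fin n)) (N : GL (Fin n) F)
    (hN : ∀ a b, a ≠ s b → (N : Matrix (Fin n) (Fin n) F) a b = 0) (w : Equiv.Perm (Fin n)) :
    N • (apt w : Flg n F) = apt (s * w) := by
  apply Flg.ext'
  intro k v
  rw [gl_mem_smul, mem_apt, mem_apt]
  have hsymm : ∀ c : Fin n, (s * w).symm (s c) = w.symm c := by
    intro c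
    rw [Equiv.symm_apply_eq]
    simp [Equiv.Perm.mul_apply]
  have hpiv : ∀ c : Fin n, ((N⁻¹ : GL (Fin n) F) : Matrix (Fin n) (Fin n) F) c (s c) ≠ 0 := by
    intro c h0
    have h1 := gmono_pivot s N hN c
    rw [h0, zero_mul] at h1
    exact zero_ne_one h1
  constructor
  · intro h c hc
    have hc' : k < w.symm (s.symm c) := by
      have := hsymm (s.symm c)
      rw [Equiv.apply_symm_apply] at this
      rw [← this]
      exact hc
    have h1 := h (s.symm c) hc'
    rw [gmono_inv_mulVec s N hN, Equiv.apply_symm_apply] at h1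
    have h2 := hpiv (s.symm c)
    rw [Equiv.apply_symm_apply] at h2
    exact (mul_eq_zero.1 h1).resolve_left h2
  · intro h c hc
    rw [gmono_inv_mulVec s N hN]
    have h1 := h (s c) (by rw [hsymm c]; exact hc)
    rw [h1, mul_zero]

/-- Conjugation of a unitriangular matrix by a generalized monomial matrix. -/
theorem gmono_isUT_conj (s : Equiv.Perm (Fin n)) (N : GL (Fin n) F)
    (hN : ∀ a b, a ≠ s b → (N : Matrix (Fin n) (Fin n) F) a b = 0)
    (M : Matrix (Fin n) (Fin n) F) (hM : IsUT M)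
    (h0 : ∀ a b : Fin n, a < b → s b < s a → M a b = 0) :
    IsUT ((N : Matrix (Fin n) (Fin n) F) * M *
      ((N⁻¹ : GL (Fin n) F) : Matrix (Fin n) (Fin n) F)) := by
  have key : ∀ x y : Fin n, ((N : Matrix (Fin n) (Fin n) F) * M *
      ((N⁻¹ : GL (Fin n) F) : Matrix (Fin n) (Fin n) F)) x y =
      (N : Matrix (Fin n) (Fin n) F) x (s.symm x) * M (s.symm x) (s.symm y) *
        ((N⁻¹ : GL (Fin n) F) : Matrix (Fin n) (Fin n) F) (s.symm y) y := by
    intro x y
    rw [Matrix.mul_apply, Fintype.sum_eq_single (s.symm y)]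
    · rw [Matrix.mul_apply, Fintype.sum_eq_single (s.symm x)]
      intro k hk
      have hx : x ≠ s k := by
        intro e
        apply hk
        rw [e, Equiv.symm_apply_apply]
      rw [hN x k hx, zero_mul]
    · intro l hl
      have hy : y ≠ s l := by
        intro e
        apply hl
        rw [e, Equiv.symm_apply_apply]
      rw [gmono_inv_zero s N hN l y hy, mul_zero]
  constructor
  · intro x y hyx
    rw [key]
    have hM0 : M (s.symm x) (s.symm y) = 0 := by
      rcases lt_trichotomy (s.symm x) (s.symm y) with h | h | h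
      · apply h0 _ _ h
        rw [Equiv.apply_symm_apply, Equiv.apply_symm_apply]
        exact hyx
      · have : x = y := s.symm.injective h
        rw [this] at hyx
        exact absurd hyx (lt_irrefl _)
      · exact hM.1 _ _ h
    rw [hM0, mul_zero, zero_mul]
  · intro x
    rw [key, hM.2, mul_one]
    have h1 := gmono_pivot s N hN (s.symm x)
    rw [Equiv.apply_symm_apply] at h1
    rw [mul_comm]
    exact h1

theorem isUT_det (M : Matrix (Fin n) (Fin n) F) (hM : IsUT M) : M.det = 1 := by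
  rw [Matrix.det_of_isUpperTriangular (fun i j hij => hM.1 i j hij)]
  exact Finset.prod_eq_one fun i _ => hM.2 i

end GLflags

/-! ### The embedding of the orthogonal group -/

section Emb

variable {m : ℕ} {F : Type*} [Field F]

/-- The embedding of the orthogonal group into `GL_N` (reordered basis). -/
noncomputable def psiO (m : ℕ) (F : Type*) [Field F] :
    OG m F →* GL (Fin ((m + 1) + (m + 1))) F :=
  (Units.map (Matrix.reindexAlgEquiv F F (eN m)).toRingEquiv.toMonoidHom).comp
    (Subgroup.subtype _)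

theorem psiO_val (g : OG m F) :
    ((psiO m F g : GL (Fin ((m + 1) + (m + 1))) F) :
      Matrix (Fin ((m + 1) + (m + 1))) (Fin ((m + 1) + (m + 1))) F) =
      Matrix.reindexAlgEquiv F F (eN m) (mat g) := rfl

theorem psiO_apply (g : OG m F) (x y : Fin (m + 1) ⊕ Fin (m + 1)) :
    ((psiO m F g : GL (Fin ((m + 1) + (m + 1))) F) :
      Matrix (Fin ((m + 1) + (m + 1))) (Fin ((m + 1) + (m + 1))) F) (eN m x) (eN m y) =
      mat g x y := by
  rw [psiO_val, Matrix.coe_reindexAlgEquiv, Matrix.reindex_apply, Matrix.submatrix_apply,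
    Equiv.symm_apply_apply, Equiv.symm_apply_apply]

theorem psiO_injective : Function.Injective (psiO m F) := by
  intro g h hgh
  apply mat_injective
  ext x y
  rw [← psiO_apply, ← psiO_apply, hgh]

theorem psiO_eq_of_sp (g : OG m F) (s : symplecticGroup (Fin (m + 1)) F) (h : mat g = s.1) :
    psiO m F g = SpecialLinearGroup.toGL (psi m F s) := by
  apply Units.ext
  show Matrix.reindexAlgEquiv F F (eN m) (mat g) = (psi m F s).1
  rw [psi_val, h]

/-- The orthogonal group acts on flags through the embedding. -/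
noncomputable instance oAction : MulAction (OG m F) (Flg ((m + 1) + (m + 1)) F) :=
  MulAction.compHom _ (psiO m F)

theorem o_smul_def (g : OG m F) (φ : Flg ((m + 1) + (m + 1)) F) : g • φ = psiO m F g • φ := rfl

theorem o_smul_of_sl (g : OG m F) (s : SpecialLinearGroup (Fin ((m + 1) + (m + 1))) F)
    (h : SpecialLinearGroup.toGL s = psiO m F g) (φ : Flg ((m + 1) + (m + 1)) F) :
    g • φ = s • φ := by
  rw [o_smul_def, ← h, gl_smul_toGL]

theorem o_smul_of_sp (g : OG m F) (s : symplecticGroup (Fin (m + 1)) F) (h : mat g = s.1)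
    (φ : Flg ((m + 1) + (m + 1)) F) : g • φ = s • φ := by
  rw [o_smul_of_sl g (psi m F s) (psiO_eq_of_sp g s h).symm]
  rfl

/-- The unipotent subgroup. -/
noncomputable def UO (m : ℕ) (F : Type*) [Field F] [Fintype F] : Subgroup (OG m F) :=
  ((Uni ((m + 1) + (m + 1)) F).map SpecialLinearGroup.toGL).comap (psiO m F)

theorem mem_UO [Fintype F] (g : OG m F) :
    g ∈ UO m F ↔ ∃ s ∈ Uni ((m + 1) + (m + 1)) F, SpecialLinearGroup.toGL s = psiO m F g :=
  Iff.rfl

theorem mem_UO_iff_isUT [Fintype F] (g : OG m F) :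
    g ∈ UO m F ↔ IsUT ((psiO m F g : GL (Fin ((m + 1) + (m + 1))) F) :
      Matrix (Fin ((m + 1) + (m + 1))) (Fin ((m + 1) + (m + 1))) F) := by
  constructor
  · rintro ⟨s, hs, h⟩
    rw [← h]
    exact hs
  · intro h
    exact ⟨⟨_, isUT_det _ h⟩, h, Units.ext rfl⟩

theorem isUT_iff_isUniO (g : OG m F) :
    IsUT ((psiO m F g : GL (Fin ((m + 1) + (m + 1))) F) :
      Matrix (Fin ((m + 1) + (m + 1))) (Fin ((m + 1) + (m + 1))) F) ↔ IsUniO g := by
  constructor
  · intro h
    refine ⟨?_, ?_, ?_, ?_, ?_⟩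
    · intro i j
      rw [← psiO_apply]
      apply h.1
      rw [eN_inl, eN_inr]
      exact pE_lt_pF j i
    · intro i j hij
      rw [← psiO_apply]
      apply h.1
      rw [eN_inl, eN_inl, pE_lt_pE]
      exact hij
    · intro i
      rw [← psiO_apply]
      exact h.2 _
    · intro i j hij
      rw [← psiO_apply]
      apply h.1
      rw [eN_inr, eN_inr, pF_lt_pF]
      exact hij
    · intro i
      rw [← psiO_apply]
      exact h.2 _
  · rintro ⟨hC, hA1, hA2, hD1, hD2⟩
    constructor
    · intro a b hba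
      obtain ⟨x, rfl⟩ := (eN m).surjective a
      obtain ⟨y, rfl⟩ := (eN m).surjective b
      rw [psiO_apply]
      rcases x with i | i <;> rcases y with j | j
      · rw [eN_inl, eN_inl, pE_lt_pE] at hba
        exact hA1 i j hba
      · rw [eN_inl, eN_inr] at hba
        exact absurd hba (not_lt.mpr (pE_lt_pF i j).le)
      · exact hC i j
      · rw [eN_inr, eN_inr, pF_lt_pF] at hba
        exact hD1 i j hba
    · intro a
      obtain ⟨x, rfl⟩ := (eN m).surjective a
      rw [psiO_apply]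
      rcases x with i | i
      · exact hA2 i
      · exact hD2 i

theorem mem_UO_iff_isUniO [Fintype F] (g : OG m F) : g ∈ UO m F ↔ IsUniO g := by
  rw [mem_UO_iff_isUT, isUT_iff_isUniO]

/-! ### Levi elements -/

/-- Levi isometry from a pair of mutually inverse matrices. -/
noncomputable def lv (A B : Matrix (Fin (m + 1)) (Fin (m + 1)) F) (hAB : A * B = 1) : OG m F :=
  ⟨⟨fromBlocks A 0 0 Bᵀ, fromBlocks B 0 0 Aᵀ, by
      rw [fromBlocks_multiply]
      simp only [Matrix.mul_zero, Matrix.zero_mul, add_zero, zero_add, ← Matrix.transpose_mul]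
      rw [hAB]
      simp [fromBlocks_one], by
      rw [fromBlocks_multiply]
      simp only [Matrix.mul_zero, Matrix.zero_mul, add_zero, zero_add, ← Matrix.transpose_mul]
      rw [(mul_eq_one_comm.mp hAB)]
      simp [fromBlocks_one]⟩,
    fun u _ => Cfsg.Agent.H49.levi_isometry (m + 1) F A B (mul_eq_one_comm.mp hAB) u⟩

theorem mat_lv (A B : Matrix (Fin (m + 1)) (Fin (m + 1)) F) (hAB : A * B = 1) :
    mat (lv A B hAB) = fromBlocks A 0 0 Bᵀ := rfl

theorem mat_lv_inv (A B : Matrix (Fin (m + 1)) (Fin (m + 1)) F) (hAB : A * B = 1) :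
    mat (lv A B hAB)⁻¹ = fromBlocks B 0 0 Aᵀ := rfl

/-- Short root elements. -/
noncomputable def xdO (i j : Fin (m + 1)) (hij : i ≠ j) (t : F) : OG m F :=
  lv (transvection i j t) (transvection i j (-t))
    (by rw [transvection_mul_transvection_same i j hij, add_neg_cancel, transvection_zero])

theorem mat_xdO (i j : Fin (m + 1)) (hij : i ≠ j) (t : F) :
    mat (xdO i j hij t : OG m F) = (xd i j hij t : symplecticGroup (Fin (m + 1)) F).1 := by
  rw [xd_val]
  show fromBlocks (transvection i j t) 0 0 (transvection i j (-t))ᵀ = _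
  rw [transvection_transpose']

/-- Monomial lift of the short simple reflection. -/
noncomputable def nsO (k : Fin m) : OG m F :=
  xdO k.castSucc k.succ (cs_ne k) 1 * xdO k.succ k.castSucc (cs_ne k).symm (-1) *
    xdO k.castSucc k.succ (cs_ne k) 1

theorem mat_nsO (k : Fin m) :
    mat (nsO k : OG m F) = (ns k : symplecticGroup (Fin (m + 1)) F).1 := by
  unfold nsO ns
  rw [mat_mul, mat_mul, mat_xdO, mat_xdO]
  rfl

/-- Torus elements. -/
noncomputable def dO (d : Fin (m + 1) → Fˣ) : OG m F :=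
  lv (diagonal fun i => (d i : F)) (diagonal fun i => (((d i)⁻¹ : Fˣ) : F))
    (by
      rw [diagonal_mul_diagonal]
      have : (fun i => (d i : F) * (((d i)⁻¹ : Fˣ) : F)) = fun _ => 1 := by
        funext i
        rw [← Units.val_mul, mul_inv_cancel]
        rfl
      rw [this, diagonal_one])

theorem mat_dO (d : Fin (m + 1) → Fˣ) :
    mat (dO d : OG m F) =
      fromBlocks (diagonal fun i => (d i : F)) 0 0 (diagonal fun i => (((d i)⁻¹ : Fˣ) : F)) := by
  show fromBlocks _ 0 0 (diagonal fun i => (((d i)⁻¹ : Fˣ) : F))ᵀ = _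
  rw [diagonal_transpose]

end Emb

end Cfsg.Agent.H78.StO
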