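import Cfsg.Agent.H78.StbRank1

/-!
# S2125-PSI (helper78, for helper23)

If `θ(x_α(t)) = x_α(φ t)`, `θ(x_{-α}(t)) = x_{-α}(ψ t)` with `φ 1 = 1` (`α` fundamental), then
`ψ = φ`, `φ(a⁻¹) = (φ a)⁻¹` and `θ(h_α(a)) = h_α(φ a)`.
-/

set_option autoImplicit false

namespace Cfsg.Agent.H78.Stb

open Cfsg.Lie Cfsg.Agent.H23 Cfsg.Agent.H23.Stb

universe u

variable {D : ChevalleyDatum} {F : Type u} [Field F] {z η : ℕ → ℕ → ℤ}

/-- Root elements are injective in the parameter. -/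
theorem xU_inj (hS : Sem D F z) (hT : Tab D) (hT2 : Tab2 D) (r : ℕ) (hr : r < D.nroots) (a b : F)
    (h : xU hS r a = xU hS r b) : a = b := by
  have h1 : xU hS r (a + -b) = 1 := by
    rw [← xU_mul, ← xU_inv, h, mul_inv_cancel]
  have := xU_eq_one_imp hS hT hT2 r hr _ h1
  linear_combination this

/-- `n_α(t)` as an element of the Chevalley group, as a product of root elements. -/
def nGel (hS : Sem D F z) (r : ℕ) (t : F) : ↥(D.group F) :=
  xG hS r t * xG hS (D.neg r) (-t⁻¹) * xG hS r t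

theorem nGel_coe (hS : Sem D F z) (r : ℕ) (t : F) :
    ((nGel hS r t : ↥(D.group F)) : GL D.Idx F) = nU hS r t := by
  rw [nU_eq]
  rfl

/-- `n_α(t)` conjugates `x_α(v)` to `x_{-α}(q v)` in the Chevalley group. -/
theorem nGel_conj (hS : Sem D F z) (hN : SemN D F η) (hT : Tab D) (i : ℕ) (hi : i < D.rank) (t : F)
    (ht : t ≠ 0) : ∃ q : F, q ≠ 0 ∧ ∀ v : F,
      nGel hS (D.simple i) t * xG hS (D.simple i) v * (nGel hS (D.simple i) t)⁻¹ =
        xG hS (D.neg (D.simple i)) (q * v) := by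
  obtain ⟨q, hq, hqc⟩ := nU_conj_simple hS hN hT i hi t ht
  refine ⟨q, hq, fun v => ?_⟩
  apply Subtype.ext
  have := hqc v
  rw [← nGel_coe] at this
  exact this

/-- `n_α(1)` conjugates `x_α(v)` to `x_{-α}(η v)` in the Chevalley group. -/
theorem nGel_one_conj (hS : Sem D F z) (hN : SemN D F η) (i : ℕ) (hi : i < D.rank)
    (hrl : D.simple i < D.nroots) (v : F) :
    nGel hS (D.simple i) 1 * xG hS (D.simple i) v * (nGel hS (D.simple i) 1)⁻¹ =
      xG hS (D.neg (D.simple i)) (((η i (D.simple i) : ℤ) : F) * v) := by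
  apply Subtype.ext
  have h1 := nU_conj hS hN i hi (D.simple i) hrl v
  rw [reflectRoot_simple, ← nGel_coe] at h1
  exact h1

/-- `h_α(t) = n_α(t) n_α(-1)` in the Chevalley group. -/
theorem hG_eq_nGel (hS : Sem D F z) (r : ℕ) (t : F) :
    hG hS r t = nGel hS r t * nGel hS r (-1) := by
  apply Subtype.ext
  show hU hS r t = _
  rw [hU_eq, ← nGel_coe, ← nGel_coe]
  rfl

theorem psi (h : Cfsg.Agent.H23.Stb.StRank1.{u}) : Cfsg.Agent.H23.Stb.StPsi.{u} := by
  intro D F _ z η rT w0 hC θ i hi φ ψ hφ hψ hφ1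
  have hN := hC.hP.semN
  have hT := hC.hP.tab
  have hT2 := hC.hP.tab2
  have hrl : D.simple i < D.nroots := hT.simple_lt i hi
  have hnl : D.neg (D.simple i) < D.nroots := hT.neg_lt _ hrl
  have hφ0 : ∀ t : F, t ≠ 0 → φ t ≠ 0 := by
    intro t ht h0
    apply ht
    apply φ.injective
    rw [h0, map_zero]
  -- the image of `n_α(t)`
  have hθn : ∀ t : F, θ (nGel hC.hP.sem (D.simple i) t) =
      xG hC.hP.sem (D.simple i) (φ t) * xG hC.hP.sem (D.neg (D.simple i)) (ψ (-t⁻¹)) *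
        xG hC.hP.sem (D.simple i) (φ t) := by
    intro t
    unfold nGel
    rw [map_mul, map_mul, hφ, hψ]
  -- (★)
  have hstar : ∀ t : F, t ≠ 0 → ψ (-t⁻¹) = -(φ t)⁻¹ := by
    intro t ht
    apply h D F z η rT w0 hC i hi (φ t) (ψ (-t⁻¹)) (hφ0 t ht)
    intro u
    obtain ⟨v, rfl⟩ := φ.surjective u
    obtain ⟨q, hq, hqc⟩ := nGel_conj hC.hP.sem hN hT i hi t ht
    refine ⟨ψ (q * v), ?_⟩
    have hG2 := congrArg θ (hqc v)
    rw [map_mul, map_mul, map_inv, hθn, hφ, hψ] at hG2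
    exact congrArg Subtype.val hG2
  have hψ1 : ψ (-1) = -1 := by
    have := hstar 1 one_ne_zero
    rw [inv_one, hφ1, inv_one] at this
    exact this
  have hθn' : ∀ t : F, t ≠ 0 → θ (nGel hC.hP.sem (D.simple i) t) =
      nGel hC.hP.sem (D.simple i) (φ t) := by
    intro t ht
    rw [hθn, hstar t ht]
    rfl
  have hψφ : ∀ t : F, ψ t = φ t := by
    intro t
    have hG2 := congrArg θ (nGel_one_conj hC.hP.sem hN i hi hrl t)
    rw [map_mul, map_mul, map_inv, hθn' 1 one_ne_zero, hφ1, hφ, hψ,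
      nGel_one_conj hC.hP.sem hN i hi hrl (φ t)] at hG2
    have h3 : ((η i (D.simple i) : ℤ) : F) * φ t = ψ (((η i (D.simple i) : ℤ) : F) * t) :=
      xU_inj hC.hP.sem hT hT2 _ hnl _ _ (congrArg Subtype.val hG2)
    rcases hN.eta i (D.simple i) with he | he
    · rw [he] at h3
      simp only [Int.cast_one, one_mul] at h3
      exact h3.symm
    · rw [he] at h3
      simp only [Int.cast_neg, Int.cast_one, neg_mul, one_mul, map_neg] at h3
      exact (neg_injective h3).symm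
  refine ⟨hψφ, ?_, ?_⟩
  · intro a ha
    have := hstar a ha
    rw [hψφ, map_neg] at this
    exact neg_injective this
  · intro a ha
    have hm1 : φ (-1) = -1 := by rw [map_neg, hφ1]
    rw [hG_eq_nGel, map_mul, hθn' a ha, hθn' (-1) (neg_ne_zero.mpr one_ne_zero), hm1, ← hG_eq_nGel]

/-- Verbatim check. -/
example (h : Cfsg.Agent.H23.Stb.StRank1.{u}) : Cfsg.Agent.H23.Stb.StPsi.{u} := psi h

end Cfsg.Agent.H78.Stb
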