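import Cfsg.Agent.H78.BL2
import Cfsg.Agent.S4720
import Cfsg.Agent.S0925
import Cfsg.Agent.H32.Dual
import Cfsg.Agent.H4.BrauerBasic

/-!
# Brauer–Leonard: Fourier coefficients on `P` and their Gram matrix (helper78)
-/

set_option autoImplicit false
set_option linter.style.haveILetI false
set_option linter.unusedSectionVars false

namespace Cfsg.Agent.H78.BL

open Cfsg

open scoped ComplexConjugate

universe u

section Dual

variable {A : Type*} [Group A] [Finite A]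

/-- Column orthogonality for the linear characters of a finite abelian group. -/
theorem sum_hom_apply (hcomm : ∀ a b : A, a * b = b * a) (x : A) :
    ∑ᶠ φ : A →* ℂˣ, ((φ x : ℂˣ) : ℂ) =
      (open Classical in if x = 1 then (Nat.card A : ℂ) else 0) := by
  classical
  letI : Fintype (A →* ℂˣ) := Fintype.ofFinite _
  rw [finsum_eq_sum_of_fintype]
  split_ifs with h
  · subst h
    simp only [map_one, Units.val_one, Finset.sum_const, Finset.card_univ, nsmul_eq_mul, mul_one]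
    letI : CommGroup A := { ‹Group A› with mul_comm := hcomm }
    rw [← Nat.card_eq_fintype_card, CommGroup.card_monoidHom_of_hasEnoughRootsOfUnity A ℂ]
  · have hx : x ∉ (⊥ : Subgroup A) := by rwa [Subgroup.mem_bot]
    have := Cfsg.Agent.H32.sum_dual_eq_zero hcomm ⊥ hx
    rwa [Finset.filter_true_of_mem
      (fun φ _ y hy => by rw [Subgroup.mem_bot.mp hy, map_one])] at this

/-- Fourier inversion on a finite abelian group. -/
theorem fourier (hcomm : ∀ a b : A, a * b = b * a) (F : A → ℂ) (y₀ : A) :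
    F y₀ = ∑ᶠ φ : A →* ℂˣ, ((Nat.card A : ℂ)⁻¹ *
      ∑ᶠ y : A, F y * conj ((φ y : ℂˣ) : ℂ)) * ((φ y₀ : ℂˣ) : ℂ) := by
  classical
  letI : Fintype (A →* ℂˣ) := Fintype.ofFinite _
  letI : Fintype A := Fintype.ofFinite _
  rw [finsum_eq_sum_of_fintype]
  have h1 : ∀ φ : A →* ℂˣ, ((Nat.card A : ℂ)⁻¹ *
      ∑ᶠ y : A, F y * conj ((φ y : ℂˣ) : ℂ)) * ((φ y₀ : ℂˣ) : ℂ) =
      (Nat.card A : ℂ)⁻¹ * ∑ y : A, F y * ((φ (y⁻¹ * y₀) : ℂˣ) : ℂ) := by
    intro φ
    rw [finsum_eq_sum_of_fintype, mul_assoc, Finset.sum_mul]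
    congr 1
    apply Finset.sum_congr rfl
    intro y _
    rw [Cfsg.Agent.H32.unitsHom_conj, MonoidHom.inv_apply, map_mul, map_inv, Units.val_mul]
    ring
  rw [Finset.sum_congr rfl (fun φ _ => h1 φ), ← Finset.mul_sum, Finset.sum_comm]
  have h2 : ∀ y : A, ∑ φ : A →* ℂˣ, F y * ((φ (y⁻¹ * y₀) : ℂˣ) : ℂ) =
      if y = y₀ then F y₀ * (Nat.card A : ℂ) else 0 := by
    intro y
    rw [← Finset.mul_sum, ← finsum_eq_sum_of_fintype, sum_hom_apply hcomm]
    by_cases h : y = y₀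
    · subst h
      simp
    · rw [if_neg h, if_neg (fun h' => h (by rw [inv_mul_eq_one] at h'; exact h')), mul_zero]
  rw [Finset.sum_congr rfl (fun y _ => h2 y), Finset.sum_ite_eq', if_pos (Finset.mem_univ _)]
  have hN : (Nat.card A : ℂ) ≠ 0 := by
    have : 0 < Nat.card A := Nat.card_pos
    exact_mod_cast this.ne'
  field_simp

end Dual

section Main

variable {G : Type u} [Group G] [Finite G] {p : ℕ} [Fact p.Prime] (P : Sylow p G)

theorem exists_mult (χ : IrrCharacter G) (ψ : ↥(P : Subgroup G) →* ℂˣ) :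
    ∃ n : ℤ, (n : ℂ) = (Nat.card ↥(P : Subgroup G) : ℂ)⁻¹ *
      ∑ᶠ y : ↥(P : Subgroup G), (χ : G → ℂ) (y : G) * conj ((ψ y : ℂˣ) : ℂ) := by
  classical
  letI : Fintype ↥(P : Subgroup G) := Fintype.ofFinite _
  obtain ⟨n, hn⟩ := Cfsg.Agent.H4.classInner_isCharacter_nat
    (Cfsg.Agent.H4.isCharacter_restrict (P : Subgroup G)
      (Cfsg.Agent.H4.isCharacter_of_isIrrCharacter χ.2))
    (Cfsg.Agent.H4.isCharacter_of_hom ψ)
  refine ⟨n, ?_⟩
  rw [finsum_eq_sum_of_fintype]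
  push_cast
  rw [← hn]
  rfl

/-- The multiplicity of the linear character `ψ` in the restriction of `χ` to `P`. -/
noncomputable def mult (χ : IrrCharacter G) (ψ : ↥(P : Subgroup G) →* ℂˣ) : ℤ :=
  Classical.choose (exists_mult P χ ψ)

theorem mult_spec (χ : IrrCharacter G) (ψ : ↥(P : Subgroup G) →* ℂˣ) :
    ((mult P χ ψ : ℤ) : ℂ) = (Nat.card ↥(P : Subgroup G) : ℂ)⁻¹ *
      ∑ᶠ y : ↥(P : Subgroup G), (χ : G → ℂ) (y : G) * conj ((ψ y : ℂˣ) : ℂ) :=
  Classical.choose_spec (exists_mult P χ ψ)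

/-- The Fourier coefficient vector: multiplicity of `ψ` minus the multiplicity of `1`. -/
noncomputable def vv (χ : IrrCharacter G) (ψ : ↥(P : Subgroup G) →* ℂˣ) : ℤ :=
  mult P χ ψ - mult P χ 1

/-- The generalized character `ψ - 1` of `P`. -/
noncomputable def thetaFun (ψ : ↥(P : Subgroup G) →* ℂˣ) : ↥(P : Subgroup G) → ℂ :=
  fun y => ((ψ y : ℂˣ) : ℂ) - 1

theorem thetaFun_gen (ψ : ↥(P : Subgroup G) →* ℂˣ) :
    IsGeneralizedCharacter ↥(P : Subgroup G) (thetaFun P ψ) := by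
  refine ⟨fun y => ((ψ y : ℂˣ) : ℂ), fun y => (((1 : ↥(P : Subgroup G) →* ℂˣ) y : ℂˣ) : ℂ),
    Cfsg.Agent.H4.isCharacter_of_hom ψ, Cfsg.Agent.H4.isCharacter_of_hom 1, ?_⟩
  funext y
  simp [thetaFun]

theorem vv_eq (χ : IrrCharacter G) (ψ : ↥(P : Subgroup G) →* ℂˣ) :
    ((vv P χ ψ : ℤ) : ℂ) = (Nat.card ↥(P : Subgroup G) : ℂ)⁻¹ *
      ∑ᶠ y : ↥(P : Subgroup G), (χ : G → ℂ) (y : G) * thetaFun P ψ y⁻¹ := by
  classical
  letI : Fintype ↥(P : Subgroup G) := Fintype.ofFinite _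
  unfold vv
  rw [Int.cast_sub, mult_spec, mult_spec, finsum_eq_sum_of_fintype, finsum_eq_sum_of_fintype,
    finsum_eq_sum_of_fintype, ← mul_sub, ← Finset.sum_sub_distrib]
  congr 1
  apply Finset.sum_congr rfl
  intro y _
  unfold thetaFun
  rw [Cfsg.Agent.H32.unitsHom_conj, Cfsg.Agent.H32.unitsHom_conj, MonoidHom.inv_apply,
    MonoidHom.inv_apply, map_inv]
  simp
  ring

/-- Fourier expansion of a principal block character on `P#`. -/
theorem val_eq_sum [IsMulCommutative P] (χ : IrrCharacter G) (y₀ : ↥(P : Subgroup G))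
    (hy₀ : y₀ ≠ 1) :
    (χ : G → ℂ) (y₀ : G) = ∑ᶠ ψ : ↥(P : Subgroup G) →* ℂˣ,
      ((vv P χ ψ : ℤ) : ℂ) * ((ψ y₀ : ℂˣ) : ℂ) := by
  classical
  letI : Fintype (↥(P : Subgroup G) →* ℂˣ) := Fintype.ofFinite _
  have hcomm : ∀ a b : ↥(P : Subgroup G), a * b = b * a := fun a b => mul_comm' a b
  have h1 := fourier hcomm (fun y : ↥(P : Subgroup G) => (χ : G → ℂ) (y : G)) y₀
  have h2 := sum_hom_apply hcomm y₀
  rw [if_neg hy₀] at h2
  rw [finsum_eq_sum_of_fintype] at h1 h2 ⊢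
  rw [h1]
  have h3 : ∀ ψ : ↥(P : Subgroup G) →* ℂˣ, ((vv P χ ψ : ℤ) : ℂ) * ((ψ y₀ : ℂˣ) : ℂ) =
      ((mult P χ ψ : ℤ) : ℂ) * ((ψ y₀ : ℂˣ) : ℂ) -
        ((mult P χ 1 : ℤ) : ℂ) * ((ψ y₀ : ℂˣ) : ℂ) := by
    intro ψ
    unfold vv
    push_cast
    ring
  rw [Finset.sum_congr rfl (fun ψ _ => h3 ψ), Finset.sum_sub_distrib, ← Finset.mul_sum, h2,
    mul_zero, sub_zero]
  apply Finset.sum_congr rfl
  intro ψ _
  rw [mult_spec]

/-- The Fourier coefficients of the principal character. -/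
theorem vv_triv [IsMulCommutative P] (χ : IrrCharacter G) (hχ : (χ : G → ℂ) = fun _ => 1)
    (ψ : ↥(P : Subgroup G) →* ℂˣ) (hψ : ψ ≠ 1) : vv P χ ψ = -1 := by
  classical
  letI : Fintype ↥(P : Subgroup G) := Fintype.ofFinite _
  have hN : (Nat.card ↥(P : Subgroup G) : ℂ) ≠ 0 := by
    have : 0 < Nat.card ↥(P : Subgroup G) := Nat.card_pos
    exact_mod_cast this.ne'
  have h1 : ((mult P χ ψ : ℤ) : ℂ) = 0 := by
    rw [mult_spec, hχ, finsum_eq_sum_of_fintype]
    simp only [one_mul]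
    rw [← map_sum, Cfsg.Agent.H32.sum_unitsHom_eq_zero ψ hψ, map_zero, mul_zero]
  have h2 : ((mult P χ 1 : ℤ) : ℂ) = 1 := by
    rw [mult_spec, hχ, finsum_eq_sum_of_fintype]
    simp only [MonoidHom.one_apply, Units.val_one, map_one, Finset.sum_const,
      Finset.card_univ, nsmul_eq_mul, mul_one]
    rw [← Nat.card_eq_fintype_card, inv_mul_cancel₀ hN]
  have h3 : ((vv P χ ψ : ℤ) : ℂ) = ((-1 : ℤ) : ℂ) := by
    unfold vv
    push_cast
    rw [h1, h2]
    ring
  exact_mod_cast h3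

/-- The relation on `p`-regular elements. -/
theorem vv_regular {M : Ideal AlgInt} (hM : IsPModular p M)
    (ψ : ↥(P : Subgroup G) →* ℂˣ) (g : G) (hg : ¬ p ∣ orderOf g) :
    ∑ᶠ χ ∈ principalBlock M G, ((vv P χ ψ : ℤ) : ℂ) * (χ : G → ℂ) g = 0 := by
  have hp : p.Prime := Fact.out
  have hB := Cfsg.Agent.H80.isPBlock_principalBlock M G
  have key := Cfsg.Agent.H84.sum_coeff_mul_eq_zero (principalBlock M G) (P : Subgroup G)
    (thetaFun P ψ) (fun χ => (χ : G → ℂ) g) ?_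
  · rw [← key]
    apply finsum_mem_congr rfl
    intro χ _
    rw [vv_eq]
  · intro y hy
    have hy1 : (y : G) ≠ 1 := by
      intro h
      apply hy
      have : y⁻¹ = 1 := by
        rw [inv_eq_one]
        exact Subtype.ext h
      rw [this]
      simp [thetaFun]
    obtain ⟨k, hk⟩ := IsPGroup.iff_orderOf.mp P.2 y
    have hk' : orderOf (y : G) = p ^ k := by
      rw [← hk]
      exact orderOf_injective (P : Subgroup G).subtype (Subgroup.subtype_injective _) y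
    have h1 : IsPPart p (y : G) (y : G) := Cfsg.Agent.H84.isPPart_self hp ⟨k, hk'⟩
    have h2 : IsPPart p g⁻¹ 1 :=
      ⟨g⁻¹, one_mul _, Commute.one_left _, ⟨0, by simp⟩, by rwa [orderOf_inv]⟩
    have h3 : ¬ IsConj (y : G) 1 := by
      intro h
      exact hy1 (isConj_one_left.mp h)
    have := (Cfsg.Agent.S0925.result p M hM).2 (y : G) g⁻¹ (y : G) 1 h1 h2 h3
      (principalBlock M G) hB
    rwa [inv_inv] at this

/-- The Gram matrix of the Fourier coefficient vectors (Brauer–Leonard). -/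
theorem gram {M : Ideal AlgInt} (hM : IsPModular p M) [IsMulCommutative P]
    (hP1 : Nat.card (P : Subgroup G) ≠ 1)
    (hfrob : ∀ y : G, y ∈ (P : Subgroup G) → y ≠ 1 →
      Subgroup.centralizer ({y} : Set G) ⊓ Subgroup.normalizer ((P : Subgroup G) : Set G) =
        Subgroup.centralizer ((P : Subgroup G) : Set G))
    (ψ₁ ψ₂ : ↥(P : Subgroup G) →* ℂˣ) (h₁ : ψ₁ ≠ 1) (h₂ : ψ₂ ≠ 1) :
    ∑ᶠ χ ∈ principalBlock M G, ((vv P χ ψ₁ : ℤ) : ℂ) * ((vv P χ ψ₂ : ℤ) : ℂ) =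
      (((Subgroup.centralizer ((P : Subgroup G) : Set G)).relIndex
        (Subgroup.normalizer ((P : Subgroup G) : Set G)) : ℕ) : ℂ) +
      (open Classical in if Rel P ψ₁ ψ₂ then (1 : ℂ) else 0) := by
  classical
  letI : Fintype ↥(P : Subgroup G) := Fintype.ofFinite _
  letI : Fintype ↥(Subgroup.normalizer ((P : Subgroup G) : Set G)) := Fintype.ofFinite _
  have hCpos : 0 < Nat.card (Subgroup.centralizer ((P : Subgroup G) : Set G)) := Nat.card_pos
  have hPpos : 0 < Nat.card (P : Subgroup G) := Nat.card_pos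
  have hUne : ({u : G | u ∈ (P : Subgroup G) ∧ u ≠ 1}).Nonempty := by
    by_contra hemp
    rw [Set.not_nonempty_iff_eq_empty] at hemp
    apply hP1
    rw [Nat.card_eq_one_iff_unique]
    have ha : ∀ a : ↥(P : Subgroup G), a = 1 := fun a => by
      by_contra h
      have : (a : G) ∈ {u : G | u ∈ (P : Subgroup G) ∧ u ≠ 1} :=
        ⟨a.2, fun h' => h (Subtype.ext h')⟩
      rw [hemp] at this
      exact this
    exact ⟨⟨fun a b => by rw [ha a, ha b]⟩, ⟨1⟩⟩
  have hUN : ∀ n ∈ Subgroup.normalizer ((P : Subgroup G) : Set G),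
      ∀ u ∈ {u : G | u ∈ (P : Subgroup G) ∧ u ≠ 1},
        n * u * n⁻¹ ∈ {u : G | u ∈ (P : Subgroup G) ∧ u ≠ 1} := by
    rintro n hn u ⟨hu, hu1⟩
    refine ⟨(Subgroup.mem_set_normalizer_iff.mp hn u).mp hu, fun h => hu1 ?_⟩
    have h' : u = n⁻¹ * (n * u * n⁻¹) * n := by group
    rw [h', h]
    group
  have hfus : ∀ u ∈ {u : G | u ∈ (P : Subgroup G) ∧ u ≠ 1}, ∀ g : G,
      g * u * g⁻¹ ∈ ((P : Subgroup G) : Set G) →
        ∃ n ∈ Subgroup.normalizer ((P : Subgroup G) : Set G), n * u * n⁻¹ = g * u * g⁻¹ := by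
    rintro u ⟨hu, -⟩ g hg
    obtain ⟨n, hn, h⟩ := P.conj_eq_normalizer_conj_of_mem u g⁻¹ hu (by simpa using hg)
    refine ⟨n⁻¹, Subgroup.inv_mem _ hn, ?_⟩
    simpa using h.symm
  have hw : ∀ y ∈ {u : G | u ∈ (P : Subgroup G) ∧ u ≠ 1},
      ∑ᶠ ψ ∈ principalBlock M ↥(Subgroup.centralizer ({y} : Set G)),
        ((charDegree (ψ : ↥(Subgroup.centralizer ({y} : Set G)) → ℂ) : ℕ) : ℚ) ^ 2 =
      ((Nat.card (P : Subgroup G) : ℚ) /
        (Nat.card (Subgroup.centralizer ((P : Subgroup G) : Set G)) : ℚ)) *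
      (Nat.card ↥(Subgroup.normalizer ((P : Subgroup G) : Set G) ⊓
        Subgroup.centralizer ({y} : Set G)) : ℚ) := by
    rintro y ⟨hy, hy1⟩
    haveI := Cfsg.Agent.H4.finite_irr ↥(Subgroup.centralizer ({y} : Set G))
    have h1 := lambda_centralizer P hM hfrob hy hy1
    have h2 : ∑ᶠ ψ ∈ principalBlock M ↥(Subgroup.centralizer ({y} : Set G)),
        ((charDegree (ψ : ↥(Subgroup.centralizer ({y} : Set G)) → ℂ) : ℕ) : ℚ) ^ 2 =
        ((∑ᶠ ψ ∈ principalBlock M ↥(Subgroup.centralizer ({y} : Set G)),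
          charDegree (ψ : ↥(Subgroup.centralizer ({y} : Set G)) → ℂ) ^ 2 : ℕ) : ℚ) := by
      rw [Nat.cast_finsum_mem (Set.toFinite _)]
      apply finsum_mem_congr rfl
      intro ψ _
      push_cast
      rfl
    rw [h2, h1, inf_comm, hfrob y hy hy1]
    have : (Nat.card (Subgroup.centralizer ((P : Subgroup G) : Set G)) : ℚ) ≠ 0 := by
      exact_mod_cast hCpos.ne'
    field_simp
  have key := Cfsg.Agent.S4720.result p M hM (P : Subgroup G) P.2
    (Subgroup.normalizer ((P : Subgroup G) : Set G)) Subgroup.le_normalizer le_rfl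
    {u : G | u ∈ (P : Subgroup G) ∧ u ≠ 1} hUne (fun u hu => hu.1) hUN hfus
    ((Nat.card (P : Subgroup G) : ℚ) /
      (Nat.card (Subgroup.centralizer ((P : Subgroup G) : Set G)) : ℚ)) hw
    (thetaFun P ψ₁) (thetaFun P ψ₂) (thetaFun_gen P ψ₁) (thetaFun_gen P ψ₂) ?_
  · have hL : ∑ᶠ χ ∈ principalBlock M G, ((vv P χ ψ₁ : ℤ) : ℂ) * ((vv P χ ψ₂ : ℤ) : ℂ) =
        ∑ᶠ χ ∈ principalBlock M G,
          ((Nat.card ↥(P : Subgroup G) : ℂ)⁻¹ *
            ∑ᶠ y : ↥(P : Subgroup G), (χ : G → ℂ) (y : G) * thetaFun P ψ₁ y⁻¹) *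
          (starRingEnd ℂ) ((Nat.card ↥(P : Subgroup G) : ℂ)⁻¹ *
            ∑ᶠ y : ↥(P : Subgroup G), (χ : G → ℂ) (y : G) * thetaFun P ψ₂ y⁻¹) := by
      apply finsum_mem_congr rfl
      intro χ _
      rw [← vv_eq, ← vv_eq, map_intCast]
    rw [hL, key]
    set f := (P : Subgroup G).normalizerMonoidHom with hf
    -- Step A
    have hA : ∀ y : ↥(P : Subgroup G),
        ∑ᶠ x : ↥(Subgroup.normalizer ((P : Subgroup G) : Set G)),
          extendByZero (P : Subgroup G) (thetaFun P ψ₂) ((x : G) * (y : G) * (x : G)⁻¹) =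
        ∑ x : ↥(Subgroup.normalizer ((P : Subgroup G) : Set G)),
          ((((ψ₂.comp (f x).toMonoidHom) y : ℂˣ) : ℂ) - 1) := by
      intro y
      rw [finsum_eq_sum_of_fintype]
      apply Finset.sum_congr rfl
      intro x _
      exact Cfsg.Agent.H4.extendByZero_coe (P : Subgroup G) (thetaFun P ψ₂) (f x y)
    have hB : ∑ᶠ y : ↥(P : Subgroup G), thetaFun P ψ₁ y * (starRingEnd ℂ)
        (∑ᶠ x : ↥(Subgroup.normalizer ((P : Subgroup G) : Set G)),
          extendByZero (P : Subgroup G) (thetaFun P ψ₂) ((x : G) * (y : G) * (x : G)⁻¹)) =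
        ∑ x : ↥(Subgroup.normalizer ((P : Subgroup G) : Set G)), ∑ y : ↥(P : Subgroup G),
          (((ψ₁ y : ℂˣ) : ℂ) - 1) *
            ((starRingEnd ℂ) (((ψ₂.comp (f x).toMonoidHom) y : ℂˣ) : ℂ) - 1) := by
      rw [finsum_eq_sum_of_fintype, Finset.sum_comm]
      apply Finset.sum_congr rfl
      intro y _
      rw [hA y, map_sum, Finset.mul_sum]
      apply Finset.sum_congr rfl
      intro x _
      rw [map_sub, map_one]
      rfl
    have hPN : (Fintype.card ↥(P : Subgroup G) : ℂ) = (Nat.card ↥(P : Subgroup G) : ℂ) := by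
      rw [Nat.card_eq_fintype_card]
    have hPne : (Nat.card ↥(P : Subgroup G) : ℂ) ≠ 0 := by exact_mod_cast hPpos.ne'
    have hCne : (Nat.card (Subgroup.centralizer ((P : Subgroup G) : Set G)) : ℂ) ≠ 0 := by
      exact_mod_cast hCpos.ne'
    have hC : ∀ x : ↥(Subgroup.normalizer ((P : Subgroup G) : Set G)),
        ∑ y : ↥(P : Subgroup G), (((ψ₁ y : ℂˣ) : ℂ) - 1) *
            ((starRingEnd ℂ) (((ψ₂.comp (f x).toMonoidHom) y : ℂˣ) : ℂ) - 1) =
        (Nat.card ↥(P : Subgroup G) : ℂ) *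
          (if ψ₂.comp (f x).toMonoidHom = ψ₁ then 1 else 0) +
          (Nat.card ↥(P : Subgroup G) : ℂ) := by
      intro x
      have hx1 : ψ₂.comp (f x).toMonoidHom ≠ 1 := by
        intro h
        apply h₂
        refine MonoidHom.ext fun w => ?_
        have := congrArg (fun g : ↥(P : Subgroup G) →* ℂˣ => g ((f x).symm w)) h
        simpa using this
      have e1 := Cfsg.Agent.H32.classInner_unitsHom ψ₁ (ψ₂.comp (f x).toMonoidHom)
      unfold classInner at e1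
      have e1' : ∑ y : ↥(P : Subgroup G), ((ψ₁ y : ℂˣ) : ℂ) *
          (starRingEnd ℂ) (((ψ₂.comp (f x).toMonoidHom) y : ℂˣ) : ℂ) =
          (Nat.card ↥(P : Subgroup G) : ℂ) *
            (if ψ₂.comp (f x).toMonoidHom = ψ₁ then 1 else 0) := by
        have : (if ψ₁ = ψ₂.comp (f x).toMonoidHom then (1 : ℂ) else 0) =
            (if ψ₂.comp (f x).toMonoidHom = ψ₁ then 1 else 0) := by
          simp only [eq_comm]
        rw [← this, ← e1, ← mul_assoc, mul_inv_cancel₀ hPne, one_mul]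
      have e2 := Cfsg.Agent.H32.sum_unitsHom_eq_zero ψ₁ h₁
      have e3 : ∑ y : ↥(P : Subgroup G),
          (starRingEnd ℂ) (((ψ₂.comp (f x).toMonoidHom) y : ℂˣ) : ℂ) = 0 := by
        rw [← map_sum, Cfsg.Agent.H32.sum_unitsHom_eq_zero _ hx1, map_zero]
      have e4 : ∀ y : ↥(P : Subgroup G), (((ψ₁ y : ℂˣ) : ℂ) - 1) *
            ((starRingEnd ℂ) (((ψ₂.comp (f x).toMonoidHom) y : ℂˣ) : ℂ) - 1) =
          ((ψ₁ y : ℂˣ) : ℂ) * (starRingEnd ℂ) (((ψ₂.comp (f x).toMonoidHom) y : ℂˣ) : ℂ) -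
            ((ψ₁ y : ℂˣ) : ℂ) -
            (starRingEnd ℂ) (((ψ₂.comp (f x).toMonoidHom) y : ℂˣ) : ℂ) + 1 := fun y => by ring
      rw [Finset.sum_congr rfl (fun y _ => e4 y), Finset.sum_add_distrib, Finset.sum_sub_distrib,
        Finset.sum_sub_distrib, e1', e2, e3, Finset.sum_const, Finset.card_univ, nsmul_eq_mul,
        mul_one, hPN]
      ring
    have hD : ∑ x : ↥(Subgroup.normalizer ((P : Subgroup G) : Set G)),
        (if ψ₂.comp (f x).toMonoidHom = ψ₁ then (1 : ℂ) else 0) =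
        if Rel P ψ₁ ψ₂ then
          (Nat.card (Subgroup.centralizer ((P : Subgroup G) : Set G)) : ℂ) else 0 := by
      rw [Finset.sum_boole, ← Fintype.card_subtype, ← Nat.card_eq_fintype_card,
        card_conj_eq P hfrob ψ₁ ψ₂ h₁]
      split_ifs <;> simp
    rw [hB, Finset.sum_congr rfl (fun x _ => hC x), Finset.sum_add_distrib, ← Finset.mul_sum, hD,
      Finset.sum_const, Finset.card_univ, nsmul_eq_mul, ← Nat.card_eq_fintype_card,
      card_normalizer P]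
    push_cast
    split_ifs
    · field_simp
      ring
    · field_simp
      ring
  · intro y hy
    have : y = 1 := by
      by_contra h
      exact hy ⟨y.2, fun h' => h (Subtype.ext h')⟩
    rw [this]
    simp [thetaFun]

end Main

end Cfsg.Agent.H78.BL
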