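import Cfsg.Agent.H78.BL3
import Cfsg.Agent.H78.BL4
import Cfsg.Agent.H81.Reg

/-!
# Brauer–Leonard: the principal block for an abelian Sylow subgroup with Frobenius normalizer
(helper78)
-/

set_option autoImplicit false
set_option linter.style.haveILetI false
set_option linter.unusedSectionVars false
set_option linter.unusedVariables false

namespace Cfsg.Agent.H78.BL

open Cfsg

open scoped ComplexConjugate

universe u

/-- A finsum over a set of irreducible characters as a sum over the subtype. -/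
theorem finsum_mem_eq_sum_coe {α R : Type*} [AddCommMonoid R] (B : Set α) [Fintype ↥B]
    (g : α → R) : ∑ᶠ χ ∈ B, g χ = ∑ χ : ↥B, g χ.1 := by
  rw [← finsum_set_coe_eq_finsum_mem, finsum_eq_sum_of_fintype]

/-- A finsum over a set as a sum of indicators. -/
theorem finsum_mem_eq_sum_ite {α R : Type*} [AddCommMonoid R] [Fintype α] (s : Set α)
    [DecidablePred (· ∈ s)] (f : α → R) : ∑ᶠ i ∈ s, f i = ∑ i, if i ∈ s then f i else 0 := by
  rw [finsum_mem_def, finsum_eq_sum_of_fintype]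
  apply Finset.sum_congr rfl
  intro i _
  rw [Set.indicator_apply]

theorem card_hom {A : Type*} [Group A] [Finite A] (hcomm : ∀ a b : A, a * b = b * a) :
    Nat.card (A →* ℂˣ) = Nat.card A := by
  letI : CommGroup A := { ‹Group A› with mul_comm := hcomm }
  exact CommGroup.card_monoidHom_of_hasEnoughRootsOfUnity A ℂ

theorem brauer_leonard {G : Type u} [Group G] [Finite G] (p : ℕ) [Fact p.Prime] (M : Ideal Cfsg.AlgInt) (hM : Cfsg.IsPModular p M) (P : Sylow p G) (hab : IsMulCommutative P) (hP1 : Nat.card P ≠ 1) (m : ℕ) (hm1 : 1 < m) (hm2 : m + 1 < Nat.card P) (hCN : (Subgroup.centralizer ((P : Subgroup G) : Set G)).relIndex (Subgroup.normalizer ((P : Subgroup G) : Set G)) = m) (hcyc : ∃ g : G, g ∈ Subgroup.normalizer ((P : Subgroup G) : Set G) ∧ Subgroup.centralizer ((P : Subgroup G) : Set G) ⊔ Subgroup.zpowers g = Subgroup.normalizer ((P : Subgroup G) : Set G)) (hfrob : ∀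 y : G, y ∈ (P : Subgroup G) → y ≠ 1 → Subgroup.centralizer ({y} : Set G) ⊓ Subgroup.normalizer ((P : Subgroup G) : Set G) = Subgroup.centralizer ((P : Subgroup G) : Set G)) :
    ∃ (s : ℕ) (X Y : Set (Cfsg.IrrCharacter G)), s ≤ m ∧ Cfsg.principalBlock M G = X ∪ Y ∧ Disjoint X Y ∧ Nat.card X = s ∧ Nat.card Y = (Nat.card P - 1) / m ∧ (∃ χ₁ ∈ X, (χ₁ : G → ℂ) = fun _ => 1) ∧ ∃ (a : Cfsg.IrrCharacter G → ℤ) (d δ : ℤ) (ζ : (↥(P : Subgroup G) →* ℂˣ) → Cfsg.IrrCharacter G), (δ = 1 ∨ δ = -1) ∧ (∀ χ ∈ X, a χ ≠ 0 ∧ ∀ z y : G, Cfsg.IsPPart p z y → y ∈ (P : Subgroup G) → y ≠ 1 → (χ : G → ℂ) z = (a χ : ℂ)) ∧ (∀ ψ : ↥(P : Subgroup G) →* ℂˣ, ψ ≠ 1 → ζ ψ ∈ Y) ∧ (∀ η ∈ Y, ∃ ψ : ↥(P : Subgroup G) →* ℂˣ, ψ ≠ 1 ∧ ζ ψ = η) ∧ (∀ ψ ψ' : ↥(P : Subgroup G) →* ℂˣ, ψ ≠ 1 → (∃ n : G, n ∈ Subgroup.normalizer ((P : Subgroup G) : Set G) ∧ ∀ w w' : ↥(P : Subgroup G), (w' : G) = n * w * n⁻¹ → ψ' w' = ψ w) → ζ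 ψ' = ζ ψ) ∧ (∀ ψ : ↥(P : Subgroup G) →* ℂˣ, ψ ≠ 1 → ∀ (z : G) (y : ↥(P : Subgroup G)), Cfsg.IsPPart p z (y : G) → (y : G) ≠ 1 → (ζ ψ : G → ℂ) z = (d : ℂ) + (δ : ℂ) * ∑ᶠ ψ' ∈ {ψ' : ↥(P : Subgroup G) →* ℂˣ | ∃ n : G, n ∈ Subgroup.normalizer ((P : Subgroup G) : Set G) ∧ ∀ w w' : ↥(P : Subgroup G), (w' : G) = n * w * n⁻¹ → ψ' w' = ψ w}, ((ψ' y : ℂˣ) : ℂ)) ∧ ((d - δ) ^ 2 + ((Nat.card P - 1) / m - 1 : ℤ) * d ^ 2 + ∑ᶠ χ ∈ X, a χ ^ 2 = (m : ℤ) + 1) ∧ (∀ η ∈ Y, ∀ η' ∈ Y, ∀ g : G, ¬ p ∣ orderOf g → (η : G → ℂ) g = (η' : G → ℂ) g) ∧ (∀ η ∈ Y, ∀ g : G, ¬ p ∣ orderOf g → ((((Nat.card P - 1) / m : ℕ) : ℂ) * d - δ) * (η : G → ℂ) g + ∑ᶠ χ ∈ X, (a χ : ℂ) * (χ : G → ℂ) g = 0) := by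
  classical
  haveI := hab
  haveI := Cfsg.Agent.H4.finite_irr G
  letI := Cfsg.Agent.H4.fintypeIrr G
  letI : Fintype (↥(P : Subgroup G) →* ℂˣ) := Fintype.ofFinite _
  letI : Fintype ↥(principalBlock M G) := Fintype.ofFinite _
  have hMp := Cfsg.Agent.H20.isPrime_of_isPModular hM
  have hp : p.Prime := Fact.out
  have hcomm : ∀ a b : ↥(P : Subgroup G), a * b = b * a := fun a b => mul_comm' a b
  have hm0 : 0 < m := by omega
  -- the Gram matrix over the subtype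
  have hG : ∀ i j : {ψ : ↥(P : Subgroup G) →* ℂˣ // ψ ≠ 1},
      ∑ χ : ↥(principalBlock M G), vv P χ.1 i.1 * vv P χ.1 j.1 =
        (m : ℤ) + if Rel P i.1 j.1 then 1 else 0 := by
    intro i j
    have h := gram P hM hP1 hfrob i.1 j.1 i.2 j.2
    rw [finsum_mem_eq_sum_coe, hCN] at h
    have h' : ((∑ χ : ↥(principalBlock M G), vv P χ.1 i.1 * vv P χ.1 j.1 : ℤ) : ℂ) =
        (((m : ℤ) + if Rel P i.1 j.1 then 1 else 0 : ℤ) : ℂ) := by
      push_cast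
      rw [h]
    exact_mod_cast h'
  have hD0 : ∀ i : {ψ : ↥(P : Subgroup G) →* ℂˣ // ψ ≠ 1},
      ∑ χ : ↥(principalBlock M G), vv P χ.1 i.1 * (charDegree (χ.1 : G → ℂ) : ℤ) = 0 := by
    intro i
    have h := vv_regular P hM i.1 1 (by rw [orderOf_one]; exact hp.not_dvd_one)
    rw [finsum_mem_eq_sum_coe] at h
    have h' : ((∑ χ : ↥(principalBlock M G),
        vv P χ.1 i.1 * (charDegree (χ.1 : G → ℂ) : ℤ) : ℤ) : ℂ) = ((0 : ℤ) : ℂ) := by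
      push_cast
      rw [← h]
      apply Finset.sum_congr rfl
      intro χ _
      rw [(Cfsg.Agent.H81.irr_charDegree χ.1).1]
    exact_mod_cast h'
  have hD : ∀ i j : {ψ : ↥(P : Subgroup G) →* ℂˣ // ψ ≠ 1},
      ∑ χ : ↥(principalBlock M G),
        (vv P χ.1 i.1 - vv P χ.1 j.1) * (charDegree (χ.1 : G → ℂ) : ℤ) = 0 := by
    intro i j
    simp only [sub_mul]
    rw [Finset.sum_sub_distrib, hD0 i, hD0 j, sub_zero]
  have hRrefl : ∀ ψ : ↥(P : Subgroup G) →* ℂˣ, Rel P ψ ψ := by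
    intro ψ
    refine ⟨1, Subgroup.one_mem _, fun w w' h => ?_⟩
    have : w' = w := Subtype.ext (by rw [h]; group)
    rw [this]
  -- counting characters
  have hcardP : Nat.card (↥(P : Subgroup G) →* ℂˣ) = Nat.card (P : Subgroup G) := card_hom hcomm
  have hι : Nat.card {ψ : ↥(P : Subgroup G) →* ℂˣ // ψ ≠ 1} = Nat.card (P : Subgroup G) - 1 := by
    rw [← hcardP, Nat.card_eq_fintype_card, Nat.card_eq_fintype_card]
    exact Set.card_ne_eq (1 : ↥(P : Subgroup G) →* ℂˣ)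
  have horb : ∀ i : {ψ : ↥(P : Subgroup G) →* ℂˣ // ψ ≠ 1},
      Nat.card {j : {ψ : ↥(P : Subgroup G) →* ℂˣ // ψ ≠ 1} // Rel P i.1 j.1} = m := by
    intro i
    rw [← hCN, ← card_orbit P hfrob i.1 i.2]
    apply Nat.card_congr
    exact
      { toFun := fun j => ⟨j.1.1, j.2⟩
        invFun := fun ψ => ⟨⟨ψ.1, by
          rintro h
          obtain ⟨n, hn, hw⟩ := ψ.2
          apply i.2
          refine MonoidHom.ext fun w => ?_
          have := hw w ⟨n * w * n⁻¹, (Subgroup.mem_set_normalizer_iff.mp hn w).mp w.2⟩ rfl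
          rw [← this, h]
          rfl⟩, ψ.2⟩
        left_inv := fun j => rfl
        right_inv := fun ψ => rfl }
  have hne : ∃ i j : {ψ : ↥(P : Subgroup G) →* ℂˣ // ψ ≠ 1}, ¬ Rel P i.1 j.1 := by
    have hpos : 0 < Nat.card {ψ : ↥(P : Subgroup G) →* ℂˣ // ψ ≠ 1} := by rw [hι]; omega
    obtain ⟨i⟩ := (Nat.card_pos_iff.mp hpos).1
    refine ⟨i, ?_⟩
    by_contra hall
    push Not at hall
    have h1 : Nat.card {ψ : ↥(P : Subgroup G) →* ℂˣ // ψ ≠ 1} ≤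
        Nat.card {j : {ψ : ↥(P : Subgroup G) →* ℂˣ // ψ ≠ 1} // Rel P i.1 j.1} :=
      Nat.card_le_card_of_injective (fun j => ⟨j, hall j⟩)
        (fun a b h => by simpa using h)
    rw [horb i, hι] at h1
    omega
  obtain ⟨Θ, δ, c, hδ, hform, hΘ⟩ := lattice_structure
    (fun (i : {ψ : ↥(P : Subgroup G) →* ℂˣ // ψ ≠ 1}) (χ : ↥(principalBlock M G)) =>
      vv P χ.1 i.1)
    (fun χ : ↥(principalBlock M G) => (charDegree (χ.1 : G → ℂ) : ℤ))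
    (fun χ => by exact_mod_cast (Cfsg.Agent.H81.irr_charDegree χ.1).2)
    (m : ℤ) (fun i j => Rel P i.1 j.1) (fun i => hRrefl i.1) hG hD hne
  obtain ⟨i₀, j₀, hij₀⟩ := hne
  have hδ2 : δ ^ 2 = 1 := by rcases hδ with h | h <;> rw [h] <;> norm_num
  have hδ0 : δ ≠ 0 := by rcases hδ with h | h <;> rw [h] <;> norm_num
  have hN1 : ∀ i, ∑ χ : ↥(principalBlock M G), c χ ^ 2 + 2 * δ * c (Θ i) = m := by
    intro i
    have h := hG i i
    rw [if_pos (hRrefl i.1)] at h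
    have e : ∀ χ : ↥(principalBlock M G), vv P χ.1 i.1 * vv P χ.1 i.1 =
        c χ ^ 2 + 2 * δ * (if χ = Θ i then c χ else 0) + (if χ = Θ i then 1 else 0) := by
      intro χ
      rw [hform i χ]
      split_ifs
      · have : (c χ + δ) * (c χ + δ) = c χ ^ 2 + 2 * δ * c χ + δ ^ 2 := by ring
        rw [this, hδ2]
      · ring
    rw [Finset.sum_congr rfl (fun χ _ => e χ), Finset.sum_add_distrib, Finset.sum_add_distrib,
      ← Finset.mul_sum, Finset.sum_ite_eq', Finset.sum_ite_eq', if_pos (Finset.mem_univ _),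
      if_pos (Finset.mem_univ _)] at h
    linarith
  have hcΘ : ∀ i, c (Θ i) = c (Θ i₀) := by
    intro i
    have h1 := hN1 i
    have h2 := hN1 i₀
    have h3 : δ * (c (Θ i) - c (Θ i₀)) = 0 := by linarith
    rcases mul_eq_zero.mp h3 with h | h
    · exact absurd h hδ0
    · linarith
  have hRel1 : ∀ ψ ψ' : ↥(P : Subgroup G) →* ℂˣ, ψ ≠ 1 → Rel P ψ ψ' → ψ' ≠ 1 := by
    rintro ψ ψ' hψ ⟨n, hn, hw⟩ h
    apply hψ
    refine MonoidHom.ext fun w => ?_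
    have := hw w ⟨n * w * n⁻¹, (Subgroup.mem_set_normalizer_iff.mp hn w).mp w.2⟩ rfl
    rw [← this, h]
    rfl
  obtain ⟨Y, hY⟩ : ∃ Y : Set (IrrCharacter G), Y = {χ | ∃ i, (Θ i).1 = χ} := ⟨_, rfl⟩
  obtain ⟨X, hX⟩ : ∃ X : Set (IrrCharacter G), X = {χ | χ ∈ principalBlock M G ∧ χ ∉ Y} :=
    ⟨_, rfl⟩
  obtain ⟨a, ha⟩ : ∃ a : IrrCharacter G → ℤ,
      a = fun χ => if h : χ ∈ principalBlock M G then - c ⟨χ, h⟩ else 0 := ⟨_, rfl⟩
  obtain ⟨d, hd⟩ : ∃ d : ℤ, d = - c (Θ i₀) := ⟨_, rfl⟩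
  obtain ⟨ζ, hζ⟩ : ∃ ζ : (↥(P : Subgroup G) →* ℂˣ) → IrrCharacter G,
      ζ = fun ψ => if h : ψ ≠ 1 then (Θ ⟨ψ, h⟩).1 else (Θ i₀).1 := ⟨_, rfl⟩
  have hYmem : ∀ χ, χ ∈ Y ↔ ∃ i, (Θ i).1 = χ := fun χ => by rw [hY]; rfl
  have hXmem : ∀ χ, χ ∈ X ↔ χ ∈ principalBlock M G ∧ χ ∉ Y := fun χ => by rw [hX]; rfl
  have hYB : ∀ χ ∈ Y, χ ∈ principalBlock M G := by
    intro χ hχ
    obtain ⟨i, rfl⟩ := (hYmem χ).mp hχ
    exact (Θ i).2
  have ha_eq : ∀ χ : ↥(principalBlock M G), a χ.1 = - c χ := by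
    intro χ
    rw [ha]
    simp only
    rw [dif_pos χ.2]
  have haY : ∀ χ ∈ Y, a χ = d := by
    intro χ hχ
    obtain ⟨i, rfl⟩ := (hYmem χ).mp hχ
    rw [ha_eq (Θ i), hcΘ i, hd]
  have hζ_eq : ∀ i : {ψ : ↥(P : Subgroup G) →* ℂˣ // ψ ≠ 1}, ζ i.1 = (Θ i).1 := by
    intro i
    rw [hζ]
    simp only
    rw [dif_pos i.2]
  have hBXY : principalBlock M G = X ∪ Y := by
    ext χ
    rw [Set.mem_union, hXmem]
    constructor
    · intro h
      by_cases hy : χ ∈ Y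
      · exact Or.inr hy
      · exact Or.inl ⟨h, hy⟩
    · rintro (h | h)
      · exact h.1
      · exact hYB χ h
  have hdisj : Disjoint X Y := by
    rw [Set.disjoint_left]
    intro χ hx hy
    exact ((hXmem χ).mp hx).2 hy
  -- values on `P#`
  have hval : ∀ (χ : ↥(principalBlock M G)) (y : ↥(P : Subgroup G)), y ≠ 1 →
      (χ.1 : G → ℂ) (y : G) = - (c χ : ℂ) + (δ : ℂ) * ∑ ψ : ↥(P : Subgroup G) →* ℂˣ,
        (if h : ψ ≠ 1 then (if χ = Θ ⟨ψ, h⟩ then ((ψ y : ℂˣ) : ℂ) else 0) else 0) := by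
    intro χ y hy
    rw [val_eq_sum P χ.1 y hy, finsum_eq_sum_of_fintype]
    have h0 := sum_hom_apply hcomm y
    rw [if_neg hy, finsum_eq_sum_of_fintype] at h0
    have e : ∀ ψ : ↥(P : Subgroup G) →* ℂˣ, ((vv P χ.1 ψ : ℤ) : ℂ) * ((ψ y : ℂˣ) : ℂ) =
        (c χ : ℂ) * ((ψ y : ℂˣ) : ℂ) - (if ψ = 1 then (c χ : ℂ) else 0) +
          (δ : ℂ) * (if h : ψ ≠ 1 then (if χ = Θ ⟨ψ, h⟩ then ((ψ y : ℂˣ) : ℂ) else 0)
            else 0) := by
      intro ψ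
      by_cases h : ψ = 1
      · subst h
        have h' : vv P χ.1 1 = 0 := by
          unfold vv
          ring
        rw [h']
        simp
      · have h'' : ψ ≠ 1 := h
        rw [dif_pos h'', if_neg h]
        have h3 := hform ⟨ψ, h''⟩ χ
        simp only at h3
        rw [h3]
        split_ifs <;> push_cast <;> ring
    rw [Finset.sum_congr rfl (fun ψ _ => e ψ), Finset.sum_add_distrib, Finset.sum_sub_distrib,
      ← Finset.mul_sum, ← Finset.mul_sum, h0, Finset.sum_ite_eq', if_pos (Finset.mem_univ _)]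
    ring
  -- an element of `P#`
  obtain ⟨y₁, hy₁⟩ : ∃ y₁ : ↥(P : Subgroup G), y₁ ≠ 1 := by
    by_contra hall
    push Not at hall
    apply hP1
    rw [Nat.card_eq_one_iff_unique]
    exact ⟨⟨fun a b => by rw [hall a, hall b]⟩, ⟨1⟩⟩
  have hy₁G : (y₁ : G) ≠ 1 := fun h => hy₁ (Subtype.ext h)
  -- values of the members of `X`
  have hXy : ∀ χ ∈ X, ∀ y : ↥(P : Subgroup G), y ≠ 1 → (χ : G → ℂ) (y : G) = (a χ : ℂ) := by
    intro χ hχ y hy
    obtain ⟨hB, hnY⟩ := (hXmem χ).mp hχ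
    have h1 := hval ⟨χ, hB⟩ y hy
    have h2 : ∑ ψ : ↥(P : Subgroup G) →* ℂˣ,
        (if h : ψ ≠ 1 then (if (⟨χ, hB⟩ : ↥(principalBlock M G)) = Θ ⟨ψ, h⟩ then
          ((ψ y : ℂˣ) : ℂ) else 0) else 0) = 0 := by
      apply Finset.sum_eq_zero
      intro ψ _
      by_cases h : ψ ≠ 1
      · rw [dif_pos h, if_neg]
        intro h'
        apply hnY
        rw [hYmem]
        exact ⟨⟨ψ, h⟩, by rw [← h']⟩
      · rw [dif_neg h]
    rw [h2, mul_zero, add_zero] at h1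
    have h3 := ha_eq ⟨χ, hB⟩
    simp only at h3
    rw [h1, h3]
    push_cast
    rfl
  have hXval : ∀ χ ∈ X, a χ ≠ 0 ∧ ∀ z y : G, Cfsg.IsPPart p z y → y ∈ (P : Subgroup G) →
      y ≠ 1 → (χ : G → ℂ) z = (a χ : ℂ) := by
    intro χ hχ
    have hB := ((hXmem χ).mp hχ).1
    refine ⟨?_, fun z y hzy hy hy1 => ?_⟩
    · intro h0
      have h1 := hXy χ hχ y₁ hy₁
      rw [h0, Int.cast_zero] at h1
      exact principal_val_ne_zero P hM χ hB y₁.2 h1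
    · rw [principal_const P hM hfrob χ hB hzy hy hy1]
      exact hXy χ hχ ⟨y, hy⟩ (fun h => hy1 (congrArg Subtype.val h))
  -- values of the members of `Y`
  have hYy : ∀ (i : {ψ : ↥(P : Subgroup G) →* ℂˣ // ψ ≠ 1}) (y : ↥(P : Subgroup G)), y ≠ 1 →
      ((Θ i).1 : G → ℂ) (y : G) = (d : ℂ) + (δ : ℂ) *
        ∑ᶠ ψ' ∈ {ψ' : ↥(P : Subgroup G) →* ℂˣ | Rel P i.1 ψ'}, ((ψ' y : ℂˣ) : ℂ) := by
    intro i y hy
    rw [hval (Θ i) y hy, finsum_mem_eq_sum_ite, hcΘ i, hd]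
    push_cast
    congr 2
    apply Finset.sum_congr rfl
    intro ψ _
    by_cases h : ψ ≠ 1
    · rw [dif_pos h]
      have := hΘ i ⟨ψ, h⟩
      simp only at this
      by_cases hR : Rel P i.1 ψ
      · rw [if_pos (this.mp hR)]
        exact (if_pos (show ψ ∈ {ψ' : ↥(P : Subgroup G) →* ℂˣ | Rel P i.1 ψ'} from hR)).symm
      · rw [if_neg (fun h' => hR (this.mpr h'))]
        exact (if_neg (show ψ ∉ {ψ' : ↥(P : Subgroup G) →* ℂˣ | Rel P i.1 ψ'} from hR)).symm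
    · rw [dif_neg h]
      refine (if_neg (show ψ ∉ {ψ' : ↥(P : Subgroup G) →* ℂˣ | Rel P i.1 ψ'} from ?_)).symm
      intro hR
      exact hRel1 i.1 ψ i.2 hR (not_not.mp h)
  -- counting `Y`
  letI : Fintype {ψ : ↥(P : Subgroup G) →* ℂˣ // ψ ≠ 1} := Fintype.ofFinite _
  obtain ⟨T, hT⟩ : ∃ T : Finset ↥(principalBlock M G), T = Finset.univ.image Θ := ⟨_, rfl⟩
  have hfib : ∀ t ∈ T, (Finset.univ.filter (fun j => Θ j = t)).card = m := by
    intro t ht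
    rw [hT, Finset.mem_image] at ht
    obtain ⟨i, -, rfl⟩ := ht
    rw [← horb i, Nat.card_eq_fintype_card, Fintype.card_subtype]
    congr 1
    ext j
    simp only [Finset.mem_filter, Finset.mem_univ, true_and]
    rw [hΘ i j]
    exact eq_comm
  have hTm : T.card * m = Nat.card (P : Subgroup G) - 1 := by
    rw [← hι, Nat.card_eq_fintype_card, ← Finset.card_univ,
      Finset.card_eq_sum_card_image Θ Finset.univ, ← hT, Finset.sum_congr rfl hfib,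
      Finset.sum_const, smul_eq_mul]
  have hrdiv : (Nat.card (P : Subgroup G) - 1) / m = T.card := by
    rw [← hTm]
    exact Nat.mul_div_cancel _ hm0
  have hr2 : 2 ≤ T.card := by
    by_contra h
    have : T.card * m ≤ 1 * m := Nat.mul_le_mul_right m (by omega)
    omega
  have hYT : ∀ χ : IrrCharacter G, χ ∈ Y ↔
      ∃ h : χ ∈ principalBlock M G, (⟨χ, h⟩ : ↥(principalBlock M G)) ∈ T := by
    intro χ
    rw [hYmem, hT]
    constructor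
    · rintro ⟨i, rfl⟩
      exact ⟨(Θ i).2, Finset.mem_image.mpr ⟨i, Finset.mem_univ _, rfl⟩⟩
    · rintro ⟨h, hm⟩
      obtain ⟨i, -, hi⟩ := Finset.mem_image.mp hm
      exact ⟨i, by rw [hi]⟩
  have hcardY : Nat.card ↥Y = T.card := by
    have : Y = (fun t : ↥(principalBlock M G) => t.1) '' (T : Set ↥(principalBlock M G)) := by
      ext χ
      rw [hYT, Set.mem_image]
      constructor
      · rintro ⟨h, hm⟩
        exact ⟨⟨χ, h⟩, hm, rfl⟩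
      · rintro ⟨t, ht, rfl⟩
        exact ⟨t.2, ht⟩
    rw [Nat.card_coe_set_eq, this, Set.ncard_image_of_injective _ Subtype.val_injective,
      Set.ncard_coe_finset]
  have hYfilter : (Finset.univ.filter (fun χ : IrrCharacter G => χ ∈ Y)).card = T.card := by
    rw [← hcardY, Nat.card_eq_fintype_card, Fintype.card_subtype]
  have hXfilter : (Finset.univ.filter (fun χ : IrrCharacter G => χ ∈ X)).card = Nat.card ↥X := by
    rw [Nat.card_eq_fintype_card, Fintype.card_subtype]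
  -- the norm equation
  have hsplit : ∀ (g : IrrCharacter G → ℤ) (e : ℤ), (∀ χ ∈ Y, g χ = e) →
      ∑ᶠ χ ∈ principalBlock M G, g χ = ∑ᶠ χ ∈ X, g χ + (T.card : ℤ) * e := by
    intro g e hge
    rw [finsum_mem_eq_sum_ite, finsum_mem_eq_sum_ite]
    have e1 : ∀ χ : IrrCharacter G, (if χ ∈ principalBlock M G then g χ else 0) =
        (if χ ∈ X then g χ else 0) + (if χ ∈ Y then e else 0) := by
      intro χ
      by_cases hy : χ ∈ Y
      · rw [if_pos (hYB χ hy), if_neg (fun hx => ((hXmem χ).mp hx).2 hy), if_pos hy, hge χ hy,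
          zero_add]
      · by_cases hb : χ ∈ principalBlock M G
        · rw [if_pos hb, if_pos ((hXmem χ).mpr ⟨hb, hy⟩), if_neg hy, add_zero]
        · rw [if_neg hb, if_neg (fun hx => hb ((hXmem χ).mp hx).1), if_neg hy, add_zero]
    rw [Finset.sum_congr rfl (fun χ _ => e1 χ), Finset.sum_add_distrib]
    congr 1
    rw [← Finset.sum_filter, Finset.sum_const, hYfilter, nsmul_eq_mul]
  have hS : ∑ χ : ↥(principalBlock M G), c χ ^ 2 =
      ∑ᶠ χ ∈ X, a χ ^ 2 + (T.card : ℤ) * d ^ 2 := by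
    rw [← hsplit (fun χ => a χ ^ 2) (d ^ 2) (fun χ hχ => by rw [haY χ hχ]),
      finsum_mem_eq_sum_coe]
    apply Finset.sum_congr rfl
    intro χ _
    rw [ha_eq χ]
    ring
  have hnorm0 : ∑ᶠ χ ∈ X, a χ ^ 2 + (T.card : ℤ) * d ^ 2 - 2 * δ * d = m := by
    have h1 := hN1 i₀
    have hd' : c (Θ i₀) = -d := by rw [hd]; ring
    rw [hS, hd'] at h1
    linarith
  have hcardP1 : 1 ≤ Nat.card (P : Subgroup G) := Nat.card_pos
  have hdivZ : ((Nat.card (P : Subgroup G) : ℤ) - 1) / (m : ℤ) = (T.card : ℤ) := by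
    have h1 : ((Nat.card (P : Subgroup G) : ℤ) - 1) = (T.card : ℤ) * (m : ℤ) := by
      have := congrArg (fun n : ℕ => (n : ℤ)) hTm
      rw [Nat.cast_mul, Nat.cast_sub hcardP1] at this
      rw [this]
      norm_num
    rw [h1]
    exact Int.mul_ediv_cancel _ (by exact_mod_cast hm0.ne')
  have hnorm : (d - δ) ^ 2 + (((Nat.card (P : Subgroup G) : ℤ) - 1) / (m : ℤ) - 1) * d ^ 2 +
      ∑ᶠ χ ∈ X, a χ ^ 2 = (m : ℤ) + 1 := by
    rw [hdivZ]
    linear_combination hnorm0 + hδ2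
  -- `|X| ≤ m`
  have hXsum : (Nat.card ↥X : ℤ) ≤ ∑ᶠ χ ∈ X, a χ ^ 2 := by
    rw [finsum_mem_eq_sum_ite, ← hXfilter, Finset.card_filter]
    push_cast
    apply Finset.sum_le_sum
    intro χ _
    by_cases hx : χ ∈ X
    · rw [if_pos hx, if_pos hx]
      have h0 := (hXval χ hx).1
      have : 0 < a χ ^ 2 := by positivity
      omega
    · rw [if_neg hx, if_neg hx]
  have hs : Nat.card ↥X ≤ m := by
    have h1 : 1 ≤ (d - δ) ^ 2 + ((T.card : ℤ) - 1) * d ^ 2 := by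
      by_cases hd0 : d = 0
      · rw [hd0]
        have : (0 - δ) ^ 2 = δ ^ 2 := by ring
        rw [this, hδ2]
        simp
      · have h2 : 0 < d ^ 2 := by positivity
        have h3 : (1 : ℤ) ≤ (T.card : ℤ) - 1 := by
          have : (2 : ℤ) ≤ (T.card : ℤ) := by exact_mod_cast hr2
          linarith
        nlinarith [sq_nonneg (d - δ)]
    have h2 : (d - δ) ^ 2 + ((T.card : ℤ) - 1) * d ^ 2 + ∑ᶠ χ ∈ X, a χ ^ 2 = (m : ℤ) + 1 := by
      rw [← hdivZ]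
      exact hnorm
    have h3 : (Nat.card ↥X : ℤ) ≤ (m : ℤ) := by linarith
    exact_mod_cast h3
  -- the principal character lies in `X`
  have htrivX : Cfsg.Agent.H80.trivChar G ∈ X := by
    have htB : Cfsg.Agent.H80.trivChar G ∈ principalBlock M G :=
      Cfsg.Agent.H80.trivChar_mem_principalBlock hMp
    rw [hXmem]
    refine ⟨htB, fun hy => ?_⟩
    obtain ⟨i, hi⟩ := (hYmem _).mp hy
    have hΘi : Θ i = ⟨Cfsg.Agent.H80.trivChar G, htB⟩ := Subtype.ext hi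
    obtain ⟨j, hj⟩ : ∃ j, Θ j ≠ Θ i := by
      by_cases h : Θ i₀ = Θ i
      · refine ⟨j₀, fun h' => hij₀ ?_⟩
        rw [hΘ, h, h']
      · exact ⟨i₀, h⟩
    have h1 := hform j ⟨Cfsg.Agent.H80.trivChar G, htB⟩
    have h2 := hform i ⟨Cfsg.Agent.H80.trivChar G, htB⟩
    simp only at h1 h2
    rw [vv_triv P (Cfsg.Agent.H80.trivChar G) rfl j.1 j.2, if_neg (by rw [← hΘi]; exact Ne.symm hj)]
      at h1
    rw [vv_triv P (Cfsg.Agent.H80.trivChar G) rfl i.1 i.2, if_pos hΘi.symm] at h2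
    apply hδ0
    linarith
  -- the map `ζ`
  have hζY : ∀ ψ : ↥(P : Subgroup G) →* ℂˣ, ψ ≠ 1 → ζ ψ ∈ Y := by
    intro ψ hψ
    rw [hYmem]
    exact ⟨⟨ψ, hψ⟩, (hζ_eq ⟨ψ, hψ⟩).symm⟩
  have hζsurj : ∀ η ∈ Y, ∃ ψ : ↥(P : Subgroup G) →* ℂˣ, ψ ≠ 1 ∧ ζ ψ = η := by
    intro η hη
    obtain ⟨i, rfl⟩ := (hYmem η).mp hη
    exact ⟨i.1, i.2, hζ_eq i⟩
  have hζconst : ∀ ψ ψ' : ↥(P : Subgroup G) →* ℂˣ, ψ ≠ 1 → Rel P ψ ψ' → ζ ψ' = ζ ψ := by
    intro ψ ψ' hψ hR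
    have hψ' := hRel1 ψ ψ' hψ hR
    have h1 := (hΘ ⟨ψ, hψ⟩ ⟨ψ', hψ'⟩).mp hR
    rw [hζ_eq ⟨ψ, hψ⟩, hζ_eq ⟨ψ', hψ'⟩, h1]
  have hζval : ∀ ψ : ↥(P : Subgroup G) →* ℂˣ, ψ ≠ 1 → ∀ (z : G) (y : ↥(P : Subgroup G)),
      Cfsg.IsPPart p z (y : G) → (y : G) ≠ 1 → (ζ ψ : G → ℂ) z = (d : ℂ) + (δ : ℂ) *
        ∑ᶠ ψ' ∈ {ψ' : ↥(P : Subgroup G) →* ℂˣ | Rel P ψ ψ'}, ((ψ' y : ℂˣ) : ℂ) := by
    intro ψ hψ z y hzy hy1
    rw [hζ_eq ⟨ψ, hψ⟩, principal_const P hM hfrob _ (Θ ⟨ψ, hψ⟩).2 hzy y.2 hy1]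
    exact hYy ⟨ψ, hψ⟩ y (fun h => hy1 (by rw [h]; rfl))
  -- relations on `p`-regular elements
  have hδC : (δ : ℂ) ≠ 0 := by exact_mod_cast hδ0
  have hTreg : ∀ (i : {ψ : ↥(P : Subgroup G) →* ℂˣ // ψ ≠ 1}) (g : G), ¬ p ∣ orderOf g →
      ∑ χ : ↥(principalBlock M G), (c χ : ℂ) * (χ.1 : G → ℂ) g +
        (δ : ℂ) * ((Θ i).1 : G → ℂ) g = 0 := by
    intro i g hg
    have h := vv_regular P hM i.1 g hg
    rw [finsum_mem_eq_sum_coe] at h
    have e : ∀ χ : ↥(principalBlock M G), ((vv P χ.1 i.1 : ℤ) : ℂ) * (χ.1 : G → ℂ) g =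
        (c χ : ℂ) * (χ.1 : G → ℂ) g + (if χ = Θ i then (δ : ℂ) * (χ.1 : G → ℂ) g else 0) := by
      intro χ
      have h3 := hform i χ
      rw [h3]
      split_ifs <;> push_cast <;> ring
    rw [Finset.sum_congr rfl (fun χ _ => e χ), Finset.sum_add_distrib, Finset.sum_ite_eq',
      if_pos (Finset.mem_univ _)] at h
    exact h
  have hYreg : ∀ η ∈ Y, ∀ η' ∈ Y, ∀ g : G, ¬ p ∣ orderOf g →
      (η : G → ℂ) g = (η' : G → ℂ) g := by
    intro η hη η' hη' g hg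
    obtain ⟨i, rfl⟩ := (hYmem η).mp hη
    obtain ⟨j, rfl⟩ := (hYmem η').mp hη'
    have h1 := hTreg i g hg
    have h2 := hTreg j g hg
    have h3 : (δ : ℂ) * (((Θ i).1 : G → ℂ) g - ((Θ j).1 : G → ℂ) g) = 0 := by
      linear_combination h1 - h2
    rcases mul_eq_zero.mp h3 with h | h
    · exact absurd h hδC
    · exact sub_eq_zero.mp h
  have hsplitC : ∀ (g : IrrCharacter G → ℂ) (e : ℂ), (∀ χ ∈ Y, g χ = e) →
      ∑ᶠ χ ∈ principalBlock M G, g χ = ∑ᶠ χ ∈ X, g χ + (T.card : ℂ) * e := by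
    intro g e hge
    rw [finsum_mem_eq_sum_ite, finsum_mem_eq_sum_ite]
    have e1 : ∀ χ : IrrCharacter G, (if χ ∈ principalBlock M G then g χ else 0) =
        (if χ ∈ X then g χ else 0) + (if χ ∈ Y then e else 0) := by
      intro χ
      by_cases hy : χ ∈ Y
      · rw [if_pos (hYB χ hy), if_neg (fun hx => ((hXmem χ).mp hx).2 hy), if_pos hy, hge χ hy,
          zero_add]
      · by_cases hb : χ ∈ principalBlock M G
        · rw [if_pos hb, if_pos ((hXmem χ).mpr ⟨hb, hy⟩), if_neg hy, add_zero]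
        · rw [if_neg hb, if_neg (fun hx => hb ((hXmem χ).mp hx).1), if_neg hy, add_zero]
    rw [Finset.sum_congr rfl (fun χ _ => e1 χ), Finset.sum_add_distrib]
    congr 1
    rw [← Finset.sum_filter, Finset.sum_const, hYfilter, nsmul_eq_mul]
  have hrel : ∀ η ∈ Y, ∀ g : G, ¬ p ∣ orderOf g →
      ((((Nat.card (P : Subgroup G) - 1) / m : ℕ) : ℂ) * d - δ) * (η : G → ℂ) g +
        ∑ᶠ χ ∈ X, (a χ : ℂ) * (χ : G → ℂ) g = 0 := by
    intro η hη g hg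
    obtain ⟨i, hi⟩ := (hYmem η).mp hη
    have h1 := hTreg i g hg
    rw [hi] at h1
    have h2 : ∑ χ : ↥(principalBlock M G), (c χ : ℂ) * (χ.1 : G → ℂ) g =
        ∑ᶠ χ ∈ principalBlock M G, (-(a χ : ℂ)) * (χ : G → ℂ) g := by
      rw [finsum_mem_eq_sum_coe]
      apply Finset.sum_congr rfl
      intro χ _
      rw [ha_eq χ]
      push_cast
      ring
    have h3 := hsplitC (fun χ => (-(a χ : ℂ)) * (χ : G → ℂ) g) ((-(d : ℂ)) * (η : G → ℂ) g)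
      (fun χ hχ => by
        rw [haY χ hχ, hYreg χ hχ η hη g hg])
    have h4 : ∑ᶠ χ ∈ X, (-(a χ : ℂ)) * (χ : G → ℂ) g =
        - ∑ᶠ χ ∈ X, (a χ : ℂ) * (χ : G → ℂ) g := by
      rw [finsum_mem_eq_sum_ite, finsum_mem_eq_sum_ite, ← Finset.sum_neg_distrib]
      apply Finset.sum_congr rfl
      intro χ _
      split_ifs <;> ring
    rw [h2, h3, h4] at h1
    rw [hrdiv]
    linear_combination -h1
  refine ⟨Nat.card ↥X, X, Y, hs, hBXY, hdisj, rfl, ?_, ⟨Cfsg.Agent.H80.trivChar G, htrivX, rfl⟩,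
    a, d, δ, ζ, hδ, hXval, hζY, hζsurj, hζconst, hζval, hnorm, hYreg, hrel⟩
  rw [hcardY, hrdiv]

end Cfsg.Agent.H78.BL
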