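import Mathlib

/-!
# Groups of order `4 g₀` (`g₀` odd) without a normal `2`-complement (helper78)

Pure group theory for Brauer's order formula: the Sylow `2`-subgroups are Klein four groups,
all involutions are conjugate, and centralizers of involutions / of Sylow `2`-subgroups have
normal `2`-complements (Burnside transfer).
-/

set_option autoImplicit false
set_option linter.unusedSectionVars false
set_option linter.style.haveILetI false

namespace Cfsg.Agent.H78.Klein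

open scoped Pointwise

variable {G : Type*} [Group G] [Finite G]

/-- A set with four elements does not contain five distinct elements. -/
theorem no_five (S : Set G) (hS : S.ncard = 4) {a b c d e : G} (ha : a ∈ S) (hb : b ∈ S)
    (hc : c ∈ S) (hd : d ∈ S) (he : e ∈ S) (hab : a ≠ b) (hac : a ≠ c) (had : a ≠ d)
    (hae : a ≠ e) (hbc : b ≠ c) (hbd : b ≠ d) (hbe : b ≠ e) (hcd : c ≠ d) (hce : c ≠ e)
    (hde : d ≠ e) : False := by
  classical
  have h1 : (({a, b, c, d, e} : Finset G) : Set G) ⊆ S := by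
    intro x hx
    simp only [Finset.coe_insert, Finset.coe_singleton, Set.mem_insert_iff,
      Set.mem_singleton_iff] at hx
    rcases hx with rfl | rfl | rfl | rfl | rfl <;> assumption
  have h2 := Set.ncard_le_ncard h1 (Set.toFinite S)
  rw [Set.ncard_coe_finset, hS] at h2
  have h3 : ({a, b, c, d, e} : Finset G).card = 5 := by
    rw [Finset.card_insert_of_notMem, Finset.card_insert_of_notMem,
      Finset.card_insert_of_notMem, Finset.card_insert_of_notMem, Finset.card_singleton]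
    all_goals simp [*]
  omega

theorem isPGroup_zpowers {p : ℕ} (x : G) (k : ℕ) (hk : x ^ p ^ k = 1) :
    IsPGroup p (Subgroup.zpowers x) := by
  intro y
  refine ⟨k, ?_⟩
  obtain ⟨y, hy⟩ := y
  obtain ⟨m, rfl⟩ := Subgroup.mem_zpowers_iff.mp hy
  apply Subtype.ext
  simp only [Subgroup.coe_pow, Subgroup.coe_one]
  rw [← zpow_natCast, ← zpow_mul, mul_comm, zpow_mul, zpow_natCast, hk, one_zpow]

/-- A `p`-element normalizing a Sylow `p`-subgroup lies in it. -/
theorem mem_sylow_of_mem_normalizer {p : ℕ} [Fact p.Prime] (P : Sylow p G) (x : G)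
    (hx : x ∈ Subgroup.normalizer ((P : Subgroup G) : Set G)) (k : ℕ) (hk : x ^ p ^ k = 1) :
    x ∈ (P : Subgroup G) := by
  have h1 : IsPGroup p (Subgroup.zpowers x) := isPGroup_zpowers x k hk
  have h2 : IsPGroup p (Subgroup.zpowers x ⊔ (P : Subgroup G) : Subgroup G) :=
    h1.to_sup_of_normal_right' P.2 (by rw [Subgroup.zpowers_le]; exact hx)
  have h3 := P.3 h2 le_sup_right
  rw [← h3]
  exact (le_sup_left : Subgroup.zpowers x ≤ _) (Subgroup.mem_zpowers x)

/-- Every `p`-element is conjugate into a given Sylow `p`-subgroup. -/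
theorem exists_conj_mem_sylow {p : ℕ} [Fact p.Prime] (P : Sylow p G) (x : G) (k : ℕ)
    (hx : x ^ p ^ k = 1) : ∃ g : G, g * x * g⁻¹ ∈ (P : Subgroup G) := by
  have h1 : IsPGroup p (Subgroup.zpowers x) := isPGroup_zpowers x k hx
  obtain ⟨Q, hQ⟩ := h1.exists_le_sylow
  obtain ⟨g, hg⟩ := MulAction.exists_smul_eq G Q P
  refine ⟨g, ?_⟩
  have h2 : x ∈ (Q : Subgroup G) := hQ (Subgroup.mem_zpowers x)
  have h3 : MulAut.conj g • x ∈ MulAut.conj g • (Q : Subgroup G) :=
    Subgroup.smul_mem_pointwise_smul x (MulAut.conj g) Q h2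
  rw [← hg, Sylow.smul_def, Sylow.pointwise_smul_def]
  exact h3

/-- sub-claim 0 -/
theorem mem_centralizer_of_sq (P : Sylow 2 G)
    (hab : (P : Subgroup G) ≤ Subgroup.centralizer ((P : Subgroup G) : Set G))
    (n : G) (hn : n ∈ Subgroup.normalizer ((P : Subgroup G) : Set G))
    (hn2 : n * n ∈ Subgroup.centralizer ((P : Subgroup G) : Set G)) :
    n ∈ Subgroup.centralizer ((P : Subgroup G) : Set G) := by
  obtain ⟨k, m, hm, hkm⟩ := Nat.exists_eq_two_pow_mul_odd (orderOf_pos n).ne'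
  have h1 : (n ^ m) ^ 2 ^ k = 1 := by
    rw [← pow_mul, mul_comm, ← hkm, pow_orderOf_eq_one]
  have h2 : n ^ m ∈ (P : Subgroup G) :=
    mem_sylow_of_mem_normalizer P _ (Subgroup.pow_mem _ hn m) k h1
  obtain ⟨j, rfl⟩ := hm
  have h3 : n = n ^ (2 * j + 1) * ((n * n) ^ j)⁻¹ := by
    rw [← pow_two, ← pow_mul, pow_succ]; group
  rw [h3]
  exact Subgroup.mul_mem _ (hab h2) (Subgroup.inv_mem _ (Subgroup.pow_mem _ hn2 j))

theorem sylow_card (g₀ : ℕ) (hg₀ : Odd g₀) (hG : Nat.card G = 4 * g₀) (P : Sylow 2 G) :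
    Nat.card (P : Subgroup G) = 4 := by
  rw [Sylow.card_eq_multiplicity, hG]
  have h0 : g₀ ≠ 0 := by rintro rfl; simp at hg₀
  have h : (4 * g₀).factorization 2 = 2 := by
    have h4 : (4 : ℕ) = 2 ^ 2 := by norm_num
    rw [Nat.factorization_mul (by norm_num) h0, h4, Nat.Prime.factorization_pow Nat.prime_two]
    simp [Nat.factorization_eq_zero_of_not_dvd hg₀.not_two_dvd_nat]
  rw [h]
  norm_num

theorem sylow_comm (P : Sylow 2 G) (hP : Nat.card (P : Subgroup G) = 4) :
    (P : Subgroup G) ≤ Subgroup.centralizer ((P : Subgroup G) : Set G) := by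
  intro x hx
  rw [Subgroup.mem_centralizer_iff]
  intro y hy
  have h := (IsPGroup.isMulCommutative_of_card_eq_prime_sq (p := 2) (G := (P : Subgroup G))
    (by rw [hP]; norm_num)).is_comm.comm ⟨y, hy⟩ ⟨x, hx⟩
  exact congrArg Subtype.val h

/-- sub-claim 1 -/
theorem mem_centralizer_of_fix (P : Sylow 2 G) (hP : Nat.card (P : Subgroup G) = 4)
    (n : G) (hn : n ∈ Subgroup.normalizer ((P : Subgroup G) : Set G)) (t : G)
    (ht : t ∈ (P : Subgroup G)) (ht1 : t ≠ 1) (hfix : n * t * n⁻¹ = t) :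
    n ∈ Subgroup.centralizer ((P : Subgroup G) : Set G) := by
  have hS : ((P : Subgroup G) : Set G).ncard = 4 := by
    rw [← hP]; rfl
  apply mem_centralizer_of_sq P (sylow_comm P hP) n hn
  rw [Subgroup.mem_centralizer_iff]
  intro x hx
  have hinj : ∀ a b : G, n * a * n⁻¹ = n * b * n⁻¹ → a = b := by
    intro a b h; simpa using h
  have hmem : ∀ a : G, a ∈ (P : Subgroup G) → n * a * n⁻¹ ∈ (P : Subgroup G) :=
    fun a ha => (Subgroup.mem_normalizer_iff.mp hn a).1 ha
  have h1 : n * 1 * n⁻¹ = 1 := by group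
  by_contra hne
  have hw : n * (n * x * n⁻¹) * n⁻¹ ≠ x := by
    intro h
    apply hne
    have : n * n * x = x * (n * n) := by
      calc n * n * x = n * (n * x * n⁻¹) * n⁻¹ * (n * n) := by group
        _ = x * (n * n) := by rw [h]
    exact this.symm
  have hx1 : x ≠ 1 := by
    rintro rfl
    apply hw; group
  have hxt : x ≠ t := by
    rintro rfl
    apply hw; rw [hfix, hfix]
  have hy1 : n * x * n⁻¹ ≠ 1 := fun h => hx1 (hinj _ _ (h.trans h1.symm))
  have hyt : n * x * n⁻¹ ≠ t := fun h => hxt (hinj _ _ (h.trans hfix.symm))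
  have hyx : n * x * n⁻¹ ≠ x := fun h => hw (by rw [h, h])
  have hw1 : n * (n * x * n⁻¹) * n⁻¹ ≠ 1 := fun h => hy1 (hinj _ _ (h.trans h1.symm))
  have hwt : n * (n * x * n⁻¹) * n⁻¹ ≠ t := fun h => hyt (hinj _ _ (h.trans hfix.symm))
  have hwy : n * (n * x * n⁻¹) * n⁻¹ ≠ n * x * n⁻¹ := fun h => hyx (hinj _ _ h)
  exact no_five _ hS (Subgroup.one_mem _) ht hx (hmem x hx) (hmem _ (hmem x hx))
    (Ne.symm ht1) (Ne.symm hx1) (Ne.symm hy1) (Ne.symm hw1) (Ne.symm hxt) (Ne.symm hyt)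
    (Ne.symm hwt) (Ne.symm hyx) (Ne.symm hw) (Ne.symm hwy)

/-- The standing hypotheses: order `4 g₀`, `g₀` odd, no normal `2`-complement. -/
def Hyp (G : Type*) [Group G] (g₀ : ℕ) : Prop :=
  Odd g₀ ∧ Nat.card G = 4 * g₀ ∧ ¬ ∃ N : Subgroup G, N.Normal ∧ Nat.card N = g₀

/-- Burnside: without a normal 2-complement, some element of `N(P)` does not centralize `P`. -/
theorem exists_normalizer_not_centralizer {g₀ : ℕ} (h : Hyp G g₀) (P : Sylow 2 G) :
    ∃ n ∈ Subgroup.normalizer ((P : Subgroup G) : Set G),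
      n ∉ Subgroup.centralizer ((P : Subgroup G) : Set G) := by
  by_contra hcon
  push Not at hcon
  have hP : Subgroup.normalizer ((P : Subgroup G) : Set G)
      ≤ Subgroup.centralizer ((P : Subgroup G) : Set G) := fun n hn => hcon n hn
  have hc := MonoidHom.ker_transferSylow_isComplement' P hP
  apply h.2.2
  refine ⟨(MonoidHom.transferSylow P hP).ker, inferInstance, ?_⟩
  have h1 := hc.card_mul_card
  rw [sylow_card g₀ h.1 h.2.1 P, h.2.1] at h1
  omega

theorem conj_ne_one {a u : G} (hu : u ≠ 1) : a * u * a⁻¹ ≠ 1 := by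
  intro h
  apply hu
  have : u = a⁻¹ * (a * u * a⁻¹) * a := by group
  rw [this, h]; group

theorem ne_one_of_orderOf_eq_two {u : G} (hu : orderOf u = 2) : u ≠ 1 := by
  rintro rfl
  rw [orderOf_one] at hu
  norm_num at hu

theorem sq_of_orderOf_eq_two {u : G} (hu : orderOf u = 2) : u * u = 1 := by
  rw [← pow_two, ← hu]; exact pow_orderOf_eq_one u

/-- fusion inside a Sylow `2`-subgroup -/
theorem conj_in_sylow (P : Sylow 2 G) (hP : Nat.card (P : Subgroup G) = 4) (n : G)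
    (hn : n ∈ Subgroup.normalizer ((P : Subgroup G) : Set G))
    (hnc : n ∉ Subgroup.centralizer ((P : Subgroup G) : Set G)) (s t : G)
    (hs : s ∈ (P : Subgroup G)) (ht : t ∈ (P : Subgroup G)) (hs1 : s ≠ 1) (ht1 : t ≠ 1) :
    ∃ g : G, g * t * g⁻¹ = s := by
  have hS : ((P : Subgroup G) : Set G).ncard = 4 := by rw [← hP]; rfl
  have hinj : ∀ a b : G, n * a * n⁻¹ = n * b * n⁻¹ → a = b := by
    intro a b h; simpa using h
  have hmem : ∀ a : G, a ∈ (P : Subgroup G) → n * a * n⁻¹ ∈ (P : Subgroup G) :=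
    fun a ha => (Subgroup.mem_normalizer_iff.mp hn a).1 ha
  have h1 : n * 1 * n⁻¹ = 1 := by group
  have hyt : n * t * n⁻¹ ≠ t := fun h => hnc (mem_centralizer_of_fix P hP n hn t ht ht1 h)
  have hwt : n * (n * t * n⁻¹) * n⁻¹ ≠ t := by
    intro h
    apply hnc
    apply mem_centralizer_of_sq P (sylow_comm P hP) n hn
    apply mem_centralizer_of_fix P hP (n * n) (Subgroup.mul_mem _ hn hn) t ht ht1
    calc n * n * t * (n * n)⁻¹ = n * (n * t * n⁻¹) * n⁻¹ := by group
      _ = t := h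
  have hy1 : n * t * n⁻¹ ≠ 1 := fun h => ht1 (hinj _ _ (h.trans h1.symm))
  have hw1 : n * (n * t * n⁻¹) * n⁻¹ ≠ 1 := fun h => hy1 (hinj _ _ (h.trans h1.symm))
  have hwy : n * (n * t * n⁻¹) * n⁻¹ ≠ n * t * n⁻¹ := fun h => hyt (hinj _ _ h)
  by_cases e1 : s = t
  · exact ⟨1, by rw [e1]; group⟩
  by_cases e2 : s = n * t * n⁻¹
  · exact ⟨n, e2.symm⟩
  by_cases e3 : s = n * (n * t * n⁻¹) * n⁻¹
  · exact ⟨n * n, by rw [e3]; group⟩
  exact (no_five _ hS (Subgroup.one_mem _) ht (hmem t ht) (hmem _ (hmem t ht)) hs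
    (Ne.symm ht1) (Ne.symm hy1) (Ne.symm hw1) (Ne.symm hs1) (Ne.symm hyt) (Ne.symm hwt)
    (Ne.symm e1) (Ne.symm hwy) (Ne.symm e2) (Ne.symm e3)).elim

/-- A Sylow `2`-subgroup has exponent two. -/
theorem sq_eq_one_of_mem_sylow (P : Sylow 2 G) (hP : Nat.card (P : Subgroup G) = 4) (n : G)
    (hn : n ∈ Subgroup.normalizer ((P : Subgroup G) : Set G))
    (hnc : n ∉ Subgroup.centralizer ((P : Subgroup G) : Set G)) (x : G)
    (hx : x ∈ (P : Subgroup G)) : x * x = 1 := by
  by_cases hx1 : x = 1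
  · rw [hx1, one_mul]
  haveI : Fact (Nat.Prime 2) := ⟨Nat.prime_two⟩
  obtain ⟨t, ht⟩ := exists_prime_orderOf_dvd_card' (G := (P : Subgroup G)) 2
    (by rw [hP]; norm_num)
  have ht' : orderOf (t : G) = 2 := by rw [Subgroup.orderOf_coe]; exact ht
  obtain ⟨g, hg⟩ := conj_in_sylow P hP n hn hnc x t hx t.2 hx1 (ne_one_of_orderOf_eq_two ht')
  have ht2 : (t : G) * (t : G) = 1 := sq_of_orderOf_eq_two ht'
  rw [← hg]
  calc g * ↑t * g⁻¹ * (g * ↑t * g⁻¹) = g * (↑t * ↑t) * g⁻¹ := by group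
    _ = 1 := by rw [ht2]; group

/-- Every `2`-element squares to one. -/
theorem sq_eq_one {g₀ : ℕ} (h : Hyp G g₀) (x : G) (k : ℕ) (hx : x ^ 2 ^ k = 1) : x * x = 1 := by
  haveI : Fact (Nat.Prime 2) := ⟨Nat.prime_two⟩
  obtain ⟨P⟩ : Nonempty (Sylow 2 G) := inferInstance
  have hP := sylow_card g₀ h.1 h.2.1 P
  obtain ⟨n, hn, hnc⟩ := exists_normalizer_not_centralizer h P
  obtain ⟨g, hg⟩ := exists_conj_mem_sylow P x k hx
  have h1 := sq_eq_one_of_mem_sylow P hP n hn hnc _ hg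
  have : x * x = g⁻¹ * (g * x * g⁻¹ * (g * x * g⁻¹)) * g := by group
  rw [this, h1]; group

/-- All involutions are conjugate. -/
theorem conj_of_involutions {g₀ : ℕ} (h : Hyp G g₀) (u v : G) (hu : orderOf u = 2)
    (hv : orderOf v = 2) : ∃ g : G, g * u * g⁻¹ = v := by
  haveI : Fact (Nat.Prime 2) := ⟨Nat.prime_two⟩
  obtain ⟨P⟩ : Nonempty (Sylow 2 G) := inferInstance
  have hP := sylow_card g₀ h.1 h.2.1 P
  obtain ⟨n, hn, hnc⟩ := exists_normalizer_not_centralizer h P
  obtain ⟨a, ha⟩ := exists_conj_mem_sylow P u 1 (by rw [pow_one, pow_two]; exact sq_of_orderOf_eq_two hu)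
  obtain ⟨b, hb⟩ := exists_conj_mem_sylow P v 1 (by rw [pow_one, pow_two]; exact sq_of_orderOf_eq_two hv)
  obtain ⟨c, hc⟩ := conj_in_sylow P hP n hn hnc (b * v * b⁻¹) (a * u * a⁻¹) hb ha
    (conj_ne_one (ne_one_of_orderOf_eq_two hv)) (conj_ne_one (ne_one_of_orderOf_eq_two hu))
  refine ⟨b⁻¹ * c * a, ?_⟩
  have : b⁻¹ * c * a * u * (b⁻¹ * c * a)⁻¹ = b⁻¹ * (c * (a * u * a⁻¹) * c⁻¹) * b := by group
  rw [this, hc]; group

/-- Burnside transfer inside a subgroup `H` containing a Sylow `2`-subgroup `Q` with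
`N_H(Q) ≤ C(Q)`: the odd-order elements of `H` form a subgroup complementing `Q`. -/
theorem exists_odd_complement (H : Subgroup G) (Q : Sylow 2 G) (hQH : (Q : Subgroup G) ≤ H)
    (hNC : ∀ n ∈ H, n ∈ Subgroup.normalizer ((Q : Subgroup G) : Set G) →
      n ∈ Subgroup.centralizer ((Q : Subgroup G) : Set G)) :
    ∃ K : Subgroup G, (∀ g, g ∈ K ↔ g ∈ H ∧ Odd (orderOf g)) ∧
      Nat.card H = Nat.card (Q : Subgroup G) * Nat.card K ∧
      (∀ h ∈ H, ∃ q ∈ (Q : Subgroup G), h * q ∈ K) := by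
  haveI : Fact (Nat.Prime 2) := ⟨Nat.prime_two⟩
  obtain ⟨Q', hQ'⟩ : ∃ Q' : Sylow 2 H, Q' = Q.subtype hQH := ⟨_, rfl⟩
  have hQ'mem : ∀ x : H, x ∈ (Q' : Subgroup H) ↔ (x : G) ∈ (Q : Subgroup G) := by
    intro x
    rw [hQ', Sylow.coe_subtype, Subgroup.mem_subgroupOf]
  have hP' : Subgroup.normalizer ((Q' : Subgroup H) : Set H)
      ≤ Subgroup.centralizer ((Q' : Subgroup H) : Set H) := by
    intro n hn
    have hnG : (n : G) ∈ Subgroup.normalizer ((Q : Subgroup G) : Set G) := by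
      rw [Subgroup.mem_normalizer_iff]
      intro x
      constructor
      · intro hx
        have := (Subgroup.mem_normalizer_iff.mp hn ⟨x, hQH hx⟩).1 ((hQ'mem _).2 hx)
        exact (hQ'mem _).1 this
      · intro hx
        have hxH : x ∈ H := by
          have h1 : (n : G) * x * (n : G)⁻¹ ∈ H := hQH hx
          have : x = (n : G)⁻¹ * ((n : G) * x * (n : G)⁻¹) * (n : G) := by group
          rw [this]
          exact H.mul_mem (H.mul_mem (H.inv_mem n.2) h1) n.2
        have := (Subgroup.mem_normalizer_iff.mp hn ⟨x, hxH⟩).2 ((hQ'mem _).2 hx)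
        exact (hQ'mem _).1 this
    have hc := hNC n n.2 hnG
    rw [Subgroup.mem_centralizer_iff] at hc ⊢
    intro q hq
    apply Subtype.ext
    exact hc q ((hQ'mem q).1 hq)
  obtain ⟨φ, hφ⟩ : ∃ φ : H →* (Q' : Subgroup H), φ = MonoidHom.transferSylow Q' hP' := ⟨_, rfl⟩
  have hcomp : Subgroup.IsComplement' φ.ker (Q' : Subgroup H) := by
    rw [hφ]; exact MonoidHom.ker_transferSylow_isComplement' Q' hP'
  have hoddK : Odd (Nat.card φ.ker) := by
    rw [← hcomp.index_eq_card]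
    exact Nat.odd_iff.mpr (Nat.two_dvd_ne_zero.mp Q'.not_dvd_index)
  refine ⟨φ.ker.map H.subtype, ?_, ?_, ?_⟩
  · intro g
    rw [Subgroup.mem_map]
    constructor
    · rintro ⟨x, hx, rfl⟩
      refine ⟨x.2, ?_⟩
      rw [Subgroup.coe_subtype, Subgroup.orderOf_coe]
      exact Odd.of_dvd_nat hoddK (Subgroup.orderOf_dvd_natCard φ.ker hx)
    · rintro ⟨hgH, hodd⟩
      refine ⟨⟨g, hgH⟩, ?_, rfl⟩
      rw [MonoidHom.mem_ker]
      have h1 : orderOf (φ ⟨g, hgH⟩) ∣ orderOf (⟨g, hgH⟩ : H) := orderOf_map_dvd φ _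
      have h2 : orderOf (⟨g, hgH⟩ : H) = orderOf g :=
        (Subgroup.orderOf_coe (⟨g, hgH⟩ : H)).symm
      obtain ⟨k, hk⟩ := (Q'.2 : IsPGroup 2 (Q' : Subgroup H)) (φ ⟨g, hgH⟩)
      have h3 : orderOf (φ ⟨g, hgH⟩) ∣ 2 ^ k := orderOf_dvd_of_pow_eq_one hk
      have h4 : Nat.Coprime (orderOf g) (2 ^ k) :=
        Nat.Coprime.pow_right k (Nat.coprime_two_right.mpr hodd)
      have h5 : orderOf (φ ⟨g, hgH⟩) = 1 := Nat.eq_one_of_dvd_coprimes h4 (h2 ▸ h1) h3
      exact orderOf_eq_one_iff.mp h5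
  · have h1 := hcomp.card_mul_card
    have h2 : Nat.card (φ.ker.map H.subtype) = Nat.card φ.ker := Subgroup.card_subtype H φ.ker
    have h3 : Nat.card (Q' : Subgroup H) = Nat.card (Q : Subgroup G) := by
      rw [hQ', Sylow.coe_subtype]
      exact Nat.card_congr (Subgroup.subgroupOfEquivOfLe hQH).toEquiv
    rw [h2, ← h3, ← h1, mul_comm]
  · intro x hx
    obtain ⟨⟨k, q⟩, hkq⟩ := hcomp.2 ⟨x, hx⟩
    refine ⟨(((q : H) : G))⁻¹, Subgroup.inv_mem _ ((hQ'mem _).1 q.2), ?_⟩
    rw [Subgroup.mem_map]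
    refine ⟨k, k.2, ?_⟩
    have h1 : (((k : H) : G)) * (((q : H) : G)) = x := congrArg Subtype.val hkq
    rw [← h1, Subgroup.coe_subtype]; group

theorem card_centralizer_image_conj (S : Set G) (g : G) :
    Nat.card (Subgroup.centralizer ((fun s => g * s * g⁻¹) '' S))
      = Nat.card (Subgroup.centralizer S) := by
  symm
  refine Nat.card_congr ⟨fun x => ⟨g * x * g⁻¹, ?_⟩, fun y => ⟨g⁻¹ * y * g, ?_⟩, ?_, ?_⟩
  · rw [Subgroup.mem_centralizer_iff]
    rintro _ ⟨s, hs, rfl⟩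
    have := Subgroup.mem_centralizer_iff.mp x.2 s hs
    calc g * s * g⁻¹ * (g * ↑x * g⁻¹) = g * (s * ↑x) * g⁻¹ := by group
      _ = g * (↑x * s) * g⁻¹ := by rw [this]
      _ = g * ↑x * g⁻¹ * (g * s * g⁻¹) := by group
  · rw [Subgroup.mem_centralizer_iff]
    intro s hs
    have := Subgroup.mem_centralizer_iff.mp y.2 (g * s * g⁻¹) ⟨s, hs, rfl⟩
    calc s * (g⁻¹ * ↑y * g) = g⁻¹ * (g * s * g⁻¹ * ↑y) * g := by group
      _ = g⁻¹ * (↑y * (g * s * g⁻¹)) * g := by rw [this]
      _ = g⁻¹ * ↑y * g * s := by group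
  · intro x; apply Subtype.ext; simp only; group
  · intro y; apply Subtype.ext; simp only; group

theorem card_centralizer_conj_singleton (x g : G) :
    Nat.card (Subgroup.centralizer ({g * x * g⁻¹} : Set G))
      = Nat.card (Subgroup.centralizer ({x} : Set G)) := by
  rw [← card_centralizer_image_conj {x} g, Set.image_singleton]

theorem card_centralizer_sylow (P Q : Sylow 2 G) :
    Nat.card (Subgroup.centralizer ((Q : Subgroup G) : Set G))
      = Nat.card (Subgroup.centralizer ((P : Subgroup G) : Set G)) := by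
  haveI : Fact (Nat.Prime 2) := ⟨Nat.prime_two⟩
  obtain ⟨g, hg⟩ := MulAction.exists_smul_eq G P Q
  have hset : (((g • P : Sylow 2 G) : Subgroup G) : Set G)
      = (fun s => g * s * g⁻¹) '' ((P : Subgroup G) : Set G) := by
    ext x
    constructor
    · intro hx
      have hx' : x ∈ MulAut.conj g • (P : Subgroup G) := hx
      rw [Subgroup.mem_pointwise_smul_iff_inv_smul_mem] at hx'
      refine ⟨(MulAut.conj g)⁻¹ • x, hx', ?_⟩
      simp only [MulAut.smul_def, MulAut.conj_inv_apply]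
      group
    · rintro ⟨y, hy, rfl⟩
      exact Subgroup.smul_mem_pointwise_smul y (MulAut.conj g) (P : Subgroup G) hy
  rw [← hg, hset, card_centralizer_image_conj]

/-- The odd-order elements of the centralizer of an involution. -/
theorem exists_K_involution {g₀ : ℕ} (h : Hyp G g₀) (z : G) (hz : orderOf z = 2) :
    ∃ (K : Subgroup G) (Q : Sylow 2 G), z ∈ (Q : Subgroup G) ∧
      (∀ g, g ∈ K ↔ Odd (orderOf g) ∧ g * z = z * g) ∧
      Nat.card (Subgroup.centralizer ({z} : Set G)) = 4 * Nat.card K ∧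
      (∀ x, x * z = z * x → ∃ q ∈ (Q : Subgroup G), x * q ∈ K) := by
  haveI : Fact (Nat.Prime 2) := ⟨Nat.prime_two⟩
  have hz2 := sq_of_orderOf_eq_two hz
  have h1 : IsPGroup 2 (Subgroup.zpowers z) :=
    isPGroup_zpowers z 1 (by rw [pow_one, pow_two]; exact hz2)
  obtain ⟨Q, hQ⟩ := h1.exists_le_sylow
  have hzQ : z ∈ (Q : Subgroup G) := hQ (Subgroup.mem_zpowers z)
  have hQc := sylow_card g₀ h.1 h.2.1 Q
  obtain ⟨K, hK1, hK2, hK3⟩ := exists_odd_complement (Subgroup.centralizer ({z} : Set G)) Q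
    (by
      intro x hx
      rw [Subgroup.mem_centralizer_singleton_iff]
      exact (Subgroup.mem_centralizer_iff.mp (sylow_comm Q hQc hx) z hzQ).symm)
    (by
      intro n hn hnN
      rw [Subgroup.mem_centralizer_singleton_iff] at hn
      apply mem_centralizer_of_fix Q hQc n hnN z hzQ (ne_one_of_orderOf_eq_two hz)
      rw [hn]; group)
  refine ⟨K, Q, hzQ, ?_, ?_, ?_⟩
  · intro g
    rw [hK1, Subgroup.mem_centralizer_singleton_iff]
    exact and_comm
  · rw [hK2, hQc]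
  · intro x hx
    exact hK3 x (Subgroup.mem_centralizer_singleton_iff.mpr hx)

/-- The odd-order elements centralizing a four-group. -/
theorem exists_K_pair {g₀ : ℕ} (h : Hyp G g₀) (P : Sylow 2 G) (u z : G) (hu : orderOf u = 2)
    (hz : orderOf z = 2) (huz : u * z = z * u) (hne : u ≠ z) :
    ∃ K : Subgroup G, (∀ g, g ∈ K ↔ Odd (orderOf g) ∧ g * u = u * g ∧ g * z = z * g) ∧
      Nat.card (Subgroup.centralizer ((P : Subgroup G) : Set G)) = 4 * Nat.card K := by
  haveI : Fact (Nat.Prime 2) := ⟨Nat.prime_two⟩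
  have hu2 := sq_of_orderOf_eq_two hu
  have hz2 := sq_of_orderOf_eq_two hz
  have hu1 := ne_one_of_orderOf_eq_two hu
  have hz1 := ne_one_of_orderOf_eq_two hz
  have h1 : IsPGroup 2 (Subgroup.zpowers u) :=
    isPGroup_zpowers u 1 (by rw [pow_one, pow_two]; exact hu2)
  have h2 : IsPGroup 2 (Subgroup.zpowers z) :=
    isPGroup_zpowers z 1 (by rw [pow_one, pow_two]; exact hz2)
  have h3 : IsPGroup 2 (Subgroup.zpowers z ⊔ Subgroup.zpowers u : Subgroup G) :=
    h2.to_sup_of_normal_right' h1 (by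
      rw [Subgroup.zpowers_le]
      apply Subgroup.centralizer_le_normalizer
      rw [Subgroup.mem_centralizer_iff]
      rintro _ ⟨k, rfl⟩
      exact (Commute.zpow_left (show Commute u z from huz) k).eq)
  obtain ⟨Q, hQ⟩ := h3.exists_le_sylow
  have hzQ : z ∈ (Q : Subgroup G) := hQ ((le_sup_left : Subgroup.zpowers z ≤ _)
    (Subgroup.mem_zpowers z))
  have huQ : u ∈ (Q : Subgroup G) := hQ ((le_sup_right : Subgroup.zpowers u ≤ _)
    (Subgroup.mem_zpowers u))
  have hQc := sylow_card g₀ h.1 h.2.1 Q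
  have hS : ((Q : Subgroup G) : Set G).ncard = 4 := by rw [← hQc]; rfl
  obtain ⟨K, hK1, hK2, -⟩ := exists_odd_complement
    (Subgroup.centralizer ((Q : Subgroup G) : Set G)) Q (sylow_comm Q hQc) (fun n hn _ => hn)
  refine ⟨K, ?_, ?_⟩
  · intro g
    rw [hK1]
    constructor
    · rintro ⟨hg, hodd⟩
      rw [Subgroup.mem_centralizer_iff] at hg
      exact ⟨hodd, (hg u huQ).symm, (hg z hzQ).symm⟩
    · rintro ⟨hodd, hgu, hgz⟩
      refine ⟨?_, hodd⟩
      rw [Subgroup.mem_centralizer_iff]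
      intro x hx
      by_cases e1 : x = 1
      · rw [e1, one_mul, mul_one]
      by_cases e2 : x = u
      · rw [e2]; exact hgu.symm
      by_cases e3 : x = z
      · rw [e3]; exact hgz.symm
      by_cases e4 : x = u * z
      · rw [e4, mul_assoc, ← hgz, ← mul_assoc, ← hgu, mul_assoc]
      exfalso
      have huz1 : u * z ≠ 1 := by
        intro h'
        apply hne
        have : u = u * z * z := by rw [mul_assoc, hz2, mul_one]
        rw [this, h', one_mul]
      have huzu : u * z ≠ u := by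
        intro h'
        apply hz1
        have : z = u * (u * z) := by rw [← mul_assoc, hu2, one_mul]
        rw [this, h', hu2]
      have huzz : u * z ≠ z := by
        intro h'
        apply hu1
        have : u = u * z * z := by rw [mul_assoc, hz2, mul_one]
        rw [this, h', hz2]
      exact no_five _ hS (Subgroup.one_mem _) huQ hzQ (Subgroup.mul_mem _ huQ hzQ) hx
        (Ne.symm hu1) (Ne.symm hz1) (Ne.symm huz1) (Ne.symm e1) hne (Ne.symm huzu)
        (Ne.symm e2) (Ne.symm huzz) (Ne.symm e3) (Ne.symm e4)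
  · rw [← card_centralizer_sylow P Q, hK2, hQc]

/-- Elements of a Sylow `2`-subgroup other than `1` are involutions. -/
theorem orderOf_eq_two_of_mem_sylow {g₀ : ℕ} (h : Hyp G g₀) (Q : Sylow 2 G) (q : G)
    (hq : q ∈ (Q : Subgroup G)) (hq1 : q ≠ 1) : orderOf q = 2 := by
  haveI : Fact (Nat.Prime 2) := ⟨Nat.prime_two⟩
  obtain ⟨k, hk⟩ := (Q.2 : IsPGroup 2 (Q : Subgroup G)) ⟨q, hq⟩
  have hk' : q ^ 2 ^ k = 1 := by
    have := congrArg Subtype.val hk
    simpa using this
  have h2 := sq_eq_one h q k hk'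
  exact orderOf_eq_prime (by rw [pow_two]; exact h2) hq1

/-- The two elements of a Sylow `2`-subgroup other than `1` and a given involution. -/
theorem exists_R {g₀ : ℕ} (h : Hyp G g₀) (Q : Sylow 2 G) (u : G) (hu : orderOf u = 2)
    (huQ : u ∈ (Q : Subgroup G)) :
    ∃ R : Finset G, R.card = 2 ∧ ∀ q, q ∈ R ↔ q ∈ (Q : Subgroup G) ∧ q ≠ 1 ∧ q ≠ u := by
  classical
  have hQc := sylow_card g₀ h.1 h.2.1 Q
  have hS : ((Q : Subgroup G) : Set G).ncard = 4 := by rw [← hQc]; rfl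
  have hfin : ((Q : Subgroup G) : Set G).Finite := Set.toFinite _
  refine ⟨(hfin.toFinset.erase 1).erase u, ?_, ?_⟩
  · rw [Finset.card_erase_of_mem, Finset.card_erase_of_mem, ← Set.ncard_eq_toFinset_card _ hfin,
      hS]
    · rw [Set.Finite.mem_toFinset]; exact Subgroup.one_mem _
    · rw [Finset.mem_erase, Set.Finite.mem_toFinset]
      exact ⟨ne_one_of_orderOf_eq_two hu, huQ⟩
  · intro q
    rw [Finset.mem_erase, Finset.mem_erase, Set.Finite.mem_toFinset]
    constructor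
    · rintro ⟨h1, h2, h3⟩; exact ⟨h3, h2, h1⟩
    · rintro ⟨h1, h2, h3⟩; exact ⟨h3, h2, h1⟩

end Cfsg.Agent.H78.Klein
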