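import Cfsg.Agent.H78.Klein3

/-!
# Brauer's order formula for Klein four Sylow subgroups: assembly (helper78)
-/

set_option autoImplicit false
set_option linter.unusedSectionVars false
set_option linter.style.haveILetI false

namespace Cfsg.Agent.H78.Klein

open Cfsg Cfsg.Agent.H20 Cfsg.Agent.H4 Cfsg.Agent.H80 Finset

open scoped ComplexConjugate

universe u

variable {G : Type u} [Group G] [Fintype G] [DecidableEq G]

variable {M : Ideal AlgInt} {J : G} {χ₁ χ₂ χ₃ : IrrCharacter G} {ε₁ ε₂ ε₃ : ℤ}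

theorem card_Sing' {g₀ : ℕ} (h : Hyp G g₀) (J : G) (hJ : orderOf J = 2) :
    4 * (Sing G).card = Fintype.card G := by
  rw [card_Sing h J hJ, card_Inv_mul h J hJ]

/-- The two counts of pairs `(a, b)` with `J^a J^b` `2`-singular. -/
theorem core {g₀ : ℕ} (h : Hyp G g₀) (P : Sylow 2 G) (D : KData M J χ₁ χ₂ χ₃ ε₁ ε₂ ε₃) :
    ∃ N : ℕ, N * Nat.card (Subgroup.centralizer ((P : Subgroup G) : Set G)) ^ 2
        = 2 * Nat.card G * Nat.card (Subgroup.centralizer ({J} : Set G)) ^ 3 ∧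
      (N : ℚ) = (Nat.card G : ℚ) ^ 2 / 4 * (1 + ε₁ / (charDegree (χ₁ : G → ℂ) : ℚ)
        + ε₂ / (charDegree (χ₂ : G → ℂ) : ℚ) + ε₃ / (charDegree (χ₃ : G → ℂ) : ℚ)) ∧
      (1 : ℚ) + ε₁ * (charDegree (χ₁ : G → ℂ) : ℚ) + ε₂ * (charDegree (χ₂ : G → ℂ) : ℚ)
        + ε₃ * (charDegree (χ₃ : G → ℂ) : ℚ) = 0 := by
  refine ⟨(univ.filter (fun ab : G × G =>
        2 ∣ orderOf (ab.1 * J * ab.1⁻¹ * (ab.2 * J⁻¹ * ab.2⁻¹)))).card, ?_, ?_, ?_⟩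
  · have h1 := card_pairs h P J D.hJ
    rw [← Nat.card_eq_fintype_card] at h1
    exact h1
  · have h2 := D.char_count (card_Sing' h J D.hJ)
    rw [(Cfsg.Agent.H81.irr_charDegree χ₁).1, (Cfsg.Agent.H81.irr_charDegree χ₂).1,
      (Cfsg.Agent.H81.irr_charDegree χ₃).1] at h2
    apply Rat.cast_injective (α := ℂ)
    push_cast
    exact h2
  · have h3 := D.degree_eq
    rw [(Cfsg.Agent.H81.irr_charDegree χ₁).1, (Cfsg.Agent.H81.irr_charDegree χ₂).1,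
      (Cfsg.Agent.H81.irr_charDegree χ₃).1] at h3
    apply Rat.cast_injective (α := ℂ)
    push_cast
    exact h3

theorem final_algebra (g n a b x₁ x₂ x₃ e₁ e₂ e₃ : ℚ) (hg : 0 < g) (ha : 0 < a) (hb : 0 < b)
    (hx₁ : 0 < x₁) (hx₂ : 0 < x₂) (hx₃ : 0 < x₃) (he₁ : e₁ * e₁ = 1) (he₂ : e₂ * e₂ = 1)
    (he₃ : e₃ * e₃ = 1) (h1 : n * b ^ 2 = 2 * g * a ^ 3)
    (h2 : n = g ^ 2 / 4 * (1 + e₁ / x₁ + e₂ / x₂ + e₃ / x₃))
    (h3 : 1 + e₁ * x₁ + e₂ * x₂ + e₃ * x₃ = 0) :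
    g = 8 * (x₁ * x₂ * x₃ / ((x₁ + e₁) * (x₂ + e₂) * (x₃ + e₃))) * a ^ 3 / b ^ 2 := by
  have hPi : (x₁ + e₁) * (x₂ + e₂) * (x₃ + e₃)
      = x₁ * x₂ * x₃ * (1 + e₁ / x₁ + e₂ / x₂ + e₃ / x₃) := by
    have hS : x₁ * x₂ * x₃ * (1 + e₁ / x₁ + e₂ / x₂ + e₃ / x₃)
        = x₁ * x₂ * x₃ + e₁ * x₂ * x₃ + e₂ * x₁ * x₃ + e₃ * x₁ * x₂ := by
      field_simp
    rw [hS]
    linear_combination (e₁ * e₂ * e₃) * h3 - (e₂ * e₃ * x₁) * he₁ - (e₁ * e₃ * x₂) * he₂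
      - (e₁ * e₂ * x₃) * he₃
  have hn : n = 2 * g * a ^ 3 / b ^ 2 := by
    rw [eq_div_iff (by positivity)]; exact h1
  have hn0 : 0 < n := by rw [hn]; positivity
  have hD : (1 + e₁ / x₁ + e₂ / x₂ + e₃ / x₃) = 4 * n / g ^ 2 := by
    rw [h2]; field_simp
  have hX : x₁ * x₂ * x₃ ≠ 0 := by positivity
  rw [hPi, hD]
  field_simp
  linear_combination 4 * h1

end Cfsg.Agent.H78.Klein
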