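import Cfsg.Agent.H50.AmDefs

/-!
# S2262, pieces AM-NUMF and AM-NUMG (helper78): the numerical inequalities
-/

set_option autoImplicit false

namespace Cfsg.Agent.H78.Am

open Finset

/-- Geometric sum in `ℕ`. -/
theorem geo (Q d : ℕ) (hQ : 1 ≤ Q) : (Q - 1) * ∑ k ∈ range d, Q ^ k = Q ^ d - 1 := by
  have h := geom_sum_mul (Q : ℤ) d
  have h1 : 1 ≤ Q ^ d := Nat.one_le_pow d Q hQ
  zify [hQ, h1]
  rw [mul_comm]
  exact h

/-- Both inequalities follow from a comparison of geometric sums. -/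
theorem of_sums (c d e Q : ℕ) (hQ : 1 ≤ Q)
    (h : c * ∑ k ∈ range d, Q ^ k ≤ ∑ k ∈ range d, (Q ^ e) ^ k) :
    (Q ^ e - 1) * (c * (Q ^ d - 1)) ≤ (Q - 1) * ((Q ^ e) ^ d - 1) := by
  have hQe : 1 ≤ Q ^ e := Nat.one_le_pow e Q hQ
  rw [← geo Q d hQ, ← geo (Q ^ e) d hQe]
  calc (Q ^ e - 1) * (c * ((Q - 1) * ∑ k ∈ range d, Q ^ k))
      = (Q - 1) * ((Q ^ e - 1) * (c * ∑ k ∈ range d, Q ^ k)) := by ring
    _ ≤ (Q - 1) * ((Q ^ e - 1) * ∑ k ∈ range d, (Q ^ e) ^ k) :=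
        Nat.mul_le_mul_left _ (Nat.mul_le_mul_left _ h)

/-- `e ≤ 2 ^ (e - 1)` for `e ≥ 1`. -/
theorem le_two_pow_pred (e : ℕ) (he : 1 ≤ e) : e ≤ 2 ^ (e - 1) := by
  have := Nat.lt_two_pow_self (n := e - 1)
  omega

/-- `2 e ≤ 8 ^ (e - 1)` for `e ≥ 2`. -/
theorem two_mul_le_eight_pow (e : ℕ) (he : 2 ≤ e) : 2 * e ≤ 8 ^ (e - 1) := by
  induction e, he using Nat.le_induction with
  | base => norm_num
  | succ n hn ih =>
    have h1 : 8 ^ (n + 1 - 1) = 8 ^ (n - 1) * 8 := by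
      rw [← pow_succ]
      congr 1
      omega
    rw [h1]
    omega

/-- The step of the induction on `d`: `c * Q ^ d ≤ (Q ^ e) ^ d` when `c ≤ (Q ^ d) ^ (e - 1)`. -/
theorem step_term (c d e Q : ℕ) (he : 1 ≤ e) (h : c ≤ (Q ^ d) ^ (e - 1)) :
    c * Q ^ d ≤ (Q ^ e) ^ d := by
  have e1 : (Q ^ e) ^ d = (Q ^ d) ^ (e - 1) * Q ^ d := by
    rw [← pow_mul, ← pow_mul, ← pow_add]
    congr 1
    have h2 : e = (e - 1) + 1 := by omega
    calc e * d = ((e - 1) + 1) * d := by rw [← h2]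
      _ = d * (e - 1) + d := by ring
  rw [e1]
  exact Nat.mul_le_mul_right _ h

/-- Induction on `d` for the comparison of the geometric sums. -/
theorem sums_ind (c e Q d0 : ℕ) (he : 1 ≤ e) (hc : ∀ n, d0 ≤ n → c ≤ (Q ^ n) ^ (e - 1))
    (hbase : c * ∑ k ∈ range d0, Q ^ k ≤ ∑ k ∈ range d0, (Q ^ e) ^ k) :
    ∀ d, d0 ≤ d → c * ∑ k ∈ range d, Q ^ k ≤ ∑ k ∈ range d, (Q ^ e) ^ k := by
  intro d hd
  induction d, hd using Nat.le_induction with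
  | base => exact hbase
  | succ n hn ih =>
    rw [sum_range_succ, sum_range_succ, mul_add]
    exact Nat.add_le_add ih (step_term c n e Q he (hc n hn))

/-- `m ^ (e - 1) ≤ (Q ^ n) ^ (e - 1)` when `m ≤ Q ^ n`. -/
theorem coef_le (c n e Q m : ℕ) (h1 : c ≤ m ^ (e - 1)) (h2 : m ≤ Q ^ n) : c ≤ (Q ^ n) ^ (e - 1) :=
  h1.trans (Nat.pow_le_pow_left h2 _)

theorem pow_ge (Q n k : ℕ) (hQ : 2 ≤ Q) (hk : k ≤ n) : 2 ^ k ≤ Q ^ n :=
  (Nat.pow_le_pow_left hQ k).trans (Nat.pow_le_pow_right (by omega) hk)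

/-! ### NUMF -/

theorem stepF (Q n : ℕ) (hQ : 2 ≤ Q) (hn : 2 ≤ n) (ih : n * (1 + Q) ≤ 1 + Q ^ n) :
    (n + 1) * (1 + Q) ≤ 1 + Q ^ (n + 1) := by
  have h1 : Q ^ 2 ≤ Q ^ n := Nat.pow_le_pow_right (by omega) hn
  obtain ⟨k, rfl⟩ := Nat.exists_eq_add_of_le hQ
  have h4 : (2 + k) ^ (n + 1) = (2 + k) ^ n * (1 + k) + (2 + k) ^ n := by
    rw [pow_succ]; ring
  have h5 : (2 + k) ^ n * 1 ≤ (2 + k) ^ n * (1 + k) := Nat.mul_le_mul_left _ (by omega)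
  rw [h4]
  nlinarith

theorem baseF3 (Q : ℕ) (hQ : 2 ≤ Q) : 3 * (1 + Q) ≤ 1 + Q ^ 3 := by
  obtain ⟨k, rfl⟩ := Nat.exists_eq_add_of_le hQ
  have h : (2 + k) ^ 3 = k ^ 3 + 6 * k ^ 2 + 12 * k + 8 := by ring
  rw [h]
  nlinarith [Nat.zero_le (k ^ 3), Nat.zero_le (k ^ 2)]

/-- Base of NUMF at `d = 2`: `e (1 + Q) ≤ 1 + Q ^ e`. -/
theorem baseF (e Q : ℕ) (he : 2 ≤ e) (hQ : 2 ≤ Q) (hne : ¬ (e = 2 ∧ Q = 2)) :
    e * (1 + Q) ≤ 1 + Q ^ e := by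
  by_cases h2 : e = 2
  · subst h2
    have hQ3 : 3 ≤ Q := by
      rcases Nat.lt_or_ge Q 3 with h | h
      · exact absurd ⟨rfl, by omega⟩ hne
      · exact h
    nlinarith
  · have h3 : 3 ≤ e := by omega
    clear hne h2 he
    induction e, h3 using Nat.le_induction with
    | base => exact baseF3 Q hQ
    | succ n hn ih => exact stepF Q n hQ (by omega) ih

theorem numF : Cfsg.Agent.H50.Am.StNumF := by
  intro d e Q hd he hQ hne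
  apply of_sums e d e Q (by omega)
  have hstep : ∀ n, 2 ≤ n → e ≤ (Q ^ n) ^ (e - 1) := fun n hn =>
    coef_le e n e Q 2 (le_two_pow_pred e (by omega)) (by simpa using pow_ge Q n 1 hQ (by omega))
  by_cases h22 : e = 2 ∧ Q = 2
  · obtain ⟨rfl, rfl⟩ := h22
    have hd3 : 3 ≤ d := by
      rcases Nat.lt_or_ge d 3 with h | h
      · exact absurd ⟨by omega, rfl, rfl⟩ hne
      · exact h
    exact sums_ind 2 2 2 3 (by omega) (fun n hn => hstep n (by omega))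
      (by norm_num [sum_range_succ]) d hd3
  · refine sums_ind e e Q 2 (by omega) hstep ?_ d hd
    have hb := baseF e Q he hQ h22
    simpa [sum_range_succ] using hb

example : Cfsg.Agent.H50.Am.StNumF := numF

/-! ### NUMG -/

theorem stepG (Q n : ℕ) (hQ : 2 ≤ Q) (hn : 2 ≤ n)
    (ih : 2 * n * (1 + Q + Q ^ 2) ≤ 1 + Q ^ n + (Q ^ n) ^ 2) :
    2 * (n + 1) * (1 + Q + Q ^ 2) ≤ 1 + Q ^ (n + 1) + (Q ^ (n + 1)) ^ 2 := by
  have hx : Q ^ 2 ≤ Q ^ n := Nat.pow_le_pow_right (by omega) hn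
  have e1 : Q ^ (n + 1) = Q * Q ^ n := pow_succ' Q n
  rw [e1]
  generalize Q ^ n = x at *
  have h4 : 4 ≤ Q ^ 2 := by nlinarith
  have hx4 : 4 ≤ x := h4.trans hx
  have hxx : 4 * x ≤ x * x := Nat.mul_le_mul_right x hx4
  have hQx : 2 * x ≤ Q * x := Nat.mul_le_mul_right x hQ
  have hQxQx : 4 * (x * x) ≤ (Q * x) * (Q * x) := by
    calc 4 * (x * x) = (2 * x) * (2 * x) := by ring
      _ ≤ (Q * x) * (Q * x) := Nat.mul_le_mul hQx hQx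
  have hQQ : 2 * Q ≤ Q ^ 2 := by nlinarith
  have e2 : (Q * x) ^ 2 = (Q * x) * (Q * x) := by ring
  have e3 : x ^ 2 = x * x := by ring
  rw [e2]
  rw [e3] at ih
  nlinarith

theorem baseG3 (Q : ℕ) (hQ : 2 ≤ Q) : 2 * 3 * (1 + Q + Q ^ 2) ≤ 1 + Q ^ 3 + (Q ^ 3) ^ 2 := by
  have h1 : 2 * Q ^ 2 ≤ Q ^ 3 := by
    have : Q ^ 3 = Q * Q ^ 2 := by ring
    rw [this]
    exact Nat.mul_le_mul_right _ hQ
  have h4 : 4 ≤ Q ^ 2 := by nlinarith
  have hQQ : 2 * Q ≤ Q ^ 2 := by nlinarith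
  generalize Q ^ 3 = x at *
  have hx8 : 8 ≤ x := by omega
  have hxx : 8 * x ≤ x * x := Nat.mul_le_mul_right x hx8
  have e3 : x ^ 2 = x * x := by ring
  rw [e3]
  nlinarith

theorem baseG2 (Q : ℕ) (hQ : 4 ≤ Q) : 2 * 2 * (1 + Q + Q ^ 2) ≤ 1 + Q ^ 2 + (Q ^ 2) ^ 2 := by
  have h16 : 16 ≤ Q ^ 2 := by nlinarith
  have hQQ : 4 * Q ≤ Q ^ 2 := by nlinarith
  generalize Q ^ 2 = x at *
  have hxx : 16 * x ≤ x * x := Nat.mul_le_mul_right x h16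
  have e3 : x ^ 2 = x * x := by ring
  rw [e3]
  nlinarith

/-- Base of NUMG at `d = 3`. -/
theorem baseG (e Q : ℕ) (he : 2 ≤ e) (hQ : 2 ≤ Q) (h : 3 ≤ e ∨ 4 ≤ Q) :
    2 * e * (1 + Q + Q ^ 2) ≤ 1 + Q ^ e + (Q ^ e) ^ 2 := by
  by_cases h3 : 3 ≤ e
  · clear h he
    induction e, h3 using Nat.le_induction with
    | base => exact baseG3 Q hQ
    | succ n hn ih => exact stepG Q n hQ (by omega) ih
  · have he2 : e = 2 := by omega
    subst he2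
    rcases h with h | h
    · omega
    · exact baseG2 Q h

theorem numG : Cfsg.Agent.H50.Am.StNumG := by
  intro d e Q hd he hQ h
  apply of_sums (2 * e) d e Q (by omega)
  have hstep : ∀ n, 3 ≤ n → 2 * e ≤ (Q ^ n) ^ (e - 1) := fun n hn =>
    coef_le (2 * e) n e Q 8 (two_mul_le_eight_pow e he) (by simpa using pow_ge Q n 3 hQ hn)
  refine sums_ind (2 * e) e Q 3 (by omega) hstep ?_ d hd
  have hb := baseG e Q he hQ h
  simpa [sum_range_succ] using hb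

example : Cfsg.Agent.H50.Am.StNumG := numG

end Cfsg.Agent.H78.Am
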