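import Cfsg.Agent.H78.Constancy
import Cfsg.Agent.H40.Burnside
import Cfsg.Agent.S4735
import Cfsg.Agent.S0941

/-!
# Brauer–Leonard setup, group-theoretic part (helper78)

`P` an abelian Sylow `p`-subgroup with `C_G(y) ∩ N_G(P) = C_G(P)` for `y ∈ P#`.
-/

set_option autoImplicit false
set_option linter.style.haveILetI false

namespace Cfsg.Agent.H78.BL

open Cfsg

universe u

/-- Burnside's normal `p`-complement theorem, in the form with the elements of `K` described. -/
theorem exists_normal_complement_of_normalizer_le {X : Type*} [Group X] [Finite X] {p : ℕ}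
    [Fact p.Prime] (Z : Sylow p X)
    (hZc : Subgroup.normalizer ((Z : Subgroup X) : Set X) ≤
      Subgroup.centralizer ((Z : Subgroup X) : Set X)) :
    ∃ K : Subgroup X, K.Normal ∧ K.IsComplement' Z ∧ (Nat.card K).Coprime p ∧
      ∀ g : X, g ∈ K ↔ (orderOf g).Coprime p := by
  have hp : p.Prime := Fact.out
  have hcompl := MonoidHom.ker_transferSylow_isComplement' Z hZc
  have hndvd := MonoidHom.not_dvd_card_ker_transferSylow Z hZc
  have hcop : (Nat.card (MonoidHom.transferSylow Z hZc).ker).Coprime p :=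
    (Nat.Coprime.symm ((Nat.Prime.coprime_iff_not_dvd hp).mpr hndvd))
  refine ⟨(MonoidHom.transferSylow Z hZc).ker, inferInstance, hcompl, hcop, ?_⟩
  intro g
  constructor
  · intro hc
    have h1 : orderOf (⟨g, hc⟩ : (MonoidHom.transferSylow Z hZc).ker) ∣
        Nat.card (MonoidHom.transferSylow Z hZc).ker := orderOf_dvd_natCard _
    have h2 : orderOf g = orderOf (⟨g, hc⟩ : (MonoidHom.transferSylow Z hZc).ker) :=
      (orderOf_injective (MonoidHom.transferSylow Z hZc).ker.subtype
        (Subgroup.subtype_injective _) ⟨g, hc⟩)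
    rw [h2]
    exact Nat.Coprime.coprime_dvd_left h1 hcop
  · intro hg
    rw [MonoidHom.mem_ker]
    have h1 : orderOf (MonoidHom.transferSylow Z hZc g) ∣ orderOf g := orderOf_map_dvd _ _
    have h3 : (orderOf (MonoidHom.transferSylow Z hZc g)).Coprime p :=
      Nat.Coprime.coprime_dvd_left h1 hg
    obtain ⟨k, hk⟩ := Z.isPGroup' (MonoidHom.transferSylow Z hZc g)
    have h4 : orderOf (MonoidHom.transferSylow Z hZc g) ∣ p ^ k := orderOf_dvd_of_pow_eq_one hk
    have h5 : orderOf (MonoidHom.transferSylow Z hZc g) = 1 :=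
      Nat.Coprime.eq_one_of_dvd (Nat.Coprime.pow_right k h3) h4
    exact orderOf_eq_one_iff.mp h5

/-- A `p`-group has only the principal block. -/
theorem block_eq_principal_of_isPGroup {Q : Type u} [Group Q] [Finite Q] (p : ℕ) [Fact p.Prime]
    {M : Ideal AlgInt} (hM : IsPModular p M) (hQ : IsPGroup p Q)
    (B : Set (IrrCharacter Q)) (hB : IsPBlock M B) : B = principalBlock M Q := by
  classical
  letI : Fintype Q := Fintype.ofFinite Q
  have hMp := Cfsg.Agent.H20.isPrime_of_isPModular hM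
  have hP : IsPGroup p (⊤ : Subgroup Q) := fun g => by
    obtain ⟨k, hk⟩ := hQ (g : Q)
    exact ⟨k, Subtype.ext (by simpa using hk)⟩
  have hC : ∃ k : ℕ, (Subgroup.centralizer (((⊤ : Subgroup Q) : Subgroup Q) : Set Q)).index = p ^ k := by
    obtain ⟨n, hn⟩ := IsPGroup.iff_card.mp hQ
    have hdvd := (Subgroup.centralizer (((⊤ : Subgroup Q) : Subgroup Q) : Set Q)).index_dvd_card
    rw [hn] at hdvd
    exact (Nat.dvd_prime_pow Fact.out).mp hdvd |>.imp fun k hk => hk.2
  obtain ⟨χ, θ, hθB, hθ⟩ := (Cfsg.Agent.S0941.result p M hM (⊤ : Subgroup Q) hP hC).2 B hB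
  obtain ⟨χ₀, rfl⟩ := hB
  have hconst : ∀ g : Q, (θ : Q → ℂ) g = (θ : Q → ℂ) 1 := by
    intro g
    rw [hθ]
    simp only [Function.comp_apply]
    haveI : Subsingleton (Q ⧸ (⊤ : Subgroup Q)) := QuotientGroup.subsingleton_quotient_top
    exact congrArg _ (Subsingleton.elim _ _)
  have hθ1 : θ = Cfsg.Agent.H80.trivChar Q := by
    by_contra hne
    have h1 := Cfsg.Agent.H4.irr_inner_ne hne
    unfold classInner at h1
    have h2 : ∑ g : Q, (θ : Q → ℂ) g * (starRingEnd ℂ) ((Cfsg.Agent.H80.trivChar Q : Q → ℂ) g) =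
        (Nat.card Q : ℂ) * (θ : Q → ℂ) 1 := by
      rw [Finset.sum_congr rfl (fun g _ => by
        rw [hconst g, Cfsg.Agent.H80.trivChar_apply, map_one, mul_one])]
      rw [Finset.sum_const, Finset.card_univ, nsmul_eq_mul, Nat.card_eq_fintype_card]
    rw [h2] at h1
    have hN : (Nat.card Q : ℂ) ≠ 0 := by
      have : 0 < Nat.card Q := Nat.card_pos
      exact_mod_cast this.ne'
    rw [← mul_assoc, inv_mul_cancel₀ hN, one_mul] at h1
    exact Cfsg.Agent.H4.irr_one_ne_zero θ h1
  rw [hθ1] at hθB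
  rw [Cfsg.Agent.H80.principalBlock_eq]
  exact (Cfsg.Agent.H80.blockOf_eq_of_mem hMp hθB).symm

section Setup

variable {G : Type u} [Group G] [Finite G] {p : ℕ} [Fact p.Prime]

omit [Finite G] [Fact p.Prime] in
/-- `P ≤ C_G(y)` for `y ∈ P`, `P` abelian. -/
theorem le_centralizer_singleton (P : Sylow p G) [IsMulCommutative P] {y : G}
    (hy : y ∈ (P : Subgroup G)) :
    (P : Subgroup G) ≤ Subgroup.centralizer ({y} : Set G) := by
  intro z hz
  rw [Subgroup.mem_centralizer_singleton_iff]
  have := P.le_centralizer hz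
  exact (Subgroup.mem_centralizer_iff.mp this y hy).symm

/-- The centralizer of `y ∈ P#` has a normal `p`-complement. -/
theorem exists_complement_centralizer (P : Sylow p G) [IsMulCommutative P]
    (hfrob : ∀ y : G, y ∈ (P : Subgroup G) → y ≠ 1 →
      Subgroup.centralizer ({y} : Set G) ⊓ Subgroup.normalizer ((P : Subgroup G) : Set G) =
        Subgroup.centralizer ((P : Subgroup G) : Set G))
    {y : G} (hy : y ∈ (P : Subgroup G)) (hy1 : y ≠ 1) :
    ∃ K : Subgroup (Subgroup.centralizer ({y} : Set G)), K.Normal ∧ (Nat.card K).Coprime p ∧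
      (∀ g, g ∈ K ↔ (orderOf g).Coprime p) ∧ K.index = Nat.card (P : Subgroup G) := by
  have hPH := le_centralizer_singleton P hy
  obtain ⟨Q, hQ⟩ : ∃ Q : Sylow p (Subgroup.centralizer ({y} : Set G)), Q = P.subtype hPH :=
    ⟨_, rfl⟩
  have hmemQ : ∀ h : Subgroup.centralizer ({y} : Set G),
      h ∈ (Q : Subgroup (Subgroup.centralizer ({y} : Set G))) ↔ (h : G) ∈ (P : Subgroup G) := by
    intro h
    rw [hQ, Sylow.coe_subtype, Subgroup.mem_subgroupOf]
  have hQc : Subgroup.normalizer ((Q : Subgroup (Subgroup.centralizer ({y} : Set G))) :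
        Set (Subgroup.centralizer ({y} : Set G))) ≤
      Subgroup.centralizer ((Q : Subgroup (Subgroup.centralizer ({y} : Set G))) :
        Set (Subgroup.centralizer ({y} : Set G))) := by
    intro x hx
    rw [Subgroup.mem_set_normalizer_iff] at hx
    have hxN : (x : G) ∈ Subgroup.normalizer ((P : Subgroup G) : Set G) := by
      rw [Subgroup.mem_set_normalizer_iff]
      intro z
      constructor
      · intro hz
        have h1 := (hx ⟨z, hPH hz⟩).mp ((hmemQ _).mpr hz)
        exact (hmemQ _).mp h1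
      · intro hz
        have hzH : z ∈ Subgroup.centralizer ({y} : Set G) := by
          have h2 : (x : G)⁻¹ * ((x : G) * z * (x : G)⁻¹) * (x : G) ∈
              Subgroup.centralizer ({y} : Set G) :=
            Subgroup.mul_mem _ (Subgroup.mul_mem _ (Subgroup.inv_mem _ x.2) (hPH hz)) x.2
          have h3 : (x : G)⁻¹ * ((x : G) * z * (x : G)⁻¹) * (x : G) = z := by group
          rwa [h3] at h2
        have h1 := (hx ⟨z, hzH⟩).mpr ((hmemQ _).mpr hz)
        exact (hmemQ _).mp h1
    have hxC : (x : G) ∈ Subgroup.centralizer ((P : Subgroup G) : Set G) := by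
      rw [← hfrob y hy hy1]
      exact ⟨x.2, hxN⟩
    rw [Subgroup.mem_centralizer_iff]
    intro h hh
    apply Subtype.ext
    exact Subgroup.mem_centralizer_iff.mp hxC (h : G) ((hmemQ h).mp hh)
  obtain ⟨K, hKn, hKc, hKcop, hKall⟩ := exists_normal_complement_of_normalizer_le Q hQc
  refine ⟨K, hKn, hKcop, hKall, ?_⟩
  rw [hKc.symm.index_eq_card, hQ, Sylow.coe_subtype]
  exact Nat.card_congr (Subgroup.subgroupOfEquivOfLe hPH).toEquiv

/-- Constancy of principal block characters on `p`-sections through `P#`. -/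
theorem principal_const (P : Sylow p G) [IsMulCommutative P] {M : Ideal AlgInt}
    (hM : IsPModular p M)
    (hfrob : ∀ y : G, y ∈ (P : Subgroup G) → y ≠ 1 →
      Subgroup.centralizer ({y} : Set G) ⊓ Subgroup.normalizer ((P : Subgroup G) : Set G) =
        Subgroup.centralizer ((P : Subgroup G) : Set G))
    (χ : IrrCharacter G) (hχ : χ ∈ principalBlock M G) {z y : G} (hzy : IsPPart p z y)
    (hy : y ∈ (P : Subgroup G)) (hy1 : y ≠ 1) : (χ : G → ℂ) z = (χ : G → ℂ) y := by
  obtain ⟨s, hys, hcomm, ⟨k, hk⟩, hs⟩ := hzy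
  obtain ⟨K, hKn, hKcop, hKall, -⟩ := exists_complement_centralizer P hfrob hy hy1
  haveI := hKn
  have hsC : s ∈ Subgroup.centralizer ({y} : Set G) :=
    Subgroup.mem_centralizer_singleton_iff.mpr hcomm.eq.symm
  have hsK : (⟨s, hsC⟩ : Subgroup.centralizer ({y} : Set G)) ∈ K := by
    rw [hKall]
    have : orderOf (⟨s, hsC⟩ : Subgroup.centralizer ({y} : Set G)) = orderOf s :=
      (orderOf_injective (Subgroup.centralizer ({y} : Set G)).subtype
        (Subgroup.subtype_injective _) ⟨s, hsC⟩).symm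
    rw [this]
    exact ((Nat.Prime.coprime_iff_not_dvd Fact.out).mpr hs).symm
  have := principal_const_on_core p hM y hk K hKcop χ hχ ⟨s, hsC⟩ hsK
  rw [← hys]
  exact this

/-- `λ(C_G(y)) = |P|` for `y ∈ P#`. -/
theorem lambda_centralizer (P : Sylow p G) [IsMulCommutative P] {M : Ideal AlgInt}
    (hM : IsPModular p M)
    (hfrob : ∀ y : G, y ∈ (P : Subgroup G) → y ≠ 1 →
      Subgroup.centralizer ({y} : Set G) ⊓ Subgroup.normalizer ((P : Subgroup G) : Set G) =
        Subgroup.centralizer ((P : Subgroup G) : Set G))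
    {y : G} (hy : y ∈ (P : Subgroup G)) (hy1 : y ≠ 1) :
    ∑ᶠ ψ ∈ principalBlock M ↥(Subgroup.centralizer ({y} : Set G)),
      charDegree (ψ : ↥(Subgroup.centralizer ({y} : Set G)) → ℂ) ^ 2 =
        Nat.card (P : Subgroup G) := by
  obtain ⟨K, hKn, hKcop, hKall, hKidx⟩ := exists_complement_centralizer P hfrob hy hy1
  have hcore : pPrimeCore p ↥(Subgroup.centralizer ({y} : Set G)) = K :=
    Cfsg.Agent.H40.pPrimeCore_eq_of_forall_mem K hKn hKcop (fun g hg => (hKall g).mpr hg)
  have h := (Cfsg.Agent.S4735.result p M hM (1 : ↥(Subgroup.centralizer ({y} : Set G)))).2.2.2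
  have hidx : (pPrimeCore p ↥(Subgroup.centralizer ({y} : Set G))).index =
      Nat.card (P : Subgroup G) := by rw [hcore, hKidx]
  rw [h.mpr ?_, hidx]
  intro B hB
  apply block_eq_principal_of_isPGroup p hM ?_ B hB
  obtain ⟨n, hn⟩ := IsPGroup.iff_card.mp P.2
  apply IsPGroup.of_card (n := n)
  rw [← hn, ← hidx]
  rfl

/-- Principal block characters do not vanish on `P`. -/
theorem principal_val_ne_zero (P : Sylow p G) [IsMulCommutative P] {M : Ideal AlgInt}
    (hM : IsPModular p M) (χ : IrrCharacter G) (hχ : χ ∈ principalBlock M G) {y : G}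
    (hy : y ∈ (P : Subgroup G)) : (χ : G → ℂ) y ≠ 0 := by
  intro h0
  have h1 : MemLocalIdeal M (centralChar (fun _ : G => (1 : ℂ)) y - centralChar (χ : G → ℂ) y) :=
    hχ y
  rw [Cfsg.Agent.H80.centralChar_const_one] at h1
  have h2 : centralChar (χ : G → ℂ) y = 0 := by
    unfold centralChar
    rw [h0, mul_zero, zero_div]
  rw [h2, sub_zero, Cfsg.Agent.H20.memLocalIdeal_natCast_iff hM] at h1
  have h3 : (Subgroup.centralizer ({y} : Set G)).index ∣ (P : Subgroup G).index :=
    Subgroup.index_dvd_of_le (le_centralizer_singleton P hy)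
  exact P.not_dvd_index (h1.trans h3)

end Setup

end Cfsg.Agent.H78.BL
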