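import Cfsg.Agent.H78.BL1

/-!
# Brauer–Leonard setup: the action of `N_G(P)` on the linear characters of `P` (helper78)
-/

set_option autoImplicit false
set_option linter.style.haveILetI false

namespace Cfsg.Agent.H78.BL

open Cfsg

universe u

section Nrm

variable {A : Type*} [Group A]

/-- Norm-type product for an automorphism: `x · φ(x) · … · φ^{k-1}(x)`. -/
def nrm (φ : MulAut A) : ℕ → A → A
  | 0, _ => 1
  | k + 1, x => x * φ (nrm φ k x)

theorem nrm_succ' (φ : MulAut A) (k : ℕ) (x : A) :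
    nrm φ (k + 1) x = nrm φ k x * (φ ^ k) x := by
  induction k with
  | zero => simp [nrm]
  | succ k ih =>
    have h1 : nrm φ (k + 1 + 1) x = x * φ (nrm φ (k + 1) x) := rfl
    have h2 : nrm φ (k + 1) x = x * φ (nrm φ k x) := rfl
    rw [h1]
    conv_lhs => rw [ih, map_mul, ← mul_assoc, ← h2]
    rw [pow_succ' φ k]
    rfl

theorem hom_nrm (φ : MulAut A) (ψ : A →* ℂˣ) (hfix : ∀ x, ψ (φ x) = ψ x) (k : ℕ) (x : A) :
    ψ (nrm φ k x) = ψ x ^ k := by
  induction k with
  | zero => simp [nrm]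
  | succ k ih => rw [nrm, map_mul, hfix, ih, pow_succ']

theorem nrm_fixed (hcomm : ∀ a b : A, a * b = b * a) (φ : MulAut A) (m : ℕ) (hm : φ ^ m = 1)
    (x : A) : φ (nrm φ m x) = nrm φ m x := by
  have h1 := nrm_succ' φ m x
  rw [hm] at h1
  have h2 : nrm φ (m + 1) x = x * φ (nrm φ m x) := rfl
  rw [h2, MulAut.one_apply, hcomm (nrm φ m x) x] at h1
  exact mul_left_cancel h1

end Nrm

section Action

variable {G : Type u} [Group G] [Finite G] {p : ℕ} [Fact p.Prime]

/-- The relation of the statement: `ψ'` is an `N_G(P)`-conjugate of `ψ`. -/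
def Rel (P : Sylow p G) (ψ ψ' : ↥(P : Subgroup G) →* ℂˣ) : Prop :=
  ∃ n : G, n ∈ Subgroup.normalizer ((P : Subgroup G) : Set G) ∧
    ∀ w w' : ↥(P : Subgroup G), (w' : G) = n * w * n⁻¹ → ψ' w' = ψ w

omit [Finite G] [Fact p.Prime] in
theorem rel_iff (P : Sylow p G) (ψ ψ' : ↥(P : Subgroup G) →* ℂˣ) :
    Rel P ψ ψ' ↔ ∃ n : ↥(Subgroup.normalizer ((P : Subgroup G) : Set G)),
      ψ = ψ'.comp ((P : Subgroup G).normalizerMonoidHom n).toMonoidHom := by
  constructor
  · rintro ⟨n, hn, h⟩
    refine ⟨⟨n, hn⟩, ?_⟩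
    ext w
    have := h w ((P : Subgroup G).normalizerMonoidHom ⟨n, hn⟩ w) rfl
    rw [← this]
    rfl
  · rintro ⟨n, h⟩
    refine ⟨n.1, n.2, fun w w' hw' => ?_⟩
    have e : w' = (P : Subgroup G).normalizerMonoidHom n w := Subtype.ext hw'
    rw [e, h]
    rfl

/-- The index of `C_G(P)` in `N_G(P)` is prime to `p`. -/
theorem not_dvd_relIndex (P : Sylow p G) [IsMulCommutative P] :
    ¬ p ∣ (Subgroup.centralizer ((P : Subgroup G) : Set G)).relIndex
      (Subgroup.normalizer ((P : Subgroup G) : Set G)) := by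
  intro h
  have h1 : (Subgroup.centralizer ((P : Subgroup G) : Set G)).relIndex
      (Subgroup.normalizer ((P : Subgroup G) : Set G)) ∣
      (P : Subgroup G).relIndex (Subgroup.normalizer ((P : Subgroup G) : Set G)) :=
    Subgroup.relIndex_dvd_of_le_left _ P.le_centralizer
  have h2 : (P : Subgroup G).relIndex (Subgroup.normalizer ((P : Subgroup G) : Set G)) ∣
      (P : Subgroup G).index := Subgroup.relIndex_dvd_index_of_le Subgroup.le_normalizer
  exact P.not_dvd_index (h.trans (h1.trans h2))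

/-- `N_G(P)/C_G(P)` acts freely on the non-principal linear characters of `P`. -/
theorem free_on_chars (P : Sylow p G) [IsMulCommutative P]
    (hfrob : ∀ y : G, y ∈ (P : Subgroup G) → y ≠ 1 →
      Subgroup.centralizer ({y} : Set G) ⊓ Subgroup.normalizer ((P : Subgroup G) : Set G) =
        Subgroup.centralizer ((P : Subgroup G) : Set G))
    (n : ↥(Subgroup.normalizer ((P : Subgroup G) : Set G)))
    (ψ : ↥(P : Subgroup G) →* ℂˣ) (hψ : ψ ≠ 1)
    (hfix : ψ.comp ((P : Subgroup G).normalizerMonoidHom n).toMonoidHom = ψ) :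
    (P : Subgroup G).normalizerMonoidHom n = 1 := by
  by_contra hne
  have hp : p.Prime := Fact.out
  set f := (P : Subgroup G).normalizerMonoidHom with hf
  set m := f.ker.index with hm
  have hpow : f n ^ m = 1 := by
    rw [← map_pow, ← MonoidHom.mem_ker]
    exact Subgroup.pow_index_mem _ n
  have hmp : ¬ p ∣ m := by
    rw [hm, hf, Subgroup.normalizerMonoidHom_ker]
    exact not_dvd_relIndex P
  have hcomm : ∀ a b : ↥(P : Subgroup G), a * b = b * a := fun a b => mul_comm' a b
  have hfix' : ∀ x, ψ (f n x) = ψ x := fun x => by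
    have := congrArg (fun g : ↥(P : Subgroup G) →* ℂˣ => g x) hfix
    exact this
  have hone : ∀ x : ↥(P : Subgroup G), nrm (f n) m x = 1 := by
    intro x
    by_contra hy1
    have hfixed := nrm_fixed hcomm (f n) m hpow x
    apply hne
    rw [← MonoidHom.mem_ker, hf, Subgroup.normalizerMonoidHom_ker, Subgroup.mem_subgroupOf]
    rw [← hfrob ((nrm (f n) m x : ↥(P : Subgroup G)) : G) (nrm (f n) m x).2
      (fun h => hy1 (Subtype.ext h))]
    refine ⟨?_, n.2⟩
    show (n : G) ∈ Subgroup.centralizer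
      ({((nrm (f n) m x : ↥(P : Subgroup G)) : G)} : Set G)
    rw [Subgroup.mem_centralizer_singleton_iff]
    have h1 : ((f n (nrm (f n) m x) : ↥(P : Subgroup G)) : G) =
        (n : G) * ((nrm (f n) m x : ↥(P : Subgroup G)) : G) * (n : G)⁻¹ := rfl
    rw [hfixed] at h1
    have h2 : ((nrm (f n) m x : ↥(P : Subgroup G)) : G) * (n : G) =
        (n : G) * ((nrm (f n) m x : ↥(P : Subgroup G)) : G) := by
      conv_lhs => rw [h1]
      group
    exact h2.symm
  apply hψ
  ext x
  have h1 : ψ x ^ m = 1 := by rw [← hom_nrm (f n) ψ hfix' m x, hone x, map_one]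
  have h2 : ψ x ^ Nat.card (P : Subgroup G) = 1 := by
    rw [← map_pow, pow_card_eq_one', map_one]
  obtain ⟨k, hk⟩ := IsPGroup.iff_card.mp P.2
  have h3 : orderOf (ψ x) ∣ Nat.gcd m (p ^ k) :=
    Nat.dvd_gcd (orderOf_dvd_of_pow_eq_one h1) (hk ▸ orderOf_dvd_of_pow_eq_one h2)
  have h4 : Nat.gcd m (p ^ k) = 1 :=
    Nat.Coprime.pow_right k ((Nat.Prime.coprime_iff_not_dvd hp).mpr hmp).symm
  rw [h4, Nat.dvd_one, orderOf_eq_one_iff] at h3
  rw [h3]
  rfl

/-- `|N_G(P)| = [N_G(P) : C_G(P)] · |C_G(P)|`. -/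
theorem card_normalizer (P : Sylow p G) :
    Nat.card (Subgroup.normalizer ((P : Subgroup G) : Set G)) =
      (Subgroup.centralizer ((P : Subgroup G) : Set G)).relIndex
        (Subgroup.normalizer ((P : Subgroup G) : Set G)) *
      Nat.card (Subgroup.centralizer ((P : Subgroup G) : Set G)) := by
  have h1 := ((Subgroup.centralizer ((P : Subgroup G) : Set G)).subgroupOf
    (Subgroup.normalizer ((P : Subgroup G) : Set G))).index_mul_card
  rw [← h1]
  congr 1
  exact Nat.card_congr (Subgroup.subgroupOfEquivOfLe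
    (Subgroup.centralizer_le_normalizer ((P : Subgroup G) : Set G))).toEquiv

/-- Counting the conjugators between two linear characters. -/
theorem card_conj_eq (P : Sylow p G) [IsMulCommutative P]
    (hfrob : ∀ y : G, y ∈ (P : Subgroup G) → y ≠ 1 →
      Subgroup.centralizer ({y} : Set G) ⊓ Subgroup.normalizer ((P : Subgroup G) : Set G) =
        Subgroup.centralizer ((P : Subgroup G) : Set G))
    (ψ₁ ψ₂ : ↥(P : Subgroup G) →* ℂˣ) (h₁ : ψ₁ ≠ 1) :
    Nat.card {x : ↥(Subgroup.normalizer ((P : Subgroup G) : Set G)) //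
      ψ₂.comp ((P : Subgroup G).normalizerMonoidHom x).toMonoidHom = ψ₁} =
    (open Classical in if Rel P ψ₁ ψ₂ then
      Nat.card (Subgroup.centralizer ((P : Subgroup G) : Set G)) else 0) := by
  classical
  set f := (P : Subgroup G).normalizerMonoidHom with hf
  by_cases hR : Rel P ψ₁ ψ₂
  · rw [if_pos hR]
    obtain ⟨x₀, hx₀⟩ := (rel_iff P ψ₁ ψ₂).mp hR
    have h₂ : ψ₂ ≠ 1 := by
      rintro rfl
      apply h₁
      rw [hx₀]
      rfl
    have key : ∀ x, ψ₂.comp (f x).toMonoidHom = ψ₁ ↔ x * x₀⁻¹ ∈ f.ker := by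
      intro x
      rw [MonoidHom.mem_ker]
      constructor
      · intro hx
        apply free_on_chars P hfrob (x * x₀⁻¹) ψ₂ h₂
        refine MonoidHom.ext fun w => ?_
        have e1 : f (x * x₀⁻¹) w = f x (f x₀⁻¹ w) := by rw [map_mul]; rfl
        have e2 := congrArg (fun g : ↥(P : Subgroup G) →* ℂˣ => g (f x₀⁻¹ w)) (hx.trans hx₀)
        have e3 : f x₀ (f x₀⁻¹ w) = w := by
          rw [map_inv]
          exact MulEquiv.apply_symm_apply _ _
        have e4 : ψ₂ (f x (f x₀⁻¹ w)) = ψ₂ (f x₀ (f x₀⁻¹ w)) := e2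
        rw [e3] at e4
        show ψ₂ (f (x * x₀⁻¹) w) = ψ₂ w
        rw [e1, e4]
      · intro hx
        have : f x = f x₀ := by
          rw [map_mul, map_inv, mul_inv_eq_one] at hx
          exact hx
        rw [this, hx₀]
    have e : {x // ψ₂.comp (f x).toMonoidHom = ψ₁} ≃ ↥f.ker :=
      { toFun := fun x => ⟨x.1 * x₀⁻¹, (key x.1).mp x.2⟩
        invFun := fun k => ⟨k.1 * x₀, (key _).mpr (by simp)⟩
        left_inv := fun x => Subtype.ext (by simp)
        right_inv := fun k => Subtype.ext (by simp) }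
    rw [Nat.card_congr e, hf, Subgroup.normalizerMonoidHom_ker]
    exact Nat.card_congr (Subgroup.subgroupOfEquivOfLe
      (Subgroup.centralizer_le_normalizer ((P : Subgroup G) : Set G))).toEquiv
  · rw [if_neg hR]
    have : IsEmpty {x // ψ₂.comp (f x).toMonoidHom = ψ₁} :=
      ⟨fun x => hR ((rel_iff P ψ₁ ψ₂).mpr ⟨x.1, x.2.symm⟩)⟩
    exact Nat.card_of_isEmpty

/-- The `N_G(P)`-orbit of a non-principal linear character has `[N_G(P) : C_G(P)]` elements. -/
theorem card_orbit (P : Sylow p G) [IsMulCommutative P]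
    (hfrob : ∀ y : G, y ∈ (P : Subgroup G) → y ≠ 1 →
      Subgroup.centralizer ({y} : Set G) ⊓ Subgroup.normalizer ((P : Subgroup G) : Set G) =
        Subgroup.centralizer ((P : Subgroup G) : Set G))
    (ψ : ↥(P : Subgroup G) →* ℂˣ) (hψ : ψ ≠ 1) :
    Nat.card {ψ' : ↥(P : Subgroup G) →* ℂˣ // Rel P ψ ψ'} =
      (Subgroup.centralizer ((P : Subgroup G) : Set G)).relIndex
        (Subgroup.normalizer ((P : Subgroup G) : Set G)) := by
  classical
  letI : Fintype ↥(Subgroup.normalizer ((P : Subgroup G) : Set G)) := Fintype.ofFinite _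
  letI : Fintype (↥(P : Subgroup G) →* ℂˣ) := Fintype.ofFinite _
  set f := (P : Subgroup G).normalizerMonoidHom with hf
  have hC : 0 < Nat.card (Subgroup.centralizer ((P : Subgroup G) : Set G)) := Nat.card_pos
  have h1 : Fintype.card ↥(Subgroup.normalizer ((P : Subgroup G) : Set G)) =
      ∑ ψ' : ↥(P : Subgroup G) →* ℂˣ,
        (Finset.univ.filter (fun x : ↥(Subgroup.normalizer ((P : Subgroup G) : Set G)) =>
          ψ.comp (f x⁻¹).toMonoidHom = ψ')).card := by
    rw [← Finset.card_univ]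
    exact Finset.card_eq_sum_card_fiberwise (fun x _ => Finset.mem_univ _)
  have h2 : ∀ ψ' : ↥(P : Subgroup G) →* ℂˣ,
      (Finset.univ.filter (fun x : ↥(Subgroup.normalizer ((P : Subgroup G) : Set G)) =>
          ψ.comp (f x⁻¹).toMonoidHom = ψ')).card =
      if Rel P ψ ψ' then Nat.card (Subgroup.centralizer ((P : Subgroup G) : Set G)) else 0 := by
    intro ψ'
    rw [← card_conj_eq P hfrob ψ ψ' hψ, Nat.card_eq_fintype_card, Fintype.card_subtype]
    congr 1
    ext x
    simp only [Finset.mem_filter, Finset.mem_univ, true_and]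
    constructor
    · intro h
      rw [← h]
      refine MonoidHom.ext fun w => ?_
      show ψ (f x⁻¹ (f x w)) = ψ w
      rw [map_inv]
      exact congrArg ψ (MulEquiv.symm_apply_apply _ _)
    · intro h
      rw [← h]
      refine MonoidHom.ext fun w => ?_
      show ψ' (f x (f x⁻¹ w)) = ψ' w
      rw [map_inv]
      exact congrArg ψ' (MulEquiv.apply_symm_apply _ _)
  rw [Finset.sum_congr rfl (fun ψ' _ => h2 ψ'), ← Finset.sum_filter, Finset.sum_const,
    smul_eq_mul, ← Nat.card_eq_fintype_card, card_normalizer P] at h1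
  have h3 : (Finset.univ.filter (fun ψ' : ↥(P : Subgroup G) →* ℂˣ => Rel P ψ ψ')).card =
      Nat.card {ψ' : ↥(P : Subgroup G) →* ℂˣ // Rel P ψ ψ'} := by
    rw [Nat.card_eq_fintype_card, Fintype.card_subtype]
  rw [h3] at h1
  exact (Nat.eq_of_mul_eq_mul_right hC h1).symm

end Action

end Cfsg.Agent.H78.BL
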