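import Mathlib

/-!
# A lattice lemma for exceptional characters (helper78)

Integer vectors `v i` with Gram matrix `m + [R i j]` whose differences are orthogonal to a
positive vector have the form `c + δ e_{Θ i}`.
-/

set_option autoImplicit false

namespace Cfsg.Agent.H78.BL

open Finset

variable {κ : Type*} [Fintype κ] [DecidableEq κ]

/-- An integer vector of norm 2 orthogonal to a positive vector is `e_a - e_b`. -/
theorem norm_two_vector (u : κ → ℤ) (deg : κ → ℤ) (hdeg : ∀ χ, 0 < deg χ)
    (h2 : ∑ χ, u χ ^ 2 = 2) (h0 : ∑ χ, u χ * deg χ = 0) :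
    ∃ a b : κ, a ≠ b ∧ ∀ χ, u χ = (if χ = a then 1 else 0) - (if χ = b then 1 else 0) := by
  classical
  set S := univ.filter (fun χ => u χ ≠ 0) with hS
  have hval : ∀ χ ∈ S, u χ = 1 ∨ u χ = -1 := by
    intro χ hχ
    have hne : u χ ≠ 0 := (mem_filter.mp hχ).2
    have hle : u χ ^ 2 ≤ 2 := by
      rw [← h2]
      exact single_le_sum (f := fun χ => u χ ^ 2) (fun ψ _ => sq_nonneg (u ψ)) (mem_univ χ)
    have h3 : -1 ≤ u χ ∧ u χ ≤ 1 := by constructor <;> nlinarith
    omega
  have hsumS : ∑ χ ∈ S, u χ ^ 2 = 2 := by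
    rw [← h2, hS, sum_filter]
    apply sum_congr rfl
    intro χ _
    by_cases h : u χ = 0
    · simp [h]
    · simp [h]
  have hcard : S.card = 2 := by
    have : ∑ χ ∈ S, u χ ^ 2 = ∑ χ ∈ S, (1 : ℤ) := by
      apply sum_congr rfl
      intro χ hχ
      rcases hval χ hχ with h | h <;> rw [h] <;> norm_num
    rw [hsumS, sum_const, nsmul_eq_mul, mul_one] at this
    exact_mod_cast this.symm
  obtain ⟨a, b, hab, hSab⟩ := card_eq_two.mp hcard
  have hzero : ∀ χ, χ ≠ a → χ ≠ b → u χ = 0 := by
    intro χ ha hb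
    by_contra h
    have : χ ∈ S := mem_filter.mpr ⟨mem_univ _, h⟩
    rw [hSab] at this
    simp at this
    tauto
  have haS : a ∈ S := by rw [hSab]; simp
  have hbS : b ∈ S := by rw [hSab]; simp
  have hsum0 : u a * deg a + u b * deg b = 0 := by
    rw [← h0]
    symm
    rw [← sum_subset (subset_univ S)]
    · rw [hSab, sum_pair hab]
    · intro χ _ hχ
      have : u χ = 0 := by
        by_contra h
        exact hχ (mem_filter.mpr ⟨mem_univ _, h⟩)
      rw [this, zero_mul]
  have hda := hdeg a
  have hdb := hdeg b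
  rcases hval a haS with ha | ha <;> rcases hval b hbS with hb | hb
  · exfalso; rw [ha, hb] at hsum0; linarith
  · refine ⟨a, b, hab, fun χ => ?_⟩
    by_cases h1 : χ = a
    · subst h1; simp [ha, hab]
    · by_cases h2 : χ = b
      · subst h2; simp [hb, h1]
      · simp [h1, h2, hzero χ h1 h2]
  · refine ⟨b, a, hab.symm, fun χ => ?_⟩
    by_cases h1 : χ = a
    · subst h1; simp [ha, hab]
    · by_cases h2 : χ = b
      · subst h2; simp [hb, h1]
      · simp [h1, h2, hzero χ h1 h2]
  · exfalso; rw [ha, hb] at hsum0; linarith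

/-- **Lattice lemma.** -/
theorem lattice_structure {ι : Type*} (v : ι → κ → ℤ) (deg : κ → ℤ) (hdeg : ∀ χ, 0 < deg χ)
    (m : ℤ) (R : ι → ι → Prop) (hR : ∀ i, R i i)
    (hG : ∀ i j, ∑ χ, v i χ * v j χ = m + (open Classical in if R i j then 1 else 0))
    (hD : ∀ i j, ∑ χ, (v i χ - v j χ) * deg χ = 0)
    (hne : ∃ i j, ¬ R i j) :
    ∃ (Θ : ι → κ) (δ : ℤ) (c : κ → ℤ), (δ = 1 ∨ δ = -1) ∧
      (∀ i χ, v i χ = c χ + if χ = Θ i then δ else 0) ∧ (∀ i j, R i j ↔ Θ i = Θ j) := by
  classical
  -- `R` is equality of vectors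
  have hRv : ∀ i j, R i j ↔ v i = v j := by
    intro i j
    constructor
    · intro hij
      have h1 : ∑ χ, (v i χ - v j χ) ^ 2 = 0 := by
        have : ∀ χ, (v i χ - v j χ) ^ 2 = v i χ * v i χ - 2 * (v i χ * v j χ) + v j χ * v j χ :=
          fun χ => by ring
        rw [sum_congr rfl (fun χ _ => this χ), sum_add_distrib, sum_sub_distrib, ← mul_sum,
          hG i i, hG i j, hG j j, if_pos (hR i), if_pos hij, if_pos (hR j)]
        ring
      have h2 := (sum_eq_zero_iff_of_nonneg (fun χ _ => sq_nonneg (v i χ - v j χ))).mp h1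
      funext χ
      have h3 := h2 χ (mem_univ χ)
      have h4 : v i χ - v j χ = 0 := by
        rcases pow_eq_zero_iff (n := 2) (by norm_num) |>.mp h3 with h
        exact h
      linarith
    · intro hij
      by_contra hn
      have h1 := hG i j
      have h2 := hG i i
      rw [if_neg hn] at h1
      rw [if_pos (hR i)] at h2
      rw [← hij] at h1
      linarith
  -- differences
  have hdiff : ∀ i j, ¬ R i j → ∃ a b : κ, a ≠ b ∧
      ∀ χ, v i χ - v j χ = (if χ = a then 1 else 0) - (if χ = b then 1 else 0) := by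
    intro i j hij
    have hji : ¬ R j i := fun h => hij ((hRv i j).mpr ((hRv j i).mp h).symm)
    apply norm_two_vector (fun χ => v i χ - v j χ) deg hdeg
    · have : ∀ χ, (v i χ - v j χ) ^ 2 = v i χ * v i χ - 2 * (v i χ * v j χ) + v j χ * v j χ :=
        fun χ => by ring
      rw [sum_congr rfl (fun χ _ => this χ), sum_add_distrib, sum_sub_distrib, ← mul_sum,
        hG i i, hG i j, hG j j, if_pos (hR i), if_neg hij, if_pos (hR j)]
      ring
    · exact hD i j
  suffices hsuff : ∃ (Θ : ι → κ) (δ : ℤ) (c : κ → ℤ), (δ = 1 ∨ δ = -1) ∧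
      (∀ i χ, v i χ = c χ + if χ = Θ i then δ else 0) by
    obtain ⟨Θ, δ, c, hδ, hform⟩ := hsuff
    refine ⟨Θ, δ, c, hδ, hform, fun i j => ?_⟩
    rw [hRv]
    constructor
    · intro hij
      have e1 := hform i (Θ i)
      have e2 := hform j (Θ i)
      rw [hij] at e1
      rw [e1, if_pos rfl] at e2
      by_contra hne
      rw [if_neg hne] at e2
      rcases hδ with h | h <;> omega
    · intro hij
      funext χ
      rw [hform i χ, hform j χ, hij]
  obtain ⟨i₀, j₀, h00⟩ := hne
  have hκ : Nonempty κ := by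
    obtain ⟨a, _, _, _⟩ := hdiff i₀ j₀ h00
    exact ⟨a⟩
  have key : ∀ i, ∃ a b : κ, ¬ R i₀ i → (a ≠ b ∧
      ∀ χ, v i₀ χ - v i χ = (if χ = a then 1 else 0) - (if χ = b then 1 else 0)) := by
    intro i
    by_cases h : R i₀ i
    · exact ⟨Classical.choice hκ, Classical.choice hκ, fun h' => absurd h h'⟩
    · obtain ⟨a, b, hab, hv⟩ := hdiff i₀ i h
      exact ⟨a, b, fun _ => ⟨hab, hv⟩⟩
  choose α β hαβ using key
  have same : ∀ j k, ¬ R i₀ j → ¬ R i₀ k → R j k → α j = α k ∧ β j = β k := by
    intro j k hj hk hjk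
    have hvjk := (hRv j k).mp hjk
    obtain ⟨hj1, hj2⟩ := hαβ j hj
    obtain ⟨hk1, hk2⟩ := hαβ k hk
    have e1 := hj2 (α j)
    have e2 := hk2 (α j)
    have e3 := hj2 (β j)
    have e4 := hk2 (β j)
    rw [hvjk] at e1 e3
    rw [e1] at e2
    rw [e3] at e4
    constructor
    · by_contra hne
      rw [if_pos rfl, if_neg hj1, if_neg hne] at e2
      split_ifs at e2 <;> omega
    · by_contra hne
      rw [if_pos rfl, if_neg (Ne.symm hj1), if_neg hne] at e4
      split_ifs at e4 <;> omega
  have notboth : ∀ j k, ¬ R i₀ j → ¬ R i₀ k → ¬ R j k → ¬ (α j = α k ∧ β j = β k) := by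
    intro j k hj hk hjk ⟨h1, h2⟩
    apply hjk
    rw [hRv]
    funext χ
    have e1 := (hαβ j hj).2 χ
    have e2 := (hαβ k hk).2 χ
    rw [h1, h2] at e1
    linarith
  have pair : ∀ j k, ¬ R i₀ j → ¬ R i₀ k → α j = α k ∨ β j = β k := by
    intro j k hj hk
    by_cases hjk : R j k
    · exact Or.inl (same j k hj hk hjk).1
    · by_contra hcon
      push Not at hcon
      obtain ⟨hc1, hc2⟩ := hcon
      obtain ⟨a, b, hab, hv⟩ := hdiff j k hjk
      obtain ⟨hj1, hj2⟩ := hαβ j hj
      obtain ⟨hk1, hk2⟩ := hαβ k hk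
      have f : ∀ χ, (if χ = a then (1 : ℤ) else 0) - (if χ = b then 1 else 0) =
          ((if χ = α k then 1 else 0) - (if χ = β k then 1 else 0)) -
          ((if χ = α j then 1 else 0) - (if χ = β j then 1 else 0)) := by
        intro χ
        rw [← hv χ, ← hj2 χ, ← hk2 χ]
        ring
      have f1 := f (α k)
      have f2 := f (β j)
      rw [if_pos rfl, if_neg hk1, if_neg (Ne.symm hc1)] at f1
      rw [if_pos rfl, if_neg hc2, if_neg (Ne.symm hj1)] at f2
      by_cases h3 : α k = β j
      · rw [if_pos h3] at f1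
        split_ifs at f1 <;> omega
      · rw [if_neg h3] at f1
        rw [if_neg (Ne.symm h3)] at f2
        have ha1 : α k = a := by
          by_contra h
          rw [if_neg h] at f1
          split_ifs at f1 <;> omega
        have ha2 : β j = a := by
          by_contra h
          rw [if_neg h] at f2
          split_ifs at f2 <;> omega
        exact h3 (ha1.trans ha2.symm)
  by_cases hA : ∃ j k, ¬ R i₀ j ∧ ¬ R i₀ k ∧ ¬ R j k ∧ α j = α k
  · -- type A
    obtain ⟨j, k, hj, hk, hjk, hjk'⟩ := hA
    have hall : ∀ l, ¬ R i₀ l → α l = α j := by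
      intro l hl
      by_cases hjl : R j l
      · exact (same j l hj hl hjl).1.symm
      · rcases pair j l hj hl with h | h
        · exact h.symm
        · exfalso
          by_cases hkl : R k l
          · have h2 := (same k l hk hl hkl).2
            exact notboth j k hj hk hjk ⟨hjk', h.trans h2.symm⟩
          · rcases pair k l hk hl with h2 | h2
            · have h3 : α j = α l := hjk'.trans h2
              exact notboth j l hj hl hjl ⟨h3, h⟩
            · exact notboth j k hj hk hjk ⟨hjk', h.trans h2.symm⟩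
    refine ⟨fun i => if R i₀ i then α j else β i, 1,
      fun χ => v i₀ χ - (if χ = α j then 1 else 0), Or.inl rfl, ?_⟩
    · intro i χ
      by_cases hi : R i₀ i
      · have := (hRv i₀ i).mp hi
        simp only [if_pos hi]
        rw [← this]
        split_ifs <;> ring
      · simp only [if_neg hi]
        have e1 := (hαβ i hi).2 χ
        rw [hall i hi] at e1
        split_ifs at e1 ⊢ <;> linarith
  · -- type B
    push Not at hA
    have hall : ∀ l, ¬ R i₀ l → β l = β j₀ := by
      intro l hl
      by_cases hjl : R j₀ l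
      · exact (same j₀ l h00 hl hjl).2.symm
      · rcases pair j₀ l h00 hl with h | h
        · exact absurd h (hA j₀ l h00 hl hjl)
        · exact h.symm
    refine ⟨fun i => if R i₀ i then β j₀ else α i, -1,
      fun χ => v i₀ χ + (if χ = β j₀ then 1 else 0), Or.inr rfl, ?_⟩
    · intro i χ
      by_cases hi : R i₀ i
      · have := (hRv i₀ i).mp hi
        simp only [if_pos hi]
        rw [← this]
        split_ifs <;> ring
      · simp only [if_neg hi]
        have e1 := (hαβ i hi).2 χ
        rw [hall i hi] at e1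
        split_ifs at e1 ⊢ <;> linarith

end Cfsg.Agent.H78.BL
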