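import Mathlib
import Cfsg.Agent.H62.BRC2D
import Cfsg.Agent.H67.BRCore
import Cfsg.Agent.H67.BRCpFalse
import Cfsg.Agent.H67.BRSimple
import Cfsg.Agent.H23.BRSyl
import Cfsg.Agent.H23.BRPerf
import Cfsg.Agent.H23.BRCube

/-!
# Brauer–Reynolds for perfect groups (S4701), reduced to S0999

`s4701_of`: assuming the statement of S0999 (simple non-cyclic groups of order `< p ^ 3`),
a perfect group `G` with `p ∣ |G|`, `|G| < p ^ 3`, non-normal Sylow `p`-subgroup and no normal
subgroup of order two is `PSL(2, p)` or `SL(2, 2 ^ m)`.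
Pieces by helper67 (core, simple normal subgroup, normal Sylow) and helper23 (Sylow order,
perfect quotients, cube bound).
-/

set_option autoImplicit false

namespace Cfsg.Agent.H78.BRP

open Cfsg.Agent.H67.BR Cfsg.Agent.H23.BR

universe u

/-- The statement of S0999 at universe `u`. -/
def S0999Stmt : Prop :=
  ∀ {G : Type u} [Group G] [Finite G] [IsSimpleGroup G], ¬ IsCyclic G → ∀ (p : ℕ), p.Prime →
    p ∣ Nat.card G → Nat.card G < p ^ 3 →
    (∃ (F : Type) (_ : Field F) (_ : Fintype F), Fintype.card F = p ∧ 3 < p ∧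
        Nonempty (G ≃* Matrix.ProjectiveSpecialLinearGroup (Fin 2) F)) ∨
      (∃ (m : ℕ) (F : Type) (_ : Field F) (_ : Fintype F), Fintype.card F = 2 ^ m ∧
        p = 2 ^ m + 1 ∧ 3 < p ∧ Nonempty (G ≃* Matrix.ProjectiveSpecialLinearGroup (Fin 2) F))

theorem s4701_of (h999 : S0999Stmt.{u}) {G : Type u} [Group G] [Finite G]
    (hperf : commutator G = ⊤) (p : ℕ) [Fact p.Prime] (hdvd : p ∣ Nat.card G)
    (hbig : Nat.card G < p ^ 3) (P : Sylow p G) (hP : ¬ (P : Subgroup G).Normal)
    (h2 : ∀ N : Subgroup G, N.Normal → Nat.card N ≠ 2) :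
    (∃ (F : Type) (_ : Field F) (_ : Fintype F), Fintype.card F = p ∧ 3 < p ∧
        Nonempty (G ≃* Matrix.ProjectiveSpecialLinearGroup (Fin 2) F)) ∨
      (∃ (m : ℕ) (F : Type) (_ : Field F) (_ : Fintype F), Fintype.card F = 2 ^ m ∧
        p = 2 ^ m + 1 ∧ 3 < p ∧ Nonempty (G ≃* Matrix.SpecialLinearGroup (Fin 2) F)) := by
  have hpp : p.Prime := Fact.out
  have hPc := sylow_card p hdvd hbig P hP
  have hp2G : ¬ p ^ 2 ∣ Nat.card G := by
    intro h
    have h1 := Sylow.card_eq_multiplicity P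
    rw [hPc] at h1
    have hfac : (Nat.card G).factorization p = 1 := by
      have h3 : p ^ 1 = p ^ (Nat.card G).factorization p := by rw [pow_one]; exact h1
      exact (Nat.pow_right_injective hpp.two_le h3).symm
    have h2le : 2 ≤ (Nat.card G).factorization p :=
      (hpp.pow_dvd_iff_le_factorization (Nat.card_pos.ne')).mp h
    omega
  obtain ⟨K, hKn, hpK, hmax⟩ := exists_core (G := G) p
  haveI := hKn
  have hcard : Nat.card G = Nat.card (G ⧸ K) * Nat.card K :=
    Subgroup.card_eq_card_quotient_mul_card_subgroup K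
  have hperfQ := perfect_quot hperf K
  have hpQ : p ∣ Nat.card (G ⧸ K) := by
    rw [hcard] at hdvd
    exact (hpp.dvd_mul.mp hdvd).resolve_right hpK
  have hp2Q : ¬ p ^ 2 ∣ Nat.card (G ⧸ K) := fun h =>
    hp2G (by rw [hcard]; exact Dvd.dvd.mul_right h _)
  have hcoreQ : ∀ M : Subgroup (G ⧸ K), M.Normal → ¬ p ∣ Nat.card M → M = ⊥ :=
    fun M hM hpM => quot_core p K hpK hmax M hM hpM
  obtain ⟨M, hMn, hMs, hpM⟩ := exists_simple_normal p hpQ hp2Q hcoreQ
  haveI := hMs
  have hMcard : Nat.card (G ⧸ K) = Nat.card M * M.index := (Subgroup.card_mul_index M).symm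
  have hKpos : 0 < Nat.card K := Nat.card_pos
  have hIpos : 0 < M.index := Nat.pos_of_ne_zero M.index_ne_zero_of_finite
  have hncyc : ¬ IsCyclic ↥M := by
    intro hc
    haveI := hc
    letI : CommGroup ↥M := IsCyclic.commGroup
    have hprime : (Nat.card M).Prime := IsSimpleGroup.prime_card
    have h3 : Nat.card M = p := ((Nat.prime_dvd_prime_iff_eq hpp hprime).mp hpM).symm
    exact normal_sylow_false p hperfQ hp2Q M hMn h3
  have hMlt : Nat.card M < p ^ 3 := by
    have h1 : Nat.card M ≤ Nat.card (G ⧸ K) := by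
      rw [hMcard]; exact Nat.le_mul_of_pos_right _ hIpos
    have h2' : Nat.card (G ⧸ K) ≤ Nat.card G := by
      rw [hcard]; exact Nat.le_mul_of_pos_right _ hKpos
    omega
  have hM999 := h999 (G := ↥M) hncyc p hpp hpM hMlt
  have hcube := cube_le (M := ↥M) p hpp hM999
  have hprod : M.index * Nat.card K < 3 := by
    by_contra hge
    push_neg at hge
    have h3 : 3 * Nat.card M ≤ Nat.card G := by
      rw [hcard, hMcard]
      calc 3 * Nat.card M ≤ (M.index * Nat.card K) * Nat.card M := Nat.mul_le_mul_right _ hge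
        _ = Nat.card M * M.index * Nat.card K := by ring
    omega
  have hI : M.index = 1 := by
    by_contra hne
    have hI2 : M.index = 2 := by
      have h4 : M.index * 1 ≤ M.index * Nat.card K := Nat.mul_le_mul_left _ hKpos
      omega
    exact perfect_index_two hperfQ M hI2
  have hK1 : Nat.card K = 1 := by
    by_contra hne
    have hK2 : Nat.card K = 2 := by rw [hI, one_mul] at hprod; omega
    exact h2 K hKn hK2
  have hKbot : K = ⊥ := Subgroup.card_eq_one.mp hK1
  have hMtop : M = ⊤ := Subgroup.index_eq_one.mp hI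
  have e1 : G ≃* G ⧸ K :=
    ((QuotientGroup.quotientMulEquivOfEq hKbot).trans QuotientGroup.quotientBot).symm
  have e2 : (G ⧸ K) ≃* ↥M :=
    (Subgroup.topEquiv.symm).trans (MulEquiv.subgroupCongr hMtop.symm)
  rcases hM999 with ⟨F, hF1, hF2, hc, h3, ⟨e⟩⟩ | ⟨m, F, hF1, hF2, hc, hpm, h3, ⟨e⟩⟩
  · left; exact ⟨F, hF1, hF2, hc, h3, ⟨(e1.trans e2).trans e⟩⟩
  · right
    obtain ⟨e'⟩ := @Cfsg.Agent.H62.BR.sl2_equiv_psl2 F hF1 hF2 m hc
    exact ⟨m, F, hF1, hF2, hc, hpm, h3, ⟨((e1.trans e2).trans e).trans e'.symm⟩⟩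

end Cfsg.Agent.H78.BRP
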