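import Mathlib
import Cfsg.Prelude.Def_Characters
import Cfsg.Prelude.Def_Blocks
import Cfsg.Agent.H21.BRDefs
import Cfsg.Agent.H21.E2Block
import Cfsg.Agent.H81.Reg
import Cfsg.Agent.H74.BTDefs

/-!
# S0997-ARITH1 (helper78, for helper74)

Inside `B0Data`, for `|G| = p q^b g₀`, `g₀ < p - 1`: the non-principal non-exceptional degrees are
divisible by `q`, the exceptional degree `f0` divides `g₀` and is `e` (sign `+1`) or `p - e`
(sign `-1`).
-/

set_option autoImplicit false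
set_option linter.style.haveILetI false

namespace Cfsg.Agent.H78.BT

open Cfsg Cfsg.Agent.H21.BR

universe u

theorem arith1 : Cfsg.Agent.H74.BT.StArith1.{u} := by
  intro G _ _ p q b g₀ e _ hq hpq hG' hg he2 hte P X Y δ ε hB f0 hf0 hrel'
  classical
  have hp : p.Prime := Fact.out
  have hg0 : g₀ ≠ 0 := by
    rintro rfl
    rw [mul_zero] at hG'
    exact (Nat.card_pos (α := G)).ne' hG'
  have hp3 : 3 ≤ p := by omega
  have he0 : 0 < e := by omega
  -- degrees prime to `p` and `q` divide `g₀`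
  have hdvd_g : ∀ d : ℕ, d ∣ Nat.card G → ¬ p ∣ d → ¬ q ∣ d → d ∣ g₀ := by
    intro d hd hpd hqd
    rw [hG'] at hd
    have h1 : Nat.Coprime d p := Nat.Coprime.symm ((Nat.Prime.coprime_iff_not_dvd hp).2 hpd)
    have h2 : Nat.Coprime d (q ^ b) :=
      Nat.Coprime.pow_right b (Nat.Coprime.symm ((Nat.Prime.coprime_iff_not_dvd hq).2 hqd))
    have h3 : d ∣ q ^ b * g₀ := h1.dvd_of_dvd_mul_left (by rwa [mul_assoc] at hd)
    exact h2.dvd_of_dvd_mul_left h3
  -- a divisor `≥ 2` of `g₀` is not `≡ ±1 (mod p)`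
  have hpm1 : ∀ (d : ℕ) (s : ℤ), (s = 1 ∨ s = -1) → 2 ≤ d → (d : ℤ) ≡ s [ZMOD p] →
      d ∣ g₀ → False := by
    intro d s hs hd2 hmod hdg
    have hdle : d ≤ g₀ := Nat.le_of_dvd (by omega) hdg
    have h1 := hmod.dvd
    rcases hs with rfl | rfl
    · have h2 : (p : ℤ) ∣ (d : ℤ) - 1 := by
        have h3 := (dvd_neg (a := (p : ℤ))).mpr h1
        have h4 : -((1 : ℤ) - (d : ℤ)) = (d : ℤ) - 1 := by ring
        rwa [h4] at h3
      have h3 := Int.le_of_dvd (by omega) h2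
      omega
    · have h2 : (p : ℤ) ∣ (d : ℤ) + 1 := by
        have h3 := (dvd_neg (a := (p : ℤ))).mpr h1
        have h4 : -((-1 : ℤ) - (d : ℤ)) = (d : ℤ) + 1 := by ring
        rwa [h4] at h3
      have h3 := Int.le_of_dvd (by omega) h2
      omega
  -- a number `≡ ±1 (mod p)` is prime to `p`
  have hnd : ∀ (d : ℕ) (s : ℤ), (s = 1 ∨ s = -1) → (d : ℤ) ≡ s [ZMOD p] → ¬ p ∣ d := by
    intro d s hs hmod h
    have h3 : (p : ℤ) ∣ (d : ℤ) := by exact_mod_cast h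
    have h4 : (p : ℤ) ∣ s := by
      have h5 := dvd_add hmod.dvd h3
      simpa using h5
    rcases hs with h1 | h1
    · rw [h1] at h4
      have : p ∣ 1 := by exact_mod_cast h4
      exact hp.not_dvd_one this
    · rw [h1] at h4
      have : p ∣ 1 := by exact_mod_cast (dvd_neg.mp h4)
      exact hp.not_dvd_one this
  -- a number `≡ ±e (mod p)` is prime to `p`
  have hnde : ∀ (d : ℕ) (s : ℤ), (s = 1 ∨ s = -1) → (d : ℤ) ≡ s * (e : ℤ) [ZMOD p] → ¬ p ∣ d := by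
    intro d s hs hmod h
    have h3 : (p : ℤ) ∣ (d : ℤ) := by exact_mod_cast h
    have h4 : (p : ℤ) ∣ s * (e : ℤ) := by
      have h5 := dvd_add hmod.dvd h3
      simpa using h5
    have h6 : (p : ℤ) ∣ (e : ℤ) := by
      rcases hs with h | h
      · rw [h] at h4; simpa using h4
      · rw [h] at h4; simpa using h4
    have h7 : p ∣ e := by exact_mod_cast h6
    have := Nat.le_of_dvd he0 h7
    omega
  -- `d ≡ ± e (mod p)` with `0 < d < p`
  have hcase : ∀ (d : ℕ) (s : ℤ), (s = 1 ∨ s = -1) → 0 < d → d < p →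
      (d : ℤ) ≡ s * (e : ℤ) [ZMOD p] → (s = 1 ∧ d = e) ∨ (s = -1 ∧ d + e = p) := by
    intro d s hs hd0 hdp hmod
    have h1 := hmod.dvd
    rcases hs with rfl | rfl
    · left
      refine ⟨rfl, ?_⟩
      have h2 : |1 * (e : ℤ) - (d : ℤ)| < (p : ℤ) := by
        rw [abs_lt]
        constructor <;> omega
      have h3 := Int.eq_zero_of_abs_lt_dvd h1 h2
      omega
    · right
      refine ⟨rfl, ?_⟩
      have h2 : (p : ℤ) ∣ ((d + e : ℕ) : ℤ) := by
        have h3 := (dvd_neg (a := (p : ℤ))).mpr h1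
        have h4 : -(-1 * (e : ℤ) - (d : ℤ)) = ((d + e : ℕ) : ℤ) := by push_cast; ring
        rwa [h4] at h3
      have h3 : p ∣ d + e := by exact_mod_cast h2
      exact Nat.eq_of_dvd_of_lt_two_mul (by omega) h3 (by omega)
  have hYne : Y.Nonempty := by
    rw [Finset.nonempty_iff_ne_empty]
    intro h0
    have h1 := hB.cardY
    rw [h0, Finset.card_empty, zero_mul] at h1
    omega
  obtain ⟨θ, hθ⟩ := hYne
  have hθdeg : charDegree (θ : G → ℂ) = f0 := hf0 θ hθ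
  have hf2 : 2 ≤ f0 := by rw [← hθdeg]; exact hB.two_le_Y θ hθ
  have hfdvd : f0 ∣ Nat.card G := by rw [← hθdeg]; exact Cfsg.Agent.H81.irr_charDegree_dvd θ
  have hfmod : (f0 : ℤ) ≡ ε * (e : ℤ) [ZMOD p] := by rw [← hθdeg]; exact hB.deg_Y θ hθ
  have hdeg0 : charDegree ((one G : IrrCharacter G) : G → ℂ) = 1 := by
    have := (Cfsg.Agent.H81.irr_charDegree (one G)).1
    rw [Cfsg.Agent.H21.E2Block.triv_apply] at this
    exact_mod_cast this.symm
  have hXq : ∀ χ ∈ X, χ ≠ one G → q ∣ charDegree (χ : G → ℂ) := by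
    intro χ hχ hne
    by_contra hqd
    exact hpm1 _ (δ χ) (hB.δ_pm χ hχ) (hB.two_le_X χ hχ hne) (hB.deg_X χ hχ)
      (hdvd_g _ (Cfsg.Agent.H81.irr_charDegree_dvd χ) (hnd _ _ (hB.δ_pm χ hχ) (hB.deg_X χ hχ)) hqd)
  have hsplit : ε * (f0 : ℤ) =
      1 + ∑ χ ∈ X.erase (one G), δ χ * (charDegree (χ : G → ℂ) : ℤ) := by
    rw [hrel', ← Finset.add_sum_erase _ _ hB.one_mem, hB.δ_one, hdeg0]
    simp
  have hsumq : (q : ℤ) ∣ ∑ χ ∈ X.erase (one G), δ χ * (charDegree (χ : G → ℂ) : ℤ) := by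
    apply Finset.dvd_sum
    intro χ hχ
    rw [Finset.mem_erase] at hχ
    exact Dvd.dvd.mul_left (by exact_mod_cast hXq χ hχ.2 hχ.1) _
  have hqf : ¬ q ∣ f0 := by
    intro h
    have h1 : (q : ℤ) ∣ ε * (f0 : ℤ) := Dvd.dvd.mul_left (by exact_mod_cast h) _
    rw [hsplit] at h1
    have h2 : (q : ℤ) ∣ 1 := by
      have := dvd_sub h1 hsumq
      simpa using this
    have : q ∣ 1 := by exact_mod_cast h2
    exact hq.not_dvd_one this
  have hfg : f0 ∣ g₀ := hdvd_g f0 hfdvd (hnde f0 ε hB.ε_pm hfmod) hqf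
  have hfle : f0 ≤ g₀ := Nat.le_of_dvd (by omega) hfg
  refine ⟨hXq, hfg, ?_⟩
  rcases hcase f0 ε hB.ε_pm (by omega) (by omega) hfmod with ⟨hε1, hfe⟩ | ⟨hε1, hfe⟩
  · exact Or.inl ⟨hε1, hfe⟩
  · exact Or.inr ⟨hε1, by omega⟩

/-- Verbatim check. -/
example : Cfsg.Agent.H74.BT.StArith1.{u} := arith1

end Cfsg.Agent.H78.BT
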