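import Mathlib
import Cfsg.Prelude.Def_Characters
import Cfsg.Prelude.Def_Blocks
import Cfsg.Agent.H21.BRDefs
import Cfsg.Agent.H21.E2Block
import Cfsg.Agent.H81.Reg
import Cfsg.Agent.H74.BTDefs

/-!
# S0997-ARITH2 (helper78, for helper74)

Type B arithmetic: inside `B0Data` with sign `-1` and exceptional degree `p - e`, for
`|G| = p q^b g₀`, `g₀ < p - 1`: `q = 2`, `g₀ = p - e`, and `e = 2` or (`2 e = p - 1`, `4 ∣ e`).
-/

set_option autoImplicit false
set_option linter.style.haveILetI false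

namespace Cfsg.Agent.H78.BT

open Cfsg Cfsg.Agent.H21.BR

universe u

theorem arith2 : Cfsg.Agent.H74.BT.StArith2.{u} := by
  intro G _ _ p q b g₀ e _ hq hpq hG' hg he2 hedvd hte hpe P X Y δ hB hY hrel hXq hfg
  classical
  have hp : p.Prime := Fact.out
  have hg0 : g₀ ≠ 0 := by
    rintro rfl
    rw [mul_zero] at hG'
    exact (Nat.card_pos (α := G)).ne' hG'
  have hp3 : 3 ≤ p := by omega
  have he0 : 0 < e := by omega
  have hg0' : g₀ = p - e := Nat.eq_of_dvd_of_lt_two_mul hg0 hfg (by omega)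
  -- `e ∣ q ^ b`
  have h2 : e ∣ q ^ b * g₀ := by
    rw [hG', mul_assoc] at hpe
    exact (Nat.mul_dvd_mul_iff_left hp.pos).mp hpe
  have hcop : Nat.Coprime e g₀ := by
    rw [hg0']
    have h3 : Nat.Coprime e p := by
      rw [Nat.coprime_comm, Nat.Prime.coprime_iff_not_dvd hp]
      intro h
      have := Nat.le_of_dvd he0 h
      omega
    have h4 : p - e + e = p := by omega
    have h5 : Nat.Coprime e (p - e + e) := by rw [h4]; exact h3
    exact (Nat.coprime_add_self_right).mp h5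
  have h3 : e ∣ q ^ b := hcop.dvd_of_dvd_mul_right h2
  obtain ⟨a, -, hea⟩ := (Nat.dvd_prime_pow hq).mp h3
  have ha1 : 1 ≤ a := by
    by_contra h0
    have : a = 0 := by omega
    rw [this, pow_zero] at hea
    omega
  have hqe : q ∣ e := by
    rw [hea]
    exact dvd_pow_self q (by omega)
  have hdeg0 : charDegree ((one G : IrrCharacter G) : G → ℂ) = 1 := by
    have := (Cfsg.Agent.H81.irr_charDegree (one G)).1
    rw [Cfsg.Agent.H21.E2Block.triv_apply] at this
    exact_mod_cast this.symm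
  have hsplit : -((p - e : ℕ) : ℤ) =
      1 + ∑ χ ∈ X.erase (one G), δ χ * (charDegree (χ : G → ℂ) : ℤ) := by
    rw [hrel, ← Finset.add_sum_erase _ _ hB.one_mem, hB.δ_one, hdeg0]
    simp
  have hsum : ∑ χ ∈ X.erase (one G), δ χ * (charDegree (χ : G → ℂ) : ℤ) =
      -((p - e + 1 : ℕ) : ℤ) := by
    have h4 : ((p - e + 1 : ℕ) : ℤ) = ((p - e : ℕ) : ℤ) + 1 := by push_cast; ring
    rw [h4]
    linarith
  -- `q = 2`
  have hq2 : q = 2 := by
    have hsumq : (q : ℤ) ∣ ∑ χ ∈ X.erase (one G), δ χ * (charDegree (χ : G → ℂ) : ℤ) := by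
      apply Finset.dvd_sum
      intro χ hχ
      rw [Finset.mem_erase] at hχ
      exact Dvd.dvd.mul_left (by exact_mod_cast hXq χ hχ.2 hχ.1) _
    rw [hsum] at hsumq
    have h6 : q ∣ p - e + 1 := by exact_mod_cast (dvd_neg.mp hsumq)
    have h7 : q ∣ p - e + 1 + e := Nat.dvd_add h6 hqe
    have h8 : p - e + 1 + e = (p - 1) + 2 := by omega
    rw [h8] at h7
    have h9 : q ∣ p - 1 := dvd_trans hqe hedvd
    have h10 : q ∣ 2 := (Nat.dvd_add_right h9).mp h7
    exact (Nat.prime_dvd_prime_iff_eq hq Nat.prime_two).mp h10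
  subst hq2
  refine ⟨rfl, hg0', ?_⟩
  by_cases ha : a = 1
  · left
    rw [hea, ha, pow_one]
  · right
    have h4e : 4 ∣ e := by
      rw [hea]
      have : a = 2 + (a - 2) := by omega
      rw [this, pow_add]
      exact Dvd.intro _ rfl
    refine ⟨?_, h4e⟩
    have h4p : 4 ∣ p - 1 := dvd_trans h4e hedvd
    -- a member of `X` of degree `2 c`, `c` odd
    have hex : ∃ χ ∈ X.erase (one G), ¬ (4 : ℤ) ∣ δ χ * (charDegree (χ : G → ℂ) : ℤ) := by
      by_contra hcon
      push Not at hcon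
      have h5 : (4 : ℤ) ∣ ∑ χ ∈ X.erase (one G), δ χ * (charDegree (χ : G → ℂ) : ℤ) :=
        Finset.dvd_sum hcon
      rw [hsum] at h5
      have h6 : 4 ∣ p - e + 1 := by exact_mod_cast (dvd_neg.mp h5)
      obtain ⟨k1, hk1⟩ := h4e
      obtain ⟨k2, hk2⟩ := h4p
      obtain ⟨k3, hk3⟩ := h6
      omega
    obtain ⟨χ, hχ, hχ4⟩ := hex
    rw [Finset.mem_erase] at hχ
    obtain ⟨hχne, hχX⟩ := hχ
    have hd4 : ¬ 4 ∣ charDegree (χ : G → ℂ) := fun h =>
      hχ4 (Dvd.dvd.mul_left (by exact_mod_cast h) _)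
    have hd2 : 2 ∣ charDegree (χ : G → ℂ) := hXq χ hχX hχne
    obtain ⟨c, hc⟩ := hd2
    have hcodd : ¬ 2 ∣ c := by
      rintro ⟨c', hc'⟩
      apply hd4
      rw [hc, hc']
      exact ⟨c', by ring⟩
    have hmod := hB.deg_X χ hχX
    have hδ := hB.δ_pm χ hχX
    have hge := hB.two_le_X χ hχX hχne
    -- `p ∤ χ(1)`
    have hpd : ¬ p ∣ charDegree (χ : G → ℂ) := by
      intro h
      have h3 : (p : ℤ) ∣ (charDegree (χ : G → ℂ) : ℤ) := by exact_mod_cast h
      have h4 : (p : ℤ) ∣ δ χ := by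
        have h5 := dvd_add hmod.dvd h3
        simpa using h5
      rcases hδ with h1 | h1
      · rw [h1] at h4
        have : p ∣ 1 := by exact_mod_cast h4
        exact hp.not_dvd_one this
      · rw [h1] at h4
        have : p ∣ 1 := by exact_mod_cast (dvd_neg.mp h4)
        exact hp.not_dvd_one this
    -- `c ∣ p - e`
    have hcd : c ∣ p - e := by
      have h5 : charDegree (χ : G → ℂ) ∣ Nat.card G := Cfsg.Agent.H81.irr_charDegree_dvd χ
      rw [hG', mul_assoc, hg0'] at h5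
      have h6 : Nat.Coprime (charDegree (χ : G → ℂ)) p :=
        Nat.Coprime.symm ((Nat.Prime.coprime_iff_not_dvd hp).2 hpd)
      have h7 : charDegree (χ : G → ℂ) ∣ 2 ^ b * (p - e) := h6.dvd_of_dvd_mul_left h5
      have h8 : c ∣ 2 ^ b * (p - e) := dvd_trans ⟨2, by rw [hc]; ring⟩ h7
      have h9 : Nat.Coprime c (2 ^ b) :=
        Nat.Coprime.pow_right b (Nat.Coprime.symm ((Nat.Prime.coprime_iff_not_dvd
          Nat.prime_two).2 hcodd))
      exact h9.dvd_of_dvd_mul_left h8
    have h1 := hmod.dvd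
    obtain ⟨k, hk⟩ := hcd
    have hk0 : k ≠ 0 := by
      rintro rfl
      omega
    rcases hδ with hδ1 | hδ1
    · -- `χ(1) ≡ 1`
      rw [hδ1] at h1
      have h2' : (p : ℤ) ∣ ((charDegree (χ : G → ℂ) - 1 : ℕ) : ℤ) := by
        have h3 := (dvd_neg (a := (p : ℤ))).mpr h1
        have h4 : -((1 : ℤ) - (charDegree (χ : G → ℂ) : ℤ)) =
            ((charDegree (χ : G → ℂ) - 1 : ℕ) : ℤ) := by
          rw [Nat.cast_sub (by omega)]
          push_cast
          ring
        rwa [h4] at h3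
      have h3 : p ∣ charDegree (χ : G → ℂ) - 1 := by exact_mod_cast h2'
      have h4 := Nat.le_of_dvd (by omega) h3
      -- `k = 1`
      have hk1 : k = 1 := by
        by_contra hne
        have hk2 : 2 ≤ k := by omega
        have : c * 2 ≤ c * k := Nat.mul_le_mul_left c hk2
        omega
      rw [hk1, mul_one] at hk
      have h5 : charDegree (χ : G → ℂ) - 1 = p :=
        Nat.eq_of_dvd_of_lt_two_mul (by omega) h3 (by omega)
      omega
    · -- `χ(1) ≡ -1`
      rw [hδ1] at h1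
      have h2' : (p : ℤ) ∣ ((charDegree (χ : G → ℂ) + 1 : ℕ) : ℤ) := by
        have h3 := (dvd_neg (a := (p : ℤ))).mpr h1
        have h4 : -((-1 : ℤ) - (charDegree (χ : G → ℂ) : ℤ)) =
            ((charDegree (χ : G → ℂ) + 1 : ℕ) : ℤ) := by
          push_cast
          ring
        rwa [h4] at h3
      have h3 : p ∣ charDegree (χ : G → ℂ) + 1 := by exact_mod_cast h2'
      have h4 := Nat.le_of_dvd (by omega) h3
      have hk1 : k = 1 := by
        by_contra hne
        have hk2 : 2 ≤ k := by omega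
        have : c * 2 ≤ c * k := Nat.mul_le_mul_left c hk2
        omega
      rw [hk1, mul_one] at hk
      have h5 : charDegree (χ : G → ℂ) + 1 = p :=
        Nat.eq_of_dvd_of_lt_two_mul (by omega) h3 (by omega)
      omega

/-- Verbatim check. -/
example : Cfsg.Agent.H74.BT.StArith2.{u} := arith2

end Cfsg.Agent.H78.BT
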