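import Mathlib
import Cfsg.Prelude.Def_Characters
import Cfsg.Prelude.Def_Blocks
import Cfsg.Agent.H21.BRDefs
import Cfsg.Agent.S4441
import Cfsg.Agent.S0910
import Cfsg.Agent.H21.E2Block
import Cfsg.Agent.H21.SimpleTools
import Cfsg.Agent.H81.BlockDeg
import Cfsg.Agent.H81.Reg
import Cfsg.Agent.H4.IrrCount
import Cfsg.Agent.H74.BTDefs

/-!
# S0997-SMALL1 (helper78, for helper74)

A simple group of order `p q^b g₀`, `g₀ < p - 1`, has a non-principal character of degree
`< p - 1` in its principal `p`-block, and `|N(P) : C(P)| ≠ p - 1`.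
-/

set_option autoImplicit false
set_option linter.style.haveILetI false

namespace Cfsg.Agent.H78.BT

open Cfsg Cfsg.Agent.H21.BR

universe u

theorem small1 : Cfsg.Agent.H74.BT.StSmall1.{u} := by
  intro G _ _ _ hG p q b g₀ _ hq hpq hp2 hG' hg M hM P hP
  classical
  have hp : p.Prime := Fact.out
  have hna : ∃ u v : G, u * v ≠ v * u := by
    by_contra h
    push Not at h
    apply hG
    letI : CommGroup G := { ‹Group G› with mul_comm := h }
    exact IsSimpleGroup.isCyclic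
  have hGc : ¬ IsMulCommutative G := by
    intro hc
    obtain ⟨u, v, huv⟩ := hna
    exact huv (hc.is_comm.comm u v)
  have hg0 : g₀ ≠ 0 := by
    rintro rfl
    rw [mul_zero] at hG'
    exact (Nat.card_pos (α := G)).ne' hG'
  have hp3 : 3 ≤ p := by omega
  obtain ⟨e, he, he1, hedvd, -⟩ := Cfsg.Agent.H21.simple_sylow_prime_card_NC hGc P hP
  rw [← he]
  have he0 : 0 < e := Nat.pos_of_dvd_of_pos hedvd (by omega)
  have hele : e ≤ p - 1 := Nat.le_of_dvd (by omega) hedvd
  -- degrees prime to `p` and `q` divide `g₀`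
  have hdvd_g : ∀ d : ℕ, d ∣ Nat.card G → ¬ p ∣ d → ¬ q ∣ d → d ∣ g₀ := by
    intro d hd hpd hqd
    rw [hG'] at hd
    have h1 : Nat.Coprime d p := Nat.Coprime.symm ((Nat.Prime.coprime_iff_not_dvd hp).2 hpd)
    have h2 : Nat.Coprime d (q ^ b) :=
      Nat.Coprime.pow_right b (Nat.Coprime.symm ((Nat.Prime.coprime_iff_not_dvd hq).2 hqd))
    have h3 : d ∣ q ^ b * g₀ := h1.dvd_of_dvd_mul_left (by rwa [mul_assoc] at hd)
    exact h2.dvd_of_dvd_mul_left h3
  -- a divisor `≥ 2` of `g₀` is not `≡ ±1 (mod p)`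
  have hpm1 : ∀ (d : ℕ) (s : ℤ), (s = 1 ∨ s = -1) → 2 ≤ d → (d : ℤ) ≡ s [ZMOD p] →
      d ∣ g₀ → False := by
    intro d s hs hd2 hmod hdg
    have hdle : d ≤ g₀ := Nat.le_of_dvd (by omega) hdg
    have h1 := hmod.dvd
    rcases hs with rfl | rfl
    · have h2 : (p : ℤ) ∣ (d : ℤ) - 1 := by
        have h3 := (dvd_neg (a := (p : ℤ))).mpr h1
        have h4 : -((1 : ℤ) - (d : ℤ)) = (d : ℤ) - 1 := by ring
        rwa [h4] at h3
      have h3 := Int.le_of_dvd (by omega) h2
      omega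
    · have h2 : (p : ℤ) ∣ (d : ℤ) + 1 := by
        have h3 := (dvd_neg (a := (p : ℤ))).mpr h1
        have h4 : -((-1 : ℤ) - (d : ℤ)) = (d : ℤ) + 1 := by ring
        rwa [h4] at h3
      have h3 := Int.le_of_dvd (by omega) h2
      omega
  -- a number `≡ ±1 (mod p)` is prime to `p`
  have hnd : ∀ (d : ℕ) (s : ℤ), (s = 1 ∨ s = -1) → (d : ℤ) ≡ s [ZMOD p] → ¬ p ∣ d := by
    intro d s hs hmod h
    have h3 : (p : ℤ) ∣ (d : ℤ) := by exact_mod_cast h
    have h4 : (p : ℤ) ∣ s := by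
      have h5 := dvd_add hmod.dvd h3
      simpa using h5
    rcases hs with h1 | h1
    · rw [h1] at h4
      have : p ∣ 1 := by exact_mod_cast h4
      exact hp.not_dvd_one this
    · rw [h1] at h4
      have : p ∣ 1 := by exact_mod_cast (dvd_neg.mp h4)
      exact hp.not_dvd_one this
  -- a number `≡ ±e (mod p)` is prime to `p`
  have hnde : ∀ (d : ℕ) (s : ℤ), (s = 1 ∨ s = -1) → (d : ℤ) ≡ s * (e : ℤ) [ZMOD p] → ¬ p ∣ d := by
    intro d s hs hmod h
    have h3 : (p : ℤ) ∣ (d : ℤ) := by exact_mod_cast h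
    have h4 : (p : ℤ) ∣ s * (e : ℤ) := by
      have h5 := dvd_add hmod.dvd h3
      simpa using h5
    have h6 : (p : ℤ) ∣ (e : ℤ) := by
      rcases hs with h | h
      · rw [h] at h4; simpa using h4
      · rw [h] at h4; simpa using h4
    have h7 : p ∣ e := by exact_mod_cast h6
    have := Nat.le_of_dvd he0 h7
    omega
  -- `d ≡ ± e (mod p)` with `0 < d < p`
  have hcase : ∀ (d : ℕ) (s : ℤ), (s = 1 ∨ s = -1) → 0 < d → d < p →
      (d : ℤ) ≡ s * (e : ℤ) [ZMOD p] → (s = 1 ∧ d = e) ∨ (s = -1 ∧ d + e = p) := by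
    intro d s hs hd0 hdp hmod
    have h1 := hmod.dvd
    rcases hs with rfl | rfl
    · left
      refine ⟨rfl, ?_⟩
      have h2 : |1 * (e : ℤ) - (d : ℤ)| < (p : ℤ) := by
        rw [abs_lt]
        constructor <;> omega
      have h3 := Int.eq_zero_of_abs_lt_dvd h1 h2
      omega
    · right
      refine ⟨rfl, ?_⟩
      have h2 : (p : ℤ) ∣ ((d + e : ℕ) : ℤ) := by
        have h3 := (dvd_neg (a := (p : ℤ))).mpr h1
        have h4 : -(-1 * (e : ℤ) - (d : ℤ)) = ((d + e : ℕ) : ℤ) := by push_cast; ring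
        rwa [h4] at h3
      have h3 : p ∣ d + e := by exact_mod_cast h2
      exact Nat.eq_of_dvd_of_lt_two_mul (by omega) h3 (by omega)
  let _ : Fintype G := Fintype.ofFinite G
  have := Cfsg.Agent.H4.finite_irr G
  obtain ⟨X, Y, hB, hdisj, hX, hY, εX, ε, hXp, hε, hYdeg, hYeq, hYsum⟩ :=
    Cfsg.Agent.S4441.result p M hM hp2 P hP e he.symm
  rw [Nat.card_coe_set_eq] at hX hY
  have hXfin : X.Finite := Set.toFinite _
  have hYfin : Y.Finite := Set.toFinite _
  have hval1 : ∀ ζ : IrrCharacter G, (ζ : G → ℂ) 1 = (charDegree (ζ : G → ℂ) : ℂ) :=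
    fun ζ => (Cfsg.Agent.H81.irr_charDegree ζ).1
  have hpos : ∀ ζ : IrrCharacter G, 0 < charDegree (ζ : G → ℂ) :=
    fun ζ => (Cfsg.Agent.H81.irr_charDegree ζ).2
  have h0B : one G ∈ principalBlock M G := Cfsg.Agent.H81.mem_blockOf_self hM (one G)
  have hdeg0 : charDegree ((one G : IrrCharacter G) : G → ℂ) = 1 := by
    have := hval1 (one G)
    rw [Cfsg.Agent.H21.E2Block.triv_apply] at this
    exact_mod_cast this.symm
  have hXB : ∀ χ ∈ X, χ ∈ principalBlock M G := fun χ hχ => by rw [hB]; exact Or.inl hχ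
  have hYB : ∀ χ ∈ Y, χ ∈ principalBlock M G := fun χ hχ => by rw [hB]; exact Or.inr hχ
  -- nontrivial members of the principal block have degree at least 2
  have hge2 : ∀ χ ∈ principalBlock M G, χ ≠ one G → 2 ≤ charDegree (χ : G → ℂ) := by
    intro χ hχ hne
    have h1 : charDegree (χ : G → ℂ) ≠ 1 := by
      intro h1
      have hdeg : (χ : G → ℂ) 1 = ((p : ℕ) : ℂ) ^ 0 := by rw [hval1, h1]; simp
      have := Cfsg.Agent.S0910.result p M hM hna χ hχ 0 hdeg
      exact hne (Subtype.ext this)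
    have := hpos χ
    omega
  have hreg1 : ¬ p ∣ orderOf (1 : G) := by
    rw [orderOf_one]; exact hp.not_dvd_one
  -- nontrivial members of `X` have degree divisible by `q`
  have hXq : ∀ χ ∈ X, χ ≠ one G → (q : ℤ) ∣ εX χ * (charDegree (χ : G → ℂ) : ℤ) := by
    intro χ hχ hne
    obtain ⟨hs, hmod, -⟩ := hXp χ hχ
    by_contra hcon
    have hqd : ¬ q ∣ charDegree (χ : G → ℂ) := fun h =>
      hcon (Dvd.dvd.mul_left (by exact_mod_cast h) _)
    exact hpm1 _ (εX χ) hs (hge2 χ (hXB χ hχ) hne) hmod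
      (hdvd_g _ (Cfsg.Agent.H81.irr_charDegree_dvd χ) (hnd _ _ hs hmod) hqd)
  -- the degree equation
  have hrel : ∀ θ ∈ Y, ε * (charDegree (θ : G → ℂ) : ℤ) =
      ∑ χ ∈ hXfin.toFinset, εX χ * (charDegree (χ : G → ℂ) : ℤ) := by
    intro θ hθ
    have h1 := hYsum θ hθ 1 hreg1
    rw [finsum_mem_eq_finite_toFinset_sum _ hXfin] at h1
    simp only [hval1] at h1
    exact_mod_cast h1
  have hnotq : ∀ z : ℤ, (z = 1 ∨ z = -1) → ¬ (q : ℤ) ∣ z := by
    intro z hz h
    have : (q : ℤ) ∣ 1 := by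
      rcases hz with rfl | rfl
      · exact h
      · exact dvd_neg.mp h
    have h2 : q ∣ 1 := by exact_mod_cast this
    exact hq.not_dvd_one h2
  -- the trivial character lies in `X`
  have h0X : one G ∈ X := by
    by_contra h0X
    have h0Y : one G ∈ Y := by
      rw [hB] at h0B
      rcases h0B with h | h
      · exact absurd h h0X
      · exact h
    have h1 := hrel (one G) h0Y
    rw [hdeg0] at h1
    have h2 : (q : ℤ) ∣ ∑ χ ∈ hXfin.toFinset, εX χ * (charDegree (χ : G → ℂ) : ℤ) := by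
      apply Finset.dvd_sum
      intro χ hχ
      rw [Set.Finite.mem_toFinset] at hχ
      exact hXq χ hχ (fun h => h0X (h ▸ hχ))
    rw [← h1] at h2
    apply hnotq ε hε
    simpa using h2
  have hs0 : εX (one G) = 1 := by
    obtain ⟨h1, h2, -⟩ := hXp _ h0X
    rw [hdeg0] at h2
    have h3 := h2.dvd
    rcases h1 with h1 | h1
    · exact h1
    · exfalso
      rw [h1] at h3
      have h4 : (p : ℤ) ∣ 2 := by
        have : (-1 : ℤ) - ((1 : ℕ) : ℤ) = -2 := by norm_num
        rw [this] at h3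
        exact (dvd_neg).1 h3
      have h5 : p ∣ 2 := by exact_mod_cast h4
      have := Nat.le_of_dvd (by norm_num) h5
      omega
  -- an exceptional character
  have hYne : Y.Nonempty := by
    have h1 : 0 < (p - 1) / e := Nat.div_pos hele he0
    rw [← hY] at h1
    exact (Set.ncard_pos hYfin).1 h1
  obtain ⟨θ, hθ⟩ := hYne
  have hθne : θ ≠ one G := fun h => Set.disjoint_left.1 hdisj h0X (h ▸ hθ)
  have hf2 := hge2 θ (hYB θ hθ) hθne
  have h0X' : one G ∈ hXfin.toFinset := by rw [Set.Finite.mem_toFinset]; exact h0X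
  have hsplit : ε * (charDegree (θ : G → ℂ) : ℤ) =
      1 + ∑ χ ∈ hXfin.toFinset.erase (one G), εX χ * (charDegree (χ : G → ℂ) : ℤ) := by
    rw [hrel θ hθ, ← Finset.add_sum_erase _ _ h0X', hs0, hdeg0]
    simp
  have hsumq : (q : ℤ) ∣
      ∑ χ ∈ hXfin.toFinset.erase (one G), εX χ * (charDegree (χ : G → ℂ) : ℤ) := by
    apply Finset.dvd_sum
    intro χ hχ
    rw [Finset.mem_erase, Set.Finite.mem_toFinset] at hχ
    exact hXq χ hχ.2 hχ.1
  have hqf : ¬ q ∣ charDegree (θ : G → ℂ) := by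
    intro h
    have h1 : (q : ℤ) ∣ ε * (charDegree (θ : G → ℂ) : ℤ) :=
      Dvd.dvd.mul_left (by exact_mod_cast h) _
    rw [hsplit] at h1
    have h2 : (q : ℤ) ∣ 1 := by
      have := dvd_sub h1 hsumq
      simpa using this
    have : q ∣ 1 := by exact_mod_cast h2
    exact hq.not_dvd_one this
  have hfmod := hYdeg θ hθ
  have hfg : charDegree (θ : G → ℂ) ∣ g₀ :=
    hdvd_g _ (Cfsg.Agent.H81.irr_charDegree_dvd θ) (hnde _ ε hε hfmod) hqf
  have hfle : charDegree (θ : G → ℂ) ≤ g₀ := Nat.le_of_dvd (by omega) hfg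
  refine ⟨⟨θ, hYB θ hθ, hθne, by omega⟩, ?_⟩
  intro hep
  rcases hcase _ ε hε (by omega) (by omega) hfmod with ⟨-, h⟩ | ⟨-, h⟩ <;> omega

/-- Verbatim check. -/
example : Cfsg.Agent.H74.BT.StSmall1.{u} := small1

end Cfsg.Agent.H78.BT
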