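import Mathlib
import Cfsg.Prelude.Def_Characters
import Cfsg.Prelude.Def_Blocks
import Cfsg.Agent.H21.BRDefs
import Cfsg.Agent.S4729
import Cfsg.Agent.S0910
import Cfsg.Agent.H21.E2Block
import Cfsg.Agent.H21.ResidueTrick
import Cfsg.Agent.H81.Reg
import Cfsg.Agent.H74.BTDefs

/-!
# S0997-SMALL2 (helper78, for helper74)

A non-principal character of degree `< 2 p` in the principal `p`-block of a non-abelian simple
group with a Sylow `p`-subgroup `P` of order `p` forces `C(P) = P` (from S4729).
-/

set_option autoImplicit false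
set_option linter.style.haveILetI false

namespace Cfsg.Agent.H78.BT

open Cfsg Cfsg.Agent.H21.BR

universe u

theorem small2 : Cfsg.Agent.H74.BT.StSmall2.{u} := by
  intro G _ _ _ hG p _ M hM P hP χ hχ hne hlt
  classical
  have hp : p.Prime := Fact.out
  have hna : ∃ u v : G, u * v ≠ v * u := by
    by_contra h
    push Not at h
    apply hG
    letI : CommGroup G := { ‹Group G› with mul_comm := h }
    exact IsSimpleGroup.isCyclic
  have hperf : commutator G = ⊤ := by
    rcases (inferInstance : (commutator G).Normal).eq_bot_or_eq_top with h0 | h0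
    · exfalso
      obtain ⟨a, b, hab⟩ := hna
      rw [commutator_eq_bot_iff] at h0
      exact hab (h0.is_comm.comm a b)
    · exact h0
  have hval1 : (χ : G → ℂ) 1 = (charDegree (χ : G → ℂ) : ℂ) :=
    (Cfsg.Agent.H81.irr_charDegree χ).1
  have hdeg1 : charDegree (χ : G → ℂ) ≠ 1 := by
    intro h1
    have hdeg : (χ : G → ℂ) 1 = ((p : ℕ) : ℂ) ^ 0 := by rw [hval1, h1]; simp
    have := Cfsg.Agent.S0910.result p M hM hna χ hχ 0 hdeg
    exact hne (Subtype.ext this)
  have hpg : IsPGroup p ↥(Subgroup.centralizer ((P : Subgroup G) : Set G)) := by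
    refine Cfsg.Agent.S4729.result p M hM hperf P χ hχ ?_ hlt
    intro g hg
    by_contra hg1
    refine Cfsg.Agent.H21.ResidueTrick.irr_apply_ne_degree χ ?_ g hg1 hg
    rw [hval1]
    intro h1
    have h3 : charDegree (χ : G → ℂ) = 1 := by exact_mod_cast h1
    exact hdeg1 h3
  have hPle : (P : Subgroup G) ≤ Subgroup.centralizer ((P : Subgroup G) : Set G) := by
    haveI : IsCyclic (P : Subgroup G) := isCyclic_of_prime_card hP
    intro x hx
    rw [Subgroup.mem_centralizer_iff]
    intro z hz
    have := (IsCyclic.commGroup (α := (P : Subgroup G))).mul_comm ⟨z, hz⟩ ⟨x, hx⟩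
    exact congrArg Subtype.val this
  exact P.3 hpg hPle

/-- Verbatim check. -/
example : Cfsg.Agent.H74.BT.StSmall2.{u} := small2

end Cfsg.Agent.H78.BT
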