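import Cfsg.Agent.H82.BrLibA

/-!
# S4504-LIB, piece F2 (helper78): the seven types of values on `P ∖ 1`

In the local setup around a Sylow `p`-subgroup `P` of order `p` with `N / C` cyclic, the count
`k_{p'}(G) ≥ k(N)`, all characters of `C` trivial on `P` linear and `N`-invariant, and exactly two
`N`-orbits of nontrivial characters of `P`: every irreducible character of `G` has on `P ∖ 1` one
of seven shapes.
-/

set_option autoImplicit false
set_option linter.style.haveILetI false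
set_option linter.unusedSectionVars false

namespace Cfsg.Agent.H78.BrLib

open Cfsg Cfsg.Agent.H4 Cfsg.Agent.H82 Cfsg.Agent.H82.BL Cfsg.Agent.Clifford Cfsg.Agent.H82.P1
open scoped ComplexConjugate
open Classical

universe u

variable {G : Type u} [Group G] [Fintype G] {p : ℕ} {N C P : Subgroup G} [Fintype N] [Fintype C]
  (S : Setup p N C P)
  [Fintype (IrrCharacter G)] [Fintype (IrrCharacter N)] [Fintype (IrrCharacter C)]
  [Fintype (P.subgroupOf C)] [Fintype (P.subgroupOf C →* ℂˣ)]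

/-- The orbit sum is constant on `N`-orbits of characters of `P`. -/
theorem Zs_comp_cjP (μ : P.subgroupOf C →* ℂˣ) (n : N) (x : P.subgroupOf C) :
    Zs S (μ.comp (cjP S n)) x = Zs S μ x := by
  simp only [Zs, MonoidHom.comp_apply]
  rw [← Equiv.sum_comp (Equiv.mulLeft n) (fun m : N => ((μ (cjP S m x) : ℂˣ) : ℂ))]
  refine Finset.sum_congr rfl fun m _ => ?_
  rw [Equiv.coe_mulLeft, cjP_mul, MonoidHom.comp_apply]

/-- The seven types of values on `P ∖ 1` of the irreducible characters of `G`. -/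
theorem types (hp : p.Prime) (_hP : Nat.card P = p)
    (hcyc : haveI := normal_CN S; IsCyclic (N ⧸ C.subgroupOf N))
    (heq : Fintype.card (IrrCharacter N) ≤
      (Finset.univ.filter fun χ : IrrCharacter G => ¬ Nat.card P ∣ charDegree χ.1).card)
    (hlin : ∀ ϑ : Irr0 S, ϑ.1.1 1 = 1)
    (hinv : ∀ (ϑ : Irr0 S) (n : N) (c : C), ϑ.1.1 (cj S n c) = ϑ.1.1 c)
    (htwo : ∀ α β : P.subgroupOf C →* ℂˣ, α ≠ 1 → β ≠ 1 → (∀ n : N, β ≠ α.comp (cjP S n)) →
      ∀ x : P.subgroupOf C, x ≠ 1 → Zs S α x + Zs S β x = -(Nat.card C : ℂ))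
    (μ1 : P.subgroupOf C →* ℂˣ) (hμ1 : μ1 ≠ 1) (ψ : IrrCharacter G) :
    (∀ x : P.subgroupOf C, x ≠ 1 → ψ.1 ((x : C) : G) = 0) ∨
    (∀ x : P.subgroupOf C, x ≠ 1 → ψ.1 ((x : C) : G) = 1) ∨
    (∀ x : P.subgroupOf C, x ≠ 1 → ψ.1 ((x : C) : G) = -1) ∨
    (∀ x : P.subgroupOf C, x ≠ 1 → ψ.1 ((x : C) : G) = (Nat.card C : ℂ)⁻¹ * Zs S μ1 x) ∨
    (∀ x : P.subgroupOf C, x ≠ 1 → ψ.1 ((x : C) : G) = -1 - (Nat.card C : ℂ)⁻¹ * Zs S μ1 x) ∨
    (∀ x : P.subgroupOf C, x ≠ 1 → ψ.1 ((x : C) : G) = -((Nat.card C : ℂ)⁻¹ * Zs S μ1 x)) ∨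
    (∀ x : P.subgroupOf C, x ≠ 1 → ψ.1 ((x : C) : G) = 1 + (Nat.card C : ℂ)⁻¹ * Zs S μ1 x) := by
  have hψcl : IsClassFunction C (fun c : C => ψ.1 c) :=
    isClassFunction_of_isCharacter (isCharacter_restrict C (isCharacter_of_isIrrCharacter ψ.2))
  by_cases hall : ∀ (μ : {μ : P.subgroupOf C →* ℂˣ // μ ≠ 1}) (ϑ : Irr0 S),
      classInner (Gam S μ.1 ϑ.1.1) ψ.1 = 0
  · -- type `0`
    left
    intro x hx
    have hzero : IsClassFunction C (0 : C → ℂ) := fun _ _ => rfl
    have h := sing_eq S (fun c : C => ψ.1 c) 0 hψcl hzero (by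
      intro μ ϑ
      rw [← inner_Gam S μ.1 ϑ.1.1 (irr_isClassFunction ψ), hall μ ϑ, classInner_zero_right])
      (x : C) (sing_of_ne_one S x hx)
    simpa using h
  · push Not at hall
    obtain ⟨μ₀, ϑ, hne⟩ := hall
    right
    obtain ⟨w, b, s, hw, -, hwb, hs, hb, hv⟩ := exists_wbs_gen S hp hcyc heq ϑ ⟨μ1, hμ1⟩
    have hmem : ψ ∈ setX S ϑ := by
      simp only [setX, Finset.mem_filter, Finset.mem_univ, true_and]
      exact ⟨μ₀, hne⟩
    have hdisj : ∀ ϑ' : Irr0 S, ¬ relN S ϑ ϑ' → ∀ μ : {μ : P.subgroupOf C →* ℂˣ // μ ≠ 1},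
        classInner (Gam S μ.1 ϑ'.1.1) ψ.1 = 0 := by
      intro ϑ' hr μ
      have hd := (setX_facts S hcyc heq ϑ).2 ϑ' (fun h => hr (relN_symm S h))
      by_contra hcon
      have hmem' : ψ ∈ setX S ϑ' := by
        simp only [setX, Finset.mem_filter, Finset.mem_univ, true_and]
        exact ⟨μ, hcon⟩
      exact (Finset.disjoint_left.mp hd) hmem' hmem
    have hind0 : (ind S : ℂ) ≠ 0 := by
      have := ind_pos S
      exact_mod_cast this.ne'
    by_cases hwψ : w ψ = 0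
    · -- exceptional characters
      have hbψ : ψ = b (LamN S μ₀ ϑ) := by
        by_contra hcon
        apply hne
        rw [hv μ₀ ψ, hwψ, if_neg hcon]
        simp
      have hz : ∀ μ : {μ : P.subgroupOf C →* ℂˣ // μ ≠ 1}, classInner (Gam S μ.1 ϑ.1.1) ψ.1 =
          if LamN S μ ϑ = LamN S μ₀ ϑ then (s : ℂ) else 0 := by
        intro μ
        rw [hv μ ψ, hwψ]
        by_cases hL : LamN S μ ϑ = LamN S μ₀ ϑ
        · rw [if_pos hL, if_pos (by rw [hbψ, hL])]
          simp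
        · rw [if_neg hL, if_neg (fun h => hL (hb μ μ₀ (by rw [← h, ← hbψ])))]
          simp
      have hval : ∀ x : P.subgroupOf C, x ≠ 1 →
          ψ.1 ((x : C) : G) = -(s : ℂ) * ((Nat.card C : ℂ)⁻¹ * Zs S μ₀.1 x) := by
        intro x hx
        have h1 := value_sing_exc S ϑ μ₀ ψ s hz hdisj (x : C) (sing_of_ne_one S x hx)
        rw [h1, Cfsg.Agent.H82.BrLib.trN_tw_apply_P S ϑ μ₀.1 x, hlin ϑ, mul_one]
      by_cases hconj : ∃ n : N, μ₀.1 = μ1.comp (cjP S n)
      · obtain ⟨n, hn⟩ := hconj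
        have hZ : ∀ x : P.subgroupOf C, Zs S μ₀.1 x = Zs S μ1 x := by
          intro x
          rw [hn, Zs_comp_cjP]
        rcases hs with hs1 | hs1
        · -- `s = 1`: type `-(η)`
          right; right; right; right; left
          intro x hx
          rw [hval x hx, hZ x, hs1]
          push_cast
          ring
        · -- `s = -1`: type `η`
          right; right; left
          intro x hx
          rw [hval x hx, hZ x, hs1]
          push_cast
          ring
      · push Not at hconj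
        have hC0 : (Nat.card C : ℂ) ≠ 0 := cardC_ne_zero C
        have hZ : ∀ x : P.subgroupOf C, x ≠ 1 →
            (Nat.card C : ℂ)⁻¹ * Zs S μ₀.1 x = -1 - (Nat.card C : ℂ)⁻¹ * Zs S μ1 x := by
          intro x hx
          have h2 := htwo μ1 μ₀.1 hμ1 μ₀.2 hconj x hx
          have h3 : Zs S μ₀.1 x = -(Nat.card C : ℂ) - Zs S μ1 x := by
            linear_combination h2
          rw [h3]
          field_simp
        rcases hs with hs1 | hs1
        · -- `s = 1`: type `1 + η`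
          right; right; right; right; right
          intro x hx
          rw [hval x hx, hZ x hx, hs1]
          push_cast
          ring
        · -- `s = -1`: type `-1 - η`
          right; right; right; left
          intro x hx
          rw [hval x hx, hZ x hx, hs1]
          push_cast
          ring
    · -- non-exceptional characters
      have hz : ∀ μ : {μ : P.subgroupOf C →* ℂˣ // μ ≠ 1},
          classInner (Gam S μ.1 ϑ.1.1) ψ.1 = ((w ψ : ℤ) : ℂ) := by
        intro μ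
        rw [hv μ ψ]
        have hne' : ψ ≠ b (LamN S μ ϑ) := by
          intro h
          apply hwψ
          rw [h]
          exact hwb μ
        rw [if_neg hne']
        simp
      have he : classInner ϑ.1.1 (trN S ϑ.1.1) = ((ind S : ℕ) : ℂ) := by
        rw [inner_ninv_trN S (hinv ϑ) ϑ.1.1, irr_inner_self, mul_one]
      have hval : ∀ x : P.subgroupOf C, x ≠ 1 → ψ.1 ((x : C) : G) = ((w ψ : ℤ) : ℂ) := by
        intro x hx
        have h1 := value_sing_gen S ϑ (ind S) he ψ (w ψ) hz hdisj (x : C) (sing_of_ne_one S x hx)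
        rw [trN_apply_P S ϑ x, hlin ϑ, mul_one] at h1
        apply mul_left_cancel₀ hind0
        rw [h1]
        ring
      rcases hw ψ with h0 | h1 | h1
      · exact absurd h0 hwψ
      · left
        intro x hx
        rw [hval x hx, h1]
        simp
      · right; left
        intro x hx
        rw [hval x hx, h1]
        simp

/-- Verbatim check of the posted statement (helper82, board post 6274). -/
example (hp : p.Prime) (hP : Nat.card P = p)
    (hcyc : haveI := normal_CN S; IsCyclic (N ⧸ C.subgroupOf N))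
    (heq : Fintype.card (IrrCharacter N) ≤ (Finset.univ.filter fun χ : IrrCharacter G => ¬ Nat.card P ∣ charDegree χ.1).card)
    (hlin : ∀ ϑ : Irr0 S, ϑ.1.1 1 = 1)
    (hinv : ∀ (ϑ : Irr0 S) (n : N) (c : C), ϑ.1.1 (cj S n c) = ϑ.1.1 c)
    (htwo : ∀ α β : P.subgroupOf C →* ℂˣ, α ≠ 1 → β ≠ 1 → (∀ n : N, β ≠ α.comp (cjP S n)) → ∀ x : P.subgroupOf C, x ≠ 1 → Zs S α x + Zs S β x = -(Nat.card C : ℂ))
    (μ1 : P.subgroupOf C →* ℂˣ) (hμ1 : μ1 ≠ 1) (ψ : IrrCharacter G) :
    (∀ x : P.subgroupOf C, x ≠ 1 → ψ.1 ((x : C) : G) = 0) ∨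
    (∀ x : P.subgroupOf C, x ≠ 1 → ψ.1 ((x : C) : G) = 1) ∨
    (∀ x : P.subgroupOf C, x ≠ 1 → ψ.1 ((x : C) : G) = -1) ∨
    (∀ x : P.subgroupOf C, x ≠ 1 → ψ.1 ((x : C) : G) = (Nat.card C : ℂ)⁻¹ * Zs S μ1 x) ∨
    (∀ x : P.subgroupOf C, x ≠ 1 → ψ.1 ((x : C) : G) = -1 - (Nat.card C : ℂ)⁻¹ * Zs S μ1 x) ∨
    (∀ x : P.subgroupOf C, x ≠ 1 → ψ.1 ((x : C) : G) = -((Nat.card C : ℂ)⁻¹ * Zs S μ1 x)) ∨
    (∀ x : P.subgroupOf C, x ≠ 1 → ψ.1 ((x : C) : G) = 1 + (Nat.card C : ℂ)⁻¹ * Zs S μ1 x) :=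
  types S hp hP hcyc heq hlin hinv htwo μ1 hμ1 ψ

end Cfsg.Agent.H78.BrLib
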