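import Cfsg.Agent.H78.DefectZero
import Cfsg.Agent.H78.BrauerFowler
import Cfsg.Agent.H5.Involutions

/-!
# A character of defect zero for `2` and for the primes `p` with elements of order `2p` (helper78)
-/

set_option autoImplicit false
set_option linter.unusedSectionVars false
set_option linter.style.haveILetI false

namespace Cfsg.Agent.H78

open Cfsg

open scoped ComplexConjugate

universe u

variable {G : Type u} [Group G] [Fintype G]

/-- If the full `p`-part of `|G|` divides `χ(1)`, then `χ` has `p`-defect zero. -/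
theorem defect_zero_of_pow_dvd (χ : IrrCharacter G) (p : ℕ) (hp : p.Prime)
    (h : p ^ (Nat.card G).factorization p ∣ charDegree (χ : G → ℂ)) :
    ¬ p ∣ Nat.card G / charDegree (χ : G → ℂ) := by
  obtain ⟨hdpos, -⟩ := irr_degree χ
  obtain ⟨m, hm⟩ := Cfsg.Agent.H81.irr_charDegree_dvd χ
  have hm' : Nat.card G / charDegree (χ : G → ℂ) = m := by
    rw [hm]; exact Nat.mul_div_cancel_left m hdpos
  rw [hm']
  intro hpm
  have hG0 : Nat.card G ≠ 0 := Nat.card_pos.ne'
  apply Nat.pow_succ_factorization_not_dvd hG0 hp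
  obtain ⟨a, ha⟩ := h
  obtain ⟨b, hb⟩ := hpm
  refine ⟨a * b, ?_⟩
  conv_lhs => rw [hm, ha, hb]
  ring

omit [Fintype G] in
theorem dzi_orderOf_conj (c s : G) : orderOf (c * s * c⁻¹) = orderOf s :=
  (MulAut.conj c).orderOf_eq s

section Main

variable (χ : IrrCharacter G)
  (h2 : 2 ^ (Nat.card G).factorization 2 ∣ charDegree (χ : G → ℂ))
  (hp : ∀ p : ℕ, p.Prime → p ≠ 2 → (∃ g : G, orderOf g = 2 * p) →
    p ^ (Nat.card G).factorization p ∣ charDegree (χ : G → ℂ))

include h2 in
theorem dzi_vanish_even (g : G) (hg : 2 ∣ orderOf g) : (χ : G → ℂ) g = 0 :=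
  irr_defect_zero_vanish 2 Nat.prime_two χ (defect_zero_of_pow_dvd χ 2 Nat.prime_two h2) g hg

include hp in
/-- If an involution commutes with an element of odd prime order `p`, then `χ` has `p`-defect
zero. -/
theorem dzi_pow_dvd_of_commute (s y : G) (hs : orderOf s = 2) (p : ℕ) (hpp : p.Prime)
    (hp2 : p ≠ 2) (hy : orderOf y = p) (hc : Commute s y) :
    p ^ (Nat.card G).factorization p ∣ charDegree (χ : G → ℂ) := by
  apply hp p hpp hp2
  refine ⟨s * y, ?_⟩
  have hcop : Nat.Coprime (orderOf s) (orderOf y) := by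
    rw [hs, hy]
    exact (Nat.coprime_primes Nat.prime_two hpp).mpr (Ne.symm hp2)
  rw [hc.orderOf_mul_eq_mul_orderOf_of_coprime hcop, hs, hy]

include h2 hp in
/-- If a prime `p` divides the order of the centralizer of an involution, then `χ` has
`p`-defect zero. -/
theorem dzi_pow_dvd_of_dvd_centralizer (s : G) (hs : orderOf s = 2) (p : ℕ) (hpp : p.Prime)
    (hdiv : p ∣ Nat.card (Subgroup.centralizer ({s} : Set G))) :
    p ^ (Nat.card G).factorization p ∣ charDegree (χ : G → ℂ) := by
  by_cases hp2 : p = 2
  · rw [hp2]; exact h2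
  haveI := Fact.mk hpp
  obtain ⟨y, hy⟩ := exists_prime_orderOf_dvd_card' p hdiv
  have hy' : orderOf (y : G) = p := by rw [Subgroup.orderOf_coe]; exact hy
  have hc : Commute s (y : G) := by
    have := y.2
    rw [Subgroup.mem_centralizer_iff] at this
    exact this s rfl
  exact dzi_pow_dvd_of_commute χ hp s y hs p hpp hp2 hy' hc

include h2 hp in
/-- `χ` vanishes on nonidentity elements of odd order commuting with an involution. -/
theorem dzi_vanish_of_commute (g s : G) (hg1 : g ≠ 1) (hs : orderOf s = 2) (hc : Commute s g) :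
    (χ : G → ℂ) g = 0 := by
  by_cases hev : 2 ∣ orderOf g
  · exact dzi_vanish_even χ h2 g hev
  have hn1 : orderOf g ≠ 1 := fun h => hg1 (orderOf_eq_one_iff.mp h)
  set p := (orderOf g).minFac with hpdef
  have hpp : p.Prime := Nat.minFac_prime hn1
  have hpd : p ∣ orderOf g := Nat.minFac_dvd _
  have hp2 : p ≠ 2 := fun h => hev (h ▸ hpd)
  have hy : orderOf (g ^ (orderOf g / p)) = p := by
    have hpos : 0 < orderOf g / p :=
      Nat.div_pos (Nat.le_of_dvd (orderOf_pos g) hpd) hpp.pos
    rw [orderOf_pow_of_dvd hpos.ne' (Nat.div_dvd_of_dvd hpd),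
      Nat.div_div_self hpd (orderOf_pos g).ne']
  have hc' : Commute s (g ^ (orderOf g / p)) := hc.pow_right _
  have hdz := dzi_pow_dvd_of_commute χ hp s _ hs p hpp hp2 hy hc'
  exact irr_defect_zero_vanish p hpp χ (defect_zero_of_pow_dvd χ p hpp hdz) g hpd

include h2 hp in
/-- Where `χ` does not vanish (off the identity), every element has exactly one square root. -/
theorem dzi_sqrtCount (g : G) (hg1 : g ≠ 1) (hχ : (χ : G → ℂ) g ≠ 0) : sqrtCount g = 1 := by
  classical
  have hodd : ¬ 2 ∣ orderOf g := fun h => hχ (dzi_vanish_even χ h2 g h)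
  have hno : ∀ s : G, orderOf s = 2 → ¬ Commute s g :=
    fun s hs hc => hχ (dzi_vanish_of_commute χ h2 hp g s hg1 hs hc)
  set n := orderOf g with hn
  have hn2 : n % 2 = 1 := by
    rcases Nat.mod_two_eq_zero_or_one n with h | h
    · exact absurd (Nat.dvd_of_mod_eq_zero h) hodd
    · exact h
  have hn1 : n + 1 = 2 * ((n + 1) / 2) := by omega
  have huniq : ∀ s : G, s * s = g ↔ s = g ^ ((n + 1) / 2) := by
    intro s
    constructor
    · intro hs
      have hsg : Commute s g := by
        rw [← hs]
        exact (Commute.refl s).mul_right (Commute.refl s)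
      have ht2 : (s ^ n) ^ 2 = 1 := by
        rw [← pow_mul, mul_comm, pow_mul, pow_two, hs, hn, pow_orderOf_eq_one]
      have ht1 : s ^ n = 1 := by
        by_contra hne
        have ho : orderOf (s ^ n) = 2 := orderOf_eq_prime ht2 hne
        exact hno _ ho (hsg.pow_left n)
      calc s = s ^ (n + 1) := by rw [pow_succ, ht1, one_mul]
        _ = (s * s) ^ ((n + 1) / 2) := by rw [← pow_two, ← pow_mul, ← hn1]
        _ = g ^ ((n + 1) / 2) := by rw [hs]
    · rintro rfl
      rw [← pow_add, ← two_mul, ← hn1, pow_succ, hn, pow_orderOf_eq_one, one_mul]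
  unfold sqrtCount
  simp only [huniq]
  rw [Finset.sum_ite_eq']
  simp

include h2 hp in
/-- `|G| ν(χ) = t χ(1)`, with `t` the number of involutions. -/
theorem dzi_indicator_eq (heven : Even (Nat.card G)) :
    (Nat.card G : ℂ) * indicator (χ : G → ℂ) =
      (Nat.card {x : G // orderOf x = 2} : ℂ) * (charDegree (χ : G → ℂ) : ℂ) := by
  classical
  obtain ⟨hdpos, hd1⟩ := irr_degree χ
  have hG : (Nat.card G : ℂ) ≠ 0 := card_ne_zero_complex
  -- `χ` is not the trivial character
  have hne : χ ≠ trivIrr G := by
    intro h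
    have h1 : charDegree (χ : G → ℂ) = 1 := by rw [h]; exact charDegree_trivIrr
    rw [h1] at h2
    have hv : (Nat.card G).factorization 2 = 0 := by
      by_contra hv
      have : 2 ∣ 2 ^ (Nat.card G).factorization 2 := dvd_pow_self 2 hv
      have := Nat.dvd_one.mp (this.trans h2)
      omega
    have h2dvd : 2 ∣ Nat.card G := even_iff_two_dvd.mp heven
    have := (Nat.Prime.factorization_pos_of_dvd Nat.prime_two Nat.card_pos.ne' h2dvd)
    omega
  have hsum0 : ∑ g : G, (χ : G → ℂ) g = 0 := irr_sum_eq_zero hne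
  -- the sum of `χ (s * s)` in terms of `sqrtCount`
  have h1 : ∑ s : G, (χ : G → ℂ) (s * s) = ∑ g : G, sqrtCount g * (χ : G → ℂ) g := by
    unfold sqrtCount
    simp only [Finset.sum_mul]
    rw [Finset.sum_comm]
    refine Finset.sum_congr rfl fun s _ => ?_
    simp only [ite_mul, one_mul, zero_mul]
    rw [Finset.sum_ite_eq]
    simp
  have h3 : ∀ g ∈ (Finset.univ : Finset G).erase 1,
      sqrtCount g * (χ : G → ℂ) g = (χ : G → ℂ) g := by
    intro g hg
    have hg1 : g ≠ 1 := (Finset.mem_erase.mp hg).1
    by_cases hχ : (χ : G → ℂ) g = 0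
    · rw [hχ, mul_zero]
    · rw [dzi_sqrtCount χ h2 hp g hg1 hχ, one_mul]
  have h4 : ∑ g ∈ (Finset.univ : Finset G).erase 1, (χ : G → ℂ) g = - (χ : G → ℂ) 1 := by
    have := Finset.add_sum_erase Finset.univ (fun g => (χ : G → ℂ) g) (Finset.mem_univ (1 : G))
    rw [hsum0] at this
    linear_combination this
  have h5 : indicator (χ : G → ℂ) = (Nat.card G : ℂ)⁻¹ * ∑ s : G, (χ : G → ℂ) (s * s) := rfl
  rw [h5, ← mul_assoc, mul_inv_cancel₀ hG, one_mul, h1,
    ← Finset.add_sum_erase Finset.univ _ (Finset.mem_univ (1 : G)), Finset.sum_congr rfl h3, h4,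
    sqrtCount_one, card_sq_eq_one_eq, hd1]
  push_cast
  ring

include h2 hp in
/-- The conclusion of statement S4478. -/
theorem dzi_main (heven : Even (Nat.card G)) :
    (∀ s t : G, orderOf s = 2 → orderOf t = 2 → IsConj s t) ∧
    (∀ s : G, orderOf s = 2 →
      Nat.card (Subgroup.centralizer ({s} : Set G)) = charDegree (χ : G → ℂ) ∧
      (Nat.card (Subgroup.centralizer ({s} : Set G))).Coprime
        (Subgroup.centralizer ({s} : Set G)).index) ∧
    (Nat.card G : ℂ)⁻¹ * ∑ g : G, (χ : G → ℂ) (g * g) = 1 := by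
  classical
  obtain ⟨hdpos, hd1⟩ := irr_degree χ
  have hG : (Nat.card G : ℂ) ≠ 0 := card_ne_zero_complex
  have hGpos : 0 < Nat.card G := Nat.card_pos
  set d := charDegree (χ : G → ℂ) with hd
  set t := Nat.card {x : G // orderOf x = 2} with ht
  have hkey := dzi_indicator_eq χ h2 hp heven
  -- there is an involution
  haveI := Fact.mk Nat.prime_two
  obtain ⟨s₀, hs₀⟩ := exists_prime_orderOf_dvd_card' (G := G) 2 (even_iff_two_dvd.mp heven)
  have htpos : 0 < t := by
    rw [ht]
    haveI : Nonempty {x : G // orderOf x = 2} := ⟨⟨s₀, hs₀⟩⟩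
    exact Nat.card_pos
  -- the indicator is `1`
  have hind : indicator (χ : G → ℂ) = 1 := by
    rcases (irr_indicator χ).1 with h | h | h
    · rw [h, mul_zero] at hkey
      have : ((t * d : ℕ) : ℂ) = 0 := by push_cast; exact hkey.symm
      have h0 : t * d = 0 := by exact_mod_cast this
      rcases Nat.mul_eq_zero.mp h0 with h1 | h1 <;> omega
    · exact h
    · rw [h] at hkey
      have : ((Nat.card G + t * d : ℕ) : ℂ) = 0 := by
        push_cast
        linear_combination -hkey
      have h0 : Nat.card G + t * d = 0 := by exact_mod_cast this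
      omega
  have hcard : Nat.card G = t * d := by
    rw [hind, mul_one] at hkey
    exact_mod_cast hkey
  -- centralizers of involutions
  have hCdvd : ∀ s : G, orderOf s = 2 → Nat.card (Subgroup.centralizer ({s} : Set G)) ∣ d := by
    intro s hs
    have hC0 : Nat.card (Subgroup.centralizer ({s} : Set G)) ≠ 0 := Nat.card_pos.ne'
    rw [← Nat.factorization_prime_le_iff_dvd hC0 hdpos.ne']
    intro p hpp
    by_cases hdiv : p ∣ Nat.card (Subgroup.centralizer ({s} : Set G))
    · have h1 := dzi_pow_dvd_of_dvd_centralizer χ h2 hp s hs p hpp hdiv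
      have h2' : (Nat.card G).factorization p ≤ d.factorization p :=
        (hpp.pow_dvd_iff_le_factorization hdpos.ne').mp h1
      have h3 : (Nat.card (Subgroup.centralizer ({s} : Set G))).factorization p ≤
          (Nat.card G).factorization p :=
        (Nat.factorization_le_iff_dvd hC0 hGpos.ne').mpr (Subgroup.card_subgroup_dvd_card _) p
      exact h3.trans h2'
    · rw [Nat.factorization_eq_zero_of_not_dvd hdiv]
      exact Nat.zero_le _
  have hclass : ∀ s : G, orderOf s = 2 →
      Nat.card {x : G // IsConj s x} ≤ t := by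
    intro s hs
    rw [ht]
    apply Nat.card_le_card_of_injective
      (fun x : {x : G // IsConj s x} => (⟨x.1, by
        obtain ⟨c, hc⟩ := isConj_iff.mp x.2
        rw [← hc, dzi_orderOf_conj, hs]⟩ : {x : G // orderOf x = 2}))
    intro a b hab
    apply Subtype.ext
    exact congrArg (fun y : {x : G // orderOf x = 2} => y.1) hab
  have hCeq : ∀ s : G, orderOf s = 2 →
      Nat.card (Subgroup.centralizer ({s} : Set G)) = d ∧ Nat.card {x : G // IsConj s x} = t := by
    intro s hs
    have h1 := Cfsg.Agent.H5.card_conj_mul_card_centralizer s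
    rw [hcard] at h1
    have h2' := Nat.le_of_dvd hdpos (hCdvd s hs)
    have h3 := hclass s hs
    have hCpos : 0 < Nat.card (Subgroup.centralizer ({s} : Set G)) := Nat.card_pos
    constructor
    · by_contra hne
      have hlt : Nat.card (Subgroup.centralizer ({s} : Set G)) < d := lt_of_le_of_ne h2' hne
      have : Nat.card {x : G // IsConj s x} * Nat.card (Subgroup.centralizer ({s} : Set G)) <
          t * d :=
        calc Nat.card {x : G // IsConj s x} * Nat.card (Subgroup.centralizer ({s} : Set G))
            ≤ t * Nat.card (Subgroup.centralizer ({s} : Set G)) := Nat.mul_le_mul_right _ h3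
          _ < t * d := Nat.mul_lt_mul_of_pos_left hlt htpos
      omega
    · by_contra hne
      have hlt : Nat.card {x : G // IsConj s x} < t := lt_of_le_of_ne h3 hne
      have : Nat.card {x : G // IsConj s x} * Nat.card (Subgroup.centralizer ({s} : Set G)) <
          t * d :=
        calc Nat.card {x : G // IsConj s x} * Nat.card (Subgroup.centralizer ({s} : Set G))
            < t * Nat.card (Subgroup.centralizer ({s} : Set G)) :=
              Nat.mul_lt_mul_of_pos_right hlt hCpos
          _ ≤ t * d := Nat.mul_le_mul_left _ h2'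
      omega
  refine ⟨?_, ?_, hind⟩
  · intro s u hs hu
    -- the class of `s` is the whole set of involutions
    have hsub : (Finset.univ.filter (fun x : G => IsConj s x)) ⊆
        (Finset.univ.filter (fun x : G => orderOf x = 2)) := by
      intro x hx
      rw [Finset.mem_filter] at hx ⊢
      obtain ⟨c, hc⟩ := isConj_iff.mp hx.2
      refine ⟨Finset.mem_univ _, ?_⟩
      rw [← hc, dzi_orderOf_conj, hs]
    have hcards : (Finset.univ.filter (fun x : G => orderOf x = 2)).card ≤
        (Finset.univ.filter (fun x : G => IsConj s x)).card := by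
      have h1 := (hCeq s hs).2
      rw [ht, Nat.card_eq_fintype_card, Nat.card_eq_fintype_card, Fintype.card_subtype,
        Fintype.card_subtype] at h1
      rw [h1]
    have heq := Finset.eq_of_subset_of_card_le hsub hcards
    have hu' : u ∈ Finset.univ.filter (fun x : G => orderOf x = 2) := by
      rw [Finset.mem_filter]; exact ⟨Finset.mem_univ _, hu⟩
    rw [← heq, Finset.mem_filter] at hu'
    exact hu'.2
  · intro s hs
    obtain ⟨hC, hcl⟩ := hCeq s hs
    refine ⟨hC, ?_⟩
    have hidx : (Subgroup.centralizer ({s} : Set G)).index = t := by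
      have h1 := Subgroup.card_mul_index (Subgroup.centralizer ({s} : Set G))
      rw [hC, hcard] at h1
      have : d * (Subgroup.centralizer ({s} : Set G)).index = d * t := by rw [h1]; ring
      exact Nat.eq_of_mul_eq_mul_left hdpos this
    rw [hC, hidx]
    apply Nat.coprime_of_dvd
    intro p hpp hpd hpt
    have h1 := dzi_pow_dvd_of_dvd_centralizer χ h2 hp s hs p hpp (by rw [hC]; exact hpd)
    have h2' : (Nat.card G).factorization p ≤ d.factorization p :=
      (hpp.pow_dvd_iff_le_factorization hdpos.ne').mp h1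
    rw [hcard, Nat.factorization_mul htpos.ne' hdpos.ne'] at h2'
    have h3 : 0 < t.factorization p := hpp.factorization_pos_of_dvd htpos.ne' hpt
    simp only [Finsupp.coe_add, Pi.add_apply] at h2'
    omega

end Main

end Cfsg.Agent.H78
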