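import Mathlib
import Cfsg.Prelude.Def_Characters
import Cfsg.Agent.H78.FrobSchur2

set_option autoImplicit false

namespace Cfsg.Agent.H78

open Module

variable {n : ℕ}

section Rep

variable {G : Type*} [Group G] (ρ : Representation ℂ G (Fin n → ℂ))

/-- A nonzero invariant bilinear form of an irreducible representation is nondegenerate. -/
theorem isUnit_of_mem_invForms (hirr : ρ.IsIrreducible) {M : Matrix (Fin n) (Fin n) ℂ}
    (hM : M ∈ invForms ρ) (hM0 : M ≠ 0) : IsUnit M := by
  obtain ⟨_, hsub⟩ := (Cfsg.Agent.H4.isIrreducible_iff ρ).mp hirr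
  have hU := hsub (LinearMap.ker (Matrix.mulVecLin M)) (by
    intro g v hv
    rw [LinearMap.mem_ker, Matrix.mulVecLin_apply] at hv ⊢
    rw [← mat_mulVec, Matrix.mulVec_mulVec, invForms_intertwine ρ hM, ← Matrix.mulVec_mulVec, hv,
      Matrix.mulVec_zero])
  have hinj : Function.Injective M.mulVec := by
    rcases hU with h | h
    · have : Function.Injective (Matrix.mulVecLin M) := LinearMap.ker_eq_bot.mp h
      exact this
    · exfalso
      apply hM0
      have h2 : Matrix.mulVecLin M = 0 := LinearMap.ker_eq_top.mp h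
      ext i j
      have h4 := congrFun (LinearMap.congr_fun h2 (Pi.single j 1)) i
      simpa [Matrix.mulVecLin_apply] using h4
  exact Matrix.mulVec_injective_iff_isUnit.mp hinj

variable [Fintype G]

/-- A real-valued irreducible character of odd degree has Frobenius–Schur indicator `1`. -/
theorem indicator_eq_one_of_odd (hirr : ρ.IsIrreducible)
    (hreal : ∀ g : G, (ρ.character g).im = 0) (hodd : Odd n) :
    (Nat.card G : ℂ)⁻¹ * ∑ s : G, ρ.character (s * s) = 1 := by
  obtain ⟨h1, h2⟩ := frobSchur_indicator ρ hirr
  rcases h1 with h | h | h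
  · obtain ⟨s, hs⟩ := h2.mp h
    exact absurd (hreal s) hs
  · exact h
  · exfalso
    obtain ⟨⟨M, hM0, hM⟩, h3⟩ := frobSchur_real ρ hirr hreal
    have h4 := h3 M hM
    rw [h] at h4
    have hunit := isUnit_of_mem_invForms ρ hirr hM hM0
    have hdet : IsUnit M.det := (Matrix.isUnit_iff_isUnit_det M).mp hunit
    have h5 : M.det = -M.det := by
      conv_lhs => rw [← Matrix.det_transpose, h4, Matrix.det_smul, Fintype.card_fin, hodd.neg_one_pow]
      ring
    have h6 : M.det = 0 := by
      have : (2 : ℂ) * M.det = 0 := by linear_combination h5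
      rcases mul_eq_zero.mp this with h7 | h7
      · norm_num at h7
      · exact h7
    rw [h6] at hdet
    exact not_isUnit_zero hdet

end Rep

section General

variable {G : Type*} [Group G] [Fintype G]

/-- Statement form: a real-valued irreducible character of odd degree has indicator `1`. -/
theorem irr_indicator_eq_one_of_odd (χ : G → ℂ) (hχ : Cfsg.IsIrrCharacter G χ)
    (hreal : ∀ g : G, (χ g).im = 0) (d : ℕ) (hd : χ 1 = d) (hodd : Odd d) :
    (Nat.card G : ℂ)⁻¹ * ∑ s : G, χ (s * s) = 1 := by
  obtain ⟨n, ρ, hirr, rfl⟩ := hχ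
  have hn : n = d := by
    rw [Representation.char_one] at hd
    simp only [Module.finrank_fin_fun] at hd
    exact_mod_cast hd
  subst hn
  exact indicator_eq_one_of_odd ρ hirr hreal hodd

end General

end Cfsg.Agent.H78
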