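import Cfsg.Agent.H78.Klein1
import Cfsg.Agent.H81.ClassSum

/-!
# Counting in groups of order `4 g₀` without a normal `2`-complement (helper78)

`2`-singular elements, and pairs of involutions with `2`-singular product.
-/

set_option autoImplicit false
set_option linter.unusedSectionVars false
set_option linter.style.haveILetI false

namespace Cfsg.Agent.H78.Klein

open Finset

variable {G : Type*} [Group G] [Fintype G] [DecidableEq G]

/-- The involution "part" of an element. -/
noncomputable def invPart (g : G) : G := g ^ (orderOf g / 2)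

theorem orderOf_invPart {g : G} (hg : 2 ∣ orderOf g) : orderOf (invPart g) = 2 := by
  have hpos := orderOf_pos g
  unfold invPart
  rw [orderOf_pow_of_dvd (by obtain ⟨c, hc⟩ := hg; omega) (Nat.div_dvd_of_dvd hg),
    Nat.div_div_self hg hpos.ne']

theorem invPart_comm (g x : G) (h : x * g = g * x) : x * invPart g = invPart g * x :=
  (Commute.pow_right (show Commute x g from h) _).eq

theorem odd_invPart_mul (E : ∀ (x : G) (k : ℕ), x ^ 2 ^ k = 1 → x * x = 1) {g : G}
    (hg : 2 ∣ orderOf g) : Odd (orderOf (invPart g * g)) := by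
  obtain ⟨k, m, hm, hkm⟩ := Nat.exists_eq_two_pow_mul_odd (orderOf_pos g).ne'
  have h1 : (g ^ m) ^ 2 ^ k = 1 := by rw [← pow_mul, mul_comm, ← hkm, pow_orderOf_eq_one]
  have h2 := E _ k h1
  have h3 : g ^ (2 * m) = 1 := by rw [two_mul, pow_add]; exact h2
  have h4 : orderOf g ∣ 2 * m := orderOf_dvd_of_pow_eq_one h3
  obtain ⟨j, rfl⟩ := hm
  have hk1 : k = 1 := by
    rw [hkm] at h4 hg
    have h5 : 2 ^ k ∣ 2 := (Nat.mul_dvd_mul_iff_right (by omega)).mp h4
    have h6 : k ≤ 1 := by
      by_contra hk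
      push Not at hk
      have : 2 ^ 2 ∣ 2 := (pow_dvd_pow 2 hk).trans h5
      norm_num at this
    have h7 : k ≠ 0 := by
      rintro rfl
      rw [pow_zero, one_mul] at hg
      omega
    omega
  subst hk1
  rw [pow_one] at hkm
  have h8 : invPart g * g = g ^ (2 * j + 2) := by
    unfold invPart
    rw [hkm, Nat.mul_div_cancel_left _ (by norm_num : 0 < 2), ← pow_succ]
  have h9 : (invPart g * g) ^ (2 * j + 1) = 1 := by
    rw [h8, ← pow_mul]
    have : (2 * j + 2) * (2 * j + 1) = (2 * (2 * j + 1)) * (j + 1) := by ring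
    rw [this, pow_mul, h3, one_pow]
  exact Odd.of_dvd_nat ⟨j, rfl⟩ (orderOf_dvd_of_pow_eq_one h9)

theorem invPart_mul {z y : G} (hz : orderOf z = 2) (hy : Odd (orderOf y)) (hzy : z * y = y * z) :
    2 ∣ orderOf (z * y) ∧ invPart (z * y) = z := by
  have hco : (orderOf z).Coprime (orderOf y) := by rw [hz]; exact Nat.coprime_two_left.mpr hy
  have ho : orderOf (z * y) = 2 * orderOf y := by
    rw [Commute.orderOf_mul_eq_mul_orderOf_of_coprime (show Commute z y from hzy) hco, hz]
  refine ⟨⟨_, ho⟩, ?_⟩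
  have hz2 : z ^ 2 = 1 := by rw [← hz]; exact pow_orderOf_eq_one z
  unfold invPart
  rw [ho, Nat.mul_div_cancel_left _ (by norm_num : 0 < 2), (show Commute z y from hzy).mul_pow,
    pow_orderOf_eq_one, mul_one]
  obtain ⟨j, hj⟩ := hy
  rw [hj, pow_succ, pow_mul, hz2, one_pow, one_mul]

theorem conj_invPart {u g : G} (h : u * g * u⁻¹ = g⁻¹) :
    u * invPart g * u⁻¹ = (invPart g)⁻¹ := by
  unfold invPart
  rw [← conj_pow, h, inv_pow]

theorem orderOf_conj' (a x : G) : orderOf (a * x * a⁻¹) = orderOf x := by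
  rw [← MulAut.conj_apply]; exact (MulAut.conj a).orderOf_eq x

theorem inv_of_sq {t : G} (ht : t * t = 1) : t⁻¹ = t := inv_eq_of_mul_eq_one_right ht

theorem sq_cancel {t : G} (ht : t * t = 1) (x : G) : t * (t * x) = x := by
  rw [← mul_assoc, ht, one_mul]

/-- Counting the elements of an odd-order subgroup inverted by an involution. -/
theorem inv_count (K : Subgroup G) (p : G → Prop) [DecidablePred p] (hp : ∀ k, k ∈ K ↔ p k)
    (hodd : ∀ k ∈ K, Odd (orderOf k)) (t : G) (ht : t * t = 1)
    (hnorm : ∀ k ∈ K, t * k * t⁻¹ ∈ K) :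
    (univ.filter (fun k => p k ∧ t * k * t⁻¹ = k⁻¹)).card *
        (univ.filter (fun k => p k ∧ k * t = t * k)).card
      = (univ.filter p).card := by
  have hmaps : ∀ k ∈ univ.filter p, k⁻¹ * (t * k * t⁻¹) ∈
      univ.filter (fun k => p k ∧ t * k * t⁻¹ = k⁻¹) := by
    intro k hk
    rw [mem_filter] at hk
    have hkK : k ∈ K := (hp k).2 hk.2
    rw [mem_filter]
    refine ⟨mem_univ _, (hp _).1 (K.mul_mem (K.inv_mem hkK) (hnorm k hkK)), ?_⟩
    have h1 : t * (k⁻¹ * (t * k * t⁻¹)) * t⁻¹ = t * k⁻¹ * (t * t) * (t⁻¹ * k * t⁻¹) * (t * t)⁻¹ * t := by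
      group
    have h2 : (k⁻¹ * (t * k * t⁻¹))⁻¹ = t * k⁻¹ * (t⁻¹ * k) := by group
    rw [h1, h2, ht]
    group
  rw [card_eq_sum_card_fiberwise hmaps]
  have hfib : ∀ ρ ∈ univ.filter (fun k => p k ∧ t * k * t⁻¹ = k⁻¹),
      ((univ.filter p).filter (fun k => k⁻¹ * (t * k * t⁻¹) = ρ)).card
        = (univ.filter (fun k => p k ∧ k * t = t * k)).card := by
    intro ρ hρ
    rw [mem_filter] at hρ
    obtain ⟨-, hρp, hρt⟩ := hρ
    have hρK : ρ ∈ K := (hp ρ).2 hρp
    obtain ⟨j, hj⟩ := hodd ρ hρK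
    -- a square root of ρ
    have hσ2 : ρ ^ (j + 1) * ρ ^ (j + 1) = ρ := by
      rw [← pow_add]
      have : j + 1 + (j + 1) = orderOf ρ + 1 := by omega
      rw [this, pow_succ, pow_orderOf_eq_one, one_mul]
    have hσt : t * ρ ^ (j + 1) * t⁻¹ = (ρ ^ (j + 1))⁻¹ := by
      rw [← conj_pow, hρt, inv_pow]
    have hσK : ρ ^ (j + 1) ∈ K := K.pow_mem hρK _
    obtain ⟨σ, hσ⟩ : ∃ σ : G, σ = ρ ^ (j + 1) := ⟨_, rfl⟩
    rw [← hσ] at hσ2 hσt hσK
    -- the base point k₀ = σ⁻¹
    have hk0 : (σ⁻¹)⁻¹ * (t * σ⁻¹ * t⁻¹) = ρ := by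
      have : (σ⁻¹)⁻¹ * (t * σ⁻¹ * t⁻¹) = σ * (t * σ * t⁻¹)⁻¹ := by group
      rw [this, hσt, inv_inv, hσ2]
    apply card_nbij' (fun k => k * σ) (fun c => c * σ⁻¹)
    · intro k hk
      rw [mem_coe, mem_filter, mem_filter] at hk
      obtain ⟨⟨-, hkp⟩, hkρ⟩ := hk
      rw [mem_coe, mem_filter]
      refine ⟨mem_univ _, (hp _).1 (K.mul_mem ((hp k).2 hkp) hσK), ?_⟩
      rw [← hk0] at hkρ
      have h1 : t * k * t⁻¹ = k * σ * (t * σ⁻¹ * t⁻¹) := by
        have : t * k * t⁻¹ = k * (k⁻¹ * (t * k * t⁻¹)) := by group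
        rw [this, hkρ]; group
      calc k * σ * t = k * σ * (t * σ⁻¹ * t⁻¹) * t * σ := by group
        _ = t * k * t⁻¹ * t * σ := by rw [← h1]
        _ = t * (k * σ) := by group
    · intro c hc
      rw [mem_coe, mem_filter] at hc
      obtain ⟨-, hcp, hct⟩ := hc
      rw [mem_coe, mem_filter, mem_filter]
      refine ⟨⟨mem_univ _, (hp _).1 (K.mul_mem ((hp c).2 hcp) (K.inv_mem hσK))⟩, ?_⟩
      rw [← hk0]
      have : (c * σ⁻¹)⁻¹ * (t * (c * σ⁻¹) * t⁻¹) = σ * c⁻¹ * (t * c) * σ⁻¹ * t⁻¹ := by group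
      rw [this, ← hct]; group
    · intro k _; group
    · intro c _; group
  rw [sum_congr rfl hfib, sum_const, smul_eq_mul]

/-- The involutions. -/
noncomputable def Inv (G : Type*) [Group G] [Fintype G] [DecidableEq G] : Finset G :=
  univ.filter (fun u => orderOf u = 2)

/-- The `2`-singular elements. -/
noncomputable def Sing (G : Type*) [Group G] [Fintype G] [DecidableEq G] : Finset G :=
  univ.filter (fun g => 2 ∣ orderOf g)

/-- Odd-order elements commuting with `z`. -/
noncomputable def Kf (z : G) : Finset G :=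
  univ.filter (fun k => Odd (orderOf k) ∧ k * z = z * k)

/-- Odd-order elements commuting with `u` and `z`. -/
noncomputable def Kf2 (u z : G) : Finset G :=
  univ.filter (fun k => Odd (orderOf k) ∧ k * u = u * k ∧ k * z = z * k)

theorem mem_Inv {u : G} : u ∈ Inv G ↔ orderOf u = 2 := by simp [Inv]

theorem mem_Sing {g : G} : g ∈ Sing G ↔ 2 ∣ orderOf g := by simp [Sing]

theorem mem_Kf {z k : G} : k ∈ Kf z ↔ Odd (orderOf k) ∧ k * z = z * k := by simp [Kf]

theorem mem_Kf2 {u z k : G} :
    k ∈ Kf2 u z ↔ Odd (orderOf k) ∧ k * u = u * k ∧ k * z = z * k := by simp [Kf2]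

theorem card_Kf {g₀ : ℕ} (h : Hyp G g₀) (J z : G) (hJ : orderOf J = 2) (hz : orderOf z = 2) :
    4 * (Kf z).card = Nat.card (Subgroup.centralizer ({J} : Set G)) := by
  obtain ⟨K, Q, -, hK1, hK2, -⟩ := exists_K_involution h z hz
  obtain ⟨g, hg⟩ := conj_of_involutions h J z hJ hz
  have h1 : Nat.card K = (Kf z).card :=
    Nat.subtype_card (Kf z) (fun x => by rw [mem_Kf]; exact (hK1 x).symm)
  rw [← h1, ← hK2, ← hg, card_centralizer_conj_singleton]

theorem card_Kf2 {g₀ : ℕ} (h : Hyp G g₀) (P : Sylow 2 G) (u z : G) (hu : orderOf u = 2)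
    (hz : orderOf z = 2) (huz : u * z = z * u) (hne : u ≠ z) :
    4 * (Kf2 u z).card = Nat.card (Subgroup.centralizer ((P : Subgroup G) : Set G)) := by
  obtain ⟨K, hK1, hK2⟩ := exists_K_pair h P u z hu hz huz hne
  have h1 : Nat.card K = (Kf2 u z).card :=
    Nat.subtype_card (Kf2 u z) (fun x => by rw [mem_Kf2]; exact (hK1 x).symm)
  rw [← h1, ← hK2]

/-- The class of involutions. -/
theorem card_Inv_mul {g₀ : ℕ} (h : Hyp G g₀) (J : G) (hJ : orderOf J = 2) :
    (Inv G).card * Nat.card (Subgroup.centralizer ({J} : Set G)) = Fintype.card G := by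
  have hmaps : ∀ a ∈ (univ : Finset G), a * J * a⁻¹ ∈ Inv G := by
    intro a _
    rw [mem_Inv, orderOf_conj', hJ]
  rw [← Finset.card_univ, card_eq_sum_card_fiberwise hmaps]
  have hfib : ∀ u ∈ Inv G, ((univ : Finset G).filter (fun a => a * J * a⁻¹ = u)).card
      = Nat.card (Subgroup.centralizer ({J} : Set G)) := by
    intro u hu
    obtain ⟨g, hg⟩ := conj_of_involutions h J u hJ (mem_Inv.mp hu)
    rw [← hg]
    exact Cfsg.Agent.H81.card_fiber_conj J g
  rw [sum_congr rfl hfib, sum_const, smul_eq_mul]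

/-- The `2`-singular elements. -/
theorem card_Sing {g₀ : ℕ} (h : Hyp G g₀) (J : G) (hJ : orderOf J = 2) :
    4 * (Sing G).card = (Inv G).card * Nat.card (Subgroup.centralizer ({J} : Set G)) := by
  have E := sq_eq_one h
  have hmaps : ∀ g ∈ Sing G, invPart g ∈ Inv G := by
    intro g hg
    rw [mem_Inv]
    exact orderOf_invPart (mem_Sing.mp hg)
  have hfib : ∀ z ∈ Inv G, ((Sing G).filter (fun g => invPart g = z)).card = (Kf z).card := by
    intro z hz
    have hz2 := sq_of_orderOf_eq_two (mem_Inv.mp hz)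
    apply card_nbij' (fun g => z * g) (fun y => z * y)
    · intro g hg
      rw [mem_coe, mem_filter, mem_Sing] at hg
      obtain ⟨hg, rfl⟩ := hg
      rw [mem_coe, mem_Kf]
      refine ⟨odd_invPart_mul E hg, ?_⟩
      have := invPart_comm g g rfl
      rw [mul_assoc, this, ← mul_assoc]
    · intro y hy
      rw [mem_coe, mem_Kf] at hy
      rw [mem_coe, mem_filter, mem_Sing]
      exact invPart_mul (mem_Inv.mp hz) hy.1 hy.2.symm
    · intro g _; exact sq_cancel hz2 g
    · intro y _; exact sq_cancel hz2 y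
  rw [card_eq_sum_card_fiberwise hmaps, sum_congr rfl hfib, mul_sum,
    sum_congr rfl (fun z hz => card_Kf h J z hJ (mem_Inv.mp hz)), sum_const, smul_eq_mul]

/-- `Tf u`: involutions `v` with `u * v` `2`-singular. -/
noncomputable def Tf (u : G) : Finset G := (Inv G).filter (fun v => 2 ∣ orderOf (u * v))

/-- `Af u`: involutions commuting with `u`, other than `u`. -/
noncomputable def Af (u : G) : Finset G := (Inv G).filter (fun z => z * u = u * z ∧ z ≠ u)

theorem mem_Tf {u v : G} : v ∈ Tf u ↔ orderOf v = 2 ∧ 2 ∣ orderOf (u * v) := by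
  simp [Tf, mem_Inv]

theorem mem_Af {u z : G} : z ∈ Af u ↔ orderOf z = 2 ∧ z * u = u * z ∧ z ≠ u := by
  simp [Af, mem_Inv]

theorem orderOf_mul_of_comm {u z : G} (hu : u * u = 1) (hz : z * z = 1) (huz : u * z = z * u)
    (hne : u ≠ z) : orderOf (u * z) = 2 := by
  haveI : Fact (Nat.Prime 2) := ⟨Nat.prime_two⟩
  apply orderOf_eq_prime
  · rw [pow_two]
    calc u * z * (u * z) = u * (z * u) * z := by group
      _ = u * (u * z) * z := by rw [huz]
      _ = (u * u) * (z * z) := by group
      _ = 1 := by rw [hu, hz, one_mul]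
  · intro h
    apply hne
    have : u = u * z * z := by rw [mul_assoc, hz, mul_one]
    rw [this, h, one_mul]

theorem not_odd_two : ¬ Odd 2 := by decide

theorem card_fiber_T {g₀ : ℕ} (h : Hyp G g₀) (u z : G) (hu : orderOf u = 2) (hz : z ∈ Af u) :
    ((Tf u).filter (fun v => invPart (u * v) = z)).card * (Kf2 u z).card = (Kf z).card := by
  have E := sq_eq_one h
  rw [mem_Af] at hz
  obtain ⟨hzo, hzu, hzne⟩ := hz
  have hu2 := sq_of_orderOf_eq_two hu
  have hz2 := sq_of_orderOf_eq_two hzo
  have huzo : orderOf (u * z) = 2 := orderOf_mul_of_comm hu2 hz2 hzu.symm (Ne.symm hzne)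
  have huz2 : (u * z) * (u * z) = 1 := sq_of_orderOf_eq_two huzo
  have huzinv : (u * z)⁻¹ = u * z := inv_of_sq huz2
  obtain ⟨K, Q, -, hK1, -, -⟩ := exists_K_involution h z hzo
  have hcount := inv_count K (fun k => Odd (orderOf k) ∧ k * z = z * k) (fun k => hK1 k)
    (fun k hk => ((hK1 k).1 hk).1) (u * z) huz2 (by
      intro k hk
      rw [hK1] at hk ⊢
      refine ⟨by rw [orderOf_conj']; exact hk.1, ?_⟩
      have c1 : Commute (u * z) z := by
        show u * z * z = z * (u * z)
        rw [← mul_assoc z, hzu]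
      have c2 : Commute k z := hk.2
      exact ((c1.mul_left c2).mul_left c1.inv_left).eq)
  have h1 : ((Tf u).filter (fun v => invPart (u * v) = z)).card
      = (univ.filter (fun k => (Odd (orderOf k) ∧ k * z = z * k)
          ∧ (u * z) * k * (u * z)⁻¹ = k⁻¹)).card := by
    apply card_nbij' (fun v => z * (u * v)) (fun y => u * (z * y))
    · intro v hv
      rw [mem_coe, mem_filter, mem_Tf] at hv
      obtain ⟨⟨hvo, hsing⟩, hinv⟩ := hv
      have hv2 := sq_of_orderOf_eq_two hvo
      rw [mem_coe, mem_filter]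
      refine ⟨mem_univ _, ⟨?_, ?_⟩, ?_⟩
      · rw [← hinv]; exact odd_invPart_mul E hsing
      · have := invPart_comm (u * v) (u * v) rfl
        rw [hinv] at this
        rw [mul_assoc, this]
      · rw [huzinv]
        have e1 : u * z * (z * (u * v)) * (u * z) = u * (z * z) * (u * v) * (u * z) := by group
        have e2 : (z * (u * v))⁻¹ = v⁻¹ * u⁻¹ * z⁻¹ := by group
        rw [e1, e2, hz2, inv_of_sq hv2, inv_of_sq hu2, inv_of_sq hz2, mul_one, sq_cancel hu2]
        group
    · intro y hy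
      rw [mem_coe, mem_filter] at hy
      obtain ⟨-, ⟨hyo, hyz⟩, hyinv⟩ := hy
      rw [huzinv] at hyinv
      have e0 : u * (u * (z * y)) = z * y := sq_cancel hu2 _
      have hzy := invPart_mul hzo hyo hyz.symm
      rw [mem_coe, mem_filter, mem_Tf, e0]
      refine ⟨⟨?_, hzy.1⟩, hzy.2⟩
      haveI : Fact (Nat.Prime 2) := ⟨Nat.prime_two⟩
      apply orderOf_eq_prime
      · rw [pow_two]
        calc u * (z * y) * (u * (z * y)) = (u * z * y * (u * z)) * y := by group
          _ = y⁻¹ * y := by rw [hyinv]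
          _ = 1 := by group
      · intro h1
        replace h1 : u * (z * y) = 1 := h1
        have : y = u * z := by
          have : y = (u * z)⁻¹ * (u * (z * y)) := by group
          rw [this, h1, mul_one, huzinv]
        rw [this, huzo] at hyo
        exact absurd hyo not_odd_two
    · intro v _
      show u * (z * (z * (u * v))) = v
      rw [sq_cancel hz2, sq_cancel hu2]
    · intro y _
      show z * (u * (u * (z * y))) = y
      rw [sq_cancel hu2, sq_cancel hz2]
  have h2 : (univ.filter (fun k => (Odd (orderOf k) ∧ k * z = z * k)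
      ∧ k * (u * z) = (u * z) * k)) = Kf2 u z := by
    ext k
    rw [mem_filter, mem_Kf2]
    constructor
    · rintro ⟨-, ⟨ho, hkz⟩, hk⟩
      refine ⟨ho, ?_, hkz⟩
      have : k * u * z = u * k * z := by
        calc k * u * z = k * (u * z) := by group
          _ = u * z * k := hk
          _ = u * (z * k) := by group
          _ = u * (k * z) := by rw [hkz]
          _ = u * k * z := by group
      exact mul_right_cancel this
    · rintro ⟨ho, hku, hkz⟩
      refine ⟨mem_univ _, ⟨ho, hkz⟩, ?_⟩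
      calc k * (u * z) = k * u * z := by group
        _ = u * k * z := by rw [hku]
        _ = u * (k * z) := by group
        _ = u * (z * k) := by rw [hkz]
        _ = u * z * k := by group
  have h3 : (univ.filter (fun k => Odd (orderOf k) ∧ k * z = z * k)) = Kf z := rfl
  rw [h1, ← h2, ← h3]
  exact hcount

theorem card_Af {g₀ : ℕ} (h : Hyp G g₀) (P : Sylow 2 G) (J u : G) (hJ : orderOf J = 2)
    (hu : orderOf u = 2) :
    (Af u).card * Nat.card (Subgroup.centralizer ((P : Subgroup G) : Set G))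
      = 2 * Nat.card (Subgroup.centralizer ({J} : Set G)) := by
  have hu2 := sq_of_orderOf_eq_two hu
  obtain ⟨K, Q, huQ, hK1, -, hK3⟩ := exists_K_involution h u hu
  obtain ⟨R, hR2, hR⟩ := exists_R h Q u hu huQ
  have hQc := sylow_card g₀ h.1 h.2.1 Q
  have hcomm : ∀ q ∈ (Q : Subgroup G), q * u = u * q := fun q hq =>
    (Subgroup.mem_centralizer_iff.mp (sylow_comm Q hQc hq) u huQ).symm
  have hRq : ∀ q ∈ R, orderOf q = 2 ∧ q * u = u * q ∧ q ≠ u := by
    intro q hq
    rw [hR] at hq
    exact ⟨orderOf_eq_two_of_mem_sylow h Q q hq.1 hq.2.1, hcomm q hq.1, hq.2.2⟩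
  have hdec : Af u = R.biUnion (fun q => (Af u).filter (fun z => Odd (orderOf (z * q)))) := by
    ext z
    rw [mem_biUnion]
    constructor
    · intro hz
      have hz' := mem_Af.mp hz
      obtain ⟨q, hqQ, hqK⟩ := hK3 z hz'.2.1
      have hodd := ((hK1 _).1 hqK).1
      refine ⟨q, ?_, mem_filter.mpr ⟨hz, hodd⟩⟩
      rw [hR]
      refine ⟨hqQ, ?_, ?_⟩
      · rintro rfl
        rw [mul_one, hz'.1] at hodd
        exact absurd hodd not_odd_two
      · rintro rfl
        rw [orderOf_mul_of_comm (sq_of_orderOf_eq_two hz'.1) hu2 hz'.2.1 hz'.2.2] at hodd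
        exact absurd hodd not_odd_two
    · rintro ⟨q, -, hz⟩
      exact (mem_filter.mp hz).1
  have hdisj : ((R : Finset G) : Set G).PairwiseDisjoint
      (fun q => (Af u).filter (fun z => Odd (orderOf (z * q)))) := by
    intro q₁ hq₁ q₂ hq₂ hne
    rw [Function.onFun, Finset.disjoint_left]
    intro z hz1 hz2
    rw [mem_filter] at hz1 hz2
    have hz' := mem_Af.mp hz1.1
    have hq₁' := (hR q₁).1 hq₁
    have hq₂' := (hR q₂).1 hq₂
    have hk1 : z * q₁ ∈ K := (hK1 _).2 ⟨hz1.2, by
      rw [mul_assoc, hcomm q₁ hq₁'.1, ← mul_assoc, hz'.2.1, mul_assoc]⟩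
    have hk2 : z * q₂ ∈ K := (hK1 _).2 ⟨hz2.2, by
      rw [mul_assoc, hcomm q₂ hq₂'.1, ← mul_assoc, hz'.2.1, mul_assoc]⟩
    have hk3 : q₁⁻¹ * q₂ ∈ K := by
      have : q₁⁻¹ * q₂ = (z * q₁)⁻¹ * (z * q₂) := by group
      rw [this]; exact K.mul_mem (K.inv_mem hk1) hk2
    have hodd := ((hK1 _).1 hk3).1
    have hmemQ : q₁⁻¹ * q₂ ∈ (Q : Subgroup G) :=
      Subgroup.mul_mem _ (Subgroup.inv_mem _ hq₁'.1) hq₂'.1
    by_cases h1 : q₁⁻¹ * q₂ = 1
    · apply hne
      have : q₂ = q₁ * (q₁⁻¹ * q₂) := by group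
      rw [this, h1, mul_one]
    · rw [orderOf_eq_two_of_mem_sylow h Q _ hmemQ h1] at hodd
      exact absurd hodd not_odd_two
  have hpiece : ∀ q ∈ R, ((Af u).filter (fun z => Odd (orderOf (z * q)))).card
      * Nat.card (Subgroup.centralizer ((P : Subgroup G) : Set G))
      = Nat.card (Subgroup.centralizer ({J} : Set G)) := by
    intro q hq
    obtain ⟨hqo, hqu, hqne⟩ := hRq q hq
    have hq2 := sq_of_orderOf_eq_two hqo
    have hqinv : q⁻¹ = q := inv_of_sq hq2
    have hcount := inv_count K (fun k => Odd (orderOf k) ∧ k * u = u * k) (fun k => hK1 k)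
      (fun k hk => ((hK1 k).1 hk).1) q hq2 (by
        intro k hk
        rw [hK1] at hk ⊢
        refine ⟨by rw [orderOf_conj']; exact hk.1, ?_⟩
        have c1 : Commute q u := hqu
        have c2 : Commute k u := hk.2
        exact ((c1.mul_left c2).mul_left c1.inv_left).eq)
    have h1 : ((Af u).filter (fun z => Odd (orderOf (z * q)))).card
        = (univ.filter (fun k => (Odd (orderOf k) ∧ k * u = u * k) ∧ q * k * q⁻¹ = k⁻¹)).card := by
      apply card_nbij' (fun z => z * q) (fun k => k * q)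
      · intro z hz
        rw [mem_coe, mem_filter, mem_Af] at hz
        obtain ⟨⟨hzo, hzu, hzne⟩, hodd⟩ := hz
        have hz2 := sq_of_orderOf_eq_two hzo
        rw [mem_coe, mem_filter]
        refine ⟨mem_univ _, ⟨hodd, ?_⟩, ?_⟩
        · rw [mul_assoc, hqu, ← mul_assoc, hzu, mul_assoc]
        · have e1 : q * (z * q) * q⁻¹ = q * z := by group
          have e2 : (z * q)⁻¹ = q⁻¹ * z⁻¹ := by group
          rw [e1, e2, hqinv, inv_of_sq hz2]
      · intro k hk
        rw [mem_coe, mem_filter] at hk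
        obtain ⟨-, ⟨hko, hku⟩, hkinv⟩ := hk
        rw [hqinv] at hkinv
        rw [mem_coe, mem_filter, mem_Af]
        have hkq2 : k * q * (k * q) = 1 := by
          calc k * q * (k * q) = k * (q * k * q) := by group
            _ = k * k⁻¹ := by rw [hkinv]
            _ = 1 := by group
        have hkq1 : k * q ≠ 1 := by
          intro h1
          have : k = q := by
            have : k = k * q * q⁻¹ := by group
            rw [this, h1, one_mul, hqinv]
          rw [this, hqo] at hko
          exact absurd hko not_odd_two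
        haveI : Fact (Nat.Prime 2) := ⟨Nat.prime_two⟩
        refine ⟨⟨orderOf_eq_prime (by rw [pow_two]; exact hkq2) hkq1, ?_, ?_⟩, ?_⟩
        · rw [mul_assoc, hqu, ← mul_assoc, hku, mul_assoc]
        · intro h1
          replace h1 : k * q = u := h1
          have : k = u * q := by
            have : k = k * q * q⁻¹ := by group
            rw [this, h1, hqinv]
          rw [this, orderOf_mul_of_comm hu2 hq2 hqu.symm (Ne.symm hqne)] at hko
          exact absurd hko not_odd_two
        · have : k * q * q = k := by rw [mul_assoc, hq2, mul_one]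
          rw [this]; exact hko
      · intro z _
        show z * q * q = z
        rw [mul_assoc, hq2, mul_one]
      · intro k _
        show k * q * q = k
        rw [mul_assoc, hq2, mul_one]
    have h2 : (univ.filter (fun k => (Odd (orderOf k) ∧ k * u = u * k) ∧ k * q = q * k))
        = Kf2 u q := by
      ext k
      rw [mem_filter, mem_Kf2]
      constructor
      · rintro ⟨-, ⟨a, b⟩, c⟩; exact ⟨a, b, c⟩
      · rintro ⟨a, b, c⟩; exact ⟨mem_univ _, ⟨a, b⟩, c⟩
    have h3 : (univ.filter (fun k => Odd (orderOf k) ∧ k * u = u * k)) = Kf u := rfl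
    rw [h2, h3, ← h1] at hcount
    have hP := card_Kf2 h P u q hu hqo hqu.symm (Ne.symm hqne)
    have hJc := card_Kf h J u hJ hu
    rw [← hP, ← hJc, ← hcount]; ring
  rw [hdec, card_biUnion hdisj, sum_mul, sum_congr rfl hpiece, sum_const, hR2, smul_eq_mul]

theorem card_Tf {g₀ : ℕ} (h : Hyp G g₀) (P : Sylow 2 G) (J u : G) (hJ : orderOf J = 2)
    (hu : orderOf u = 2) :
    (Tf u).card * Nat.card (Subgroup.centralizer ((P : Subgroup G) : Set G)) ^ 2
      = 2 * Nat.card (Subgroup.centralizer ({J} : Set G)) ^ 2 := by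
  have E := sq_eq_one h
  have hu2 := sq_of_orderOf_eq_two hu
  have hmaps : ∀ v ∈ Tf u, invPart (u * v) ∈ Af u := by
    intro v hv
    rw [mem_Tf] at hv
    obtain ⟨hvo, hsing⟩ := hv
    have hv2 := sq_of_orderOf_eq_two hvo
    rw [mem_Af]
    have hzo := orderOf_invPart hsing
    have hz2 := sq_of_orderOf_eq_two hzo
    refine ⟨hzo, ?_, ?_⟩
    · have hc : u * (u * v) * u⁻¹ = (u * v)⁻¹ := by
        have e2 : (u * v)⁻¹ = v⁻¹ * u⁻¹ := by group
        rw [e2, sq_cancel hu2, inv_of_sq hv2]
      have := conj_invPart hc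
      rw [inv_of_sq hz2, inv_of_sq hu2] at this
      calc invPart (u * v) * u = u * invPart (u * v) * u * u := by rw [this]
        _ = u * invPart (u * v) * (u * u) := by group
        _ = u * invPart (u * v) := by rw [hu2, mul_one]
    · intro hzu
      have hc := invPart_comm (u * v) (u * v) rfl
      rw [hzu, sq_cancel hu2] at hc
      have h2 : (u * v) ^ 2 = 1 := by
        rw [pow_two]
        calc u * v * (u * v) = (u * v * u) * v := by group
          _ = v * v := by rw [hc]
          _ = 1 := hv2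
      have h3 : orderOf (u * v) = 2 := Nat.dvd_antisymm (orderOf_dvd_of_pow_eq_one h2) hsing
      have h4 : invPart (u * v) = u * v := by
        unfold invPart; rw [h3]; simp
      rw [h4] at hzu
      have : v = 1 := mul_left_cancel (hzu.trans (mul_one u).symm)
      rw [this, orderOf_one] at hvo
      norm_num at hvo
  have hfib : ∀ z ∈ Af u, ((Tf u).filter (fun v => invPart (u * v) = z)).card
      * Nat.card (Subgroup.centralizer ((P : Subgroup G) : Set G))
      = Nat.card (Subgroup.centralizer ({J} : Set G)) := by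
    intro z hz
    have h1 := card_fiber_T h u z hu hz
    have hz' := mem_Af.mp hz
    have hP := card_Kf2 h P u z hu hz'.1 hz'.2.1.symm (Ne.symm hz'.2.2)
    have hJc := card_Kf h J z hJ hz'.1
    rw [← hP, ← hJc, ← h1]; ring
  have hA := card_Af h P J u hJ hu
  have h5 : (Tf u).card * Nat.card (Subgroup.centralizer ((P : Subgroup G) : Set G))
      = (Af u).card * Nat.card (Subgroup.centralizer ({J} : Set G)) := by
    rw [card_eq_sum_card_fiberwise hmaps, sum_mul, sum_congr rfl hfib, sum_const, smul_eq_mul]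
  calc (Tf u).card * Nat.card (Subgroup.centralizer ((P : Subgroup G) : Set G)) ^ 2
      = ((Tf u).card * Nat.card (Subgroup.centralizer ((P : Subgroup G) : Set G)))
        * Nat.card (Subgroup.centralizer ((P : Subgroup G) : Set G)) := by ring
    _ = ((Af u).card * Nat.card (Subgroup.centralizer ((P : Subgroup G) : Set G)))
        * Nat.card (Subgroup.centralizer ({J} : Set G)) := by rw [h5]; ring
    _ = 2 * Nat.card (Subgroup.centralizer ({J} : Set G)) ^ 2 := by rw [hA]; ring

/-- The number of pairs of conjugating elements whose product of conjugates of `J` is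
`2`-singular. -/
theorem card_pairs {g₀ : ℕ} (h : Hyp G g₀) (P : Sylow 2 G) (J : G) (hJ : orderOf J = 2) :
    (univ.filter (fun ab : G × G =>
        2 ∣ orderOf (ab.1 * J * ab.1⁻¹ * (ab.2 * J⁻¹ * ab.2⁻¹)))).card
      * Nat.card (Subgroup.centralizer ((P : Subgroup G) : Set G)) ^ 2
      = 2 * Fintype.card G * Nat.card (Subgroup.centralizer ({J} : Set G)) ^ 3 := by
  have hJ2 := sq_of_orderOf_eq_two hJ
  have hJinv : J⁻¹ = J := inv_of_sq hJ2
  rw [hJinv]
  have hrow : ∀ a : G, (univ.filter (fun b : G =>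
      2 ∣ orderOf (a * J * a⁻¹ * (b * J * b⁻¹)))).card
      = (Tf (a * J * a⁻¹)).card * Nat.card (Subgroup.centralizer ({J} : Set G)) := by
    intro a
    have hmaps : ∀ b ∈ univ.filter (fun b : G => 2 ∣ orderOf (a * J * a⁻¹ * (b * J * b⁻¹))),
        b * J * b⁻¹ ∈ Tf (a * J * a⁻¹) := by
      intro b hb
      rw [mem_filter] at hb
      rw [mem_Tf, orderOf_conj']
      exact ⟨hJ, hb.2⟩
    rw [card_eq_sum_card_fiberwise hmaps]
    have hfib : ∀ v ∈ Tf (a * J * a⁻¹), ((univ.filter (fun b : G =>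
        2 ∣ orderOf (a * J * a⁻¹ * (b * J * b⁻¹)))).filter (fun b => b * J * b⁻¹ = v)).card
        = Nat.card (Subgroup.centralizer ({J} : Set G)) := by
      intro v hv
      rw [mem_Tf] at hv
      obtain ⟨g, hg⟩ := conj_of_involutions h J v hJ hv.1
      rw [← Cfsg.Agent.H81.card_fiber_conj J g, hg]
      congr 1
      ext b
      simp only [mem_filter, mem_univ, true_and]
      constructor
      · rintro ⟨-, hb⟩; exact hb
      · intro hb; exact ⟨by rw [hb]; exact hv.2, hb⟩
    rw [sum_congr rfl hfib, sum_const, smul_eq_mul]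
  have hsplit : (univ.filter (fun ab : G × G =>
      2 ∣ orderOf (ab.1 * J * ab.1⁻¹ * (ab.2 * J * ab.2⁻¹)))).card
      = ∑ a : G, (univ.filter (fun b : G => 2 ∣ orderOf (a * J * a⁻¹ * (b * J * b⁻¹)))).card := by
    rw [card_filter, Fintype.sum_prod_type]
    refine sum_congr rfl (fun a _ => ?_)
    rw [card_filter]
  rw [hsplit, sum_mul]
  have hterm : ∀ a ∈ (univ : Finset G), (univ.filter (fun b : G =>
      2 ∣ orderOf (a * J * a⁻¹ * (b * J * b⁻¹)))).card
      * Nat.card (Subgroup.centralizer ((P : Subgroup G) : Set G)) ^ 2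
      = 2 * Nat.card (Subgroup.centralizer ({J} : Set G)) ^ 3 := by
    intro a _
    rw [hrow a]
    have := card_Tf h P J (a * J * a⁻¹) hJ (by rw [orderOf_conj']; exact hJ)
    calc (Tf (a * J * a⁻¹)).card * Nat.card (Subgroup.centralizer ({J} : Set G))
        * Nat.card (Subgroup.centralizer ((P : Subgroup G) : Set G)) ^ 2
        = ((Tf (a * J * a⁻¹)).card
          * Nat.card (Subgroup.centralizer ((P : Subgroup G) : Set G)) ^ 2)
          * Nat.card (Subgroup.centralizer ({J} : Set G)) := by ring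
      _ = 2 * Nat.card (Subgroup.centralizer ({J} : Set G)) ^ 3 := by rw [this]; ring
  rw [sum_congr rfl hterm, sum_const, card_univ, smul_eq_mul]; ring

end Cfsg.Agent.H78.Klein
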