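import Cfsg.Agent.H81.WBO
import Cfsg.Agent.H81.BlockDeg
import Cfsg.Agent.H81.Reg
import Cfsg.Agent.H78.FrobSchur4

/-!
# Block orthogonality on `p`-regular elements and a parity lemma (helper78)

* `sum_regular_eq_zero_of_not_mem_block` : if `ψ` is not in the block of `χ`, then
  `∑_{x p-regular} χ(x) conj ψ(x) = 0`.
* `sum_regular_sub_memLocalIdeal` : for `p = 2` and an inversion-invariant algebraic-integer
  valued function `f`, `∑_{x 2-regular} f(x) ≡ f(1)` modulo the local ideal.
-/

set_option autoImplicit false
set_option linter.unusedSectionVars false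
set_option linter.style.haveILetI false

namespace Cfsg.Agent.H78

open Cfsg Cfsg.Agent.H20 Cfsg.Agent.H4

open scoped ComplexConjugate

universe u

variable {G : Type u} [Group G] [Fintype G]

attribute [local instance] Cfsg.Agent.H4.fintypeIrr

open Classical in
/-- The block kernel `∑_{φ ∈ B} φ(y) conj φ(x)` vanishes when exactly one of `x`, `y` is
`p`-regular. -/
theorem block_kernel_eq_zero {p : ℕ} {M : Ideal AlgInt} (hM : IsPModular p M)
    (χ : IrrCharacter G) (x y : G) (hxy : ¬ ((¬ p ∣ orderOf x) ↔ (¬ p ∣ orderOf y))) :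
    ∑ φ : IrrCharacter G, (if φ ∈ blockOf M (χ : G → ℂ)
      then (φ : G → ℂ) y * conj ((φ : G → ℂ) x) else 0) = 0 := by
  by_cases hx : p ∣ orderOf x
  · have hy : ¬ p ∣ orderOf y := by
      intro hy; exact hxy ⟨fun h => absurd hx h, fun h => absurd hy h⟩
    have h := Cfsg.Agent.H81.wbo_one hM χ y x hy hx
    rw [finsum_mem_irr] at h
    exact h
  · have hy : p ∣ orderOf y := by
      by_contra hy; exact hxy ⟨fun _ => hy, fun _ => hx⟩
    have h := Cfsg.Agent.H81.wbo_one hM χ x y hx hy
    rw [finsum_mem_irr] at h
    have h2 := congrArg conj h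
    rw [map_zero, map_sum] at h2
    refine Eq.trans (Finset.sum_congr rfl fun φ _ => ?_) h2
    split_ifs
    · rw [map_mul, Complex.conj_conj, mul_comm]
    · rw [map_zero]

open Classical in
/-- **Block orthogonality on `p`-regular elements**: if `ψ` does not lie in the block of `χ`,
then `∑_{x p-regular} χ(x) conj ψ(x) = 0`. -/
theorem sum_regular_eq_zero_of_not_mem_block {p : ℕ} {M : Ideal AlgInt} (hM : IsPModular p M)
    (χ ψ : IrrCharacter G) (h : ψ ∉ blockOf M (χ : G → ℂ)) :
    ∑ x : G, (if ¬ p ∣ orderOf x then (χ : G → ℂ) x * conj ((ψ : G → ℂ) x) else 0) = 0 := by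
  set a : IrrCharacter G → ℂ := fun φ =>
    ∑ x : G, (if ¬ p ∣ orderOf x then (φ : G → ℂ) x * conj ((ψ : G → ℂ) x) else 0) with ha
  set c : IrrCharacter G → ℂ := fun φ =>
    if φ ∈ blockOf M (χ : G → ℂ) then conj (a φ) else 0 with hc
  set F : G → ℂ := ∑ φ : IrrCharacter G, c φ • (φ : G → ℂ) with hF
  have hF0 : F = 0 := by
    funext y
    rw [hF, Finset.sum_apply, Pi.zero_apply]
    have e1 : ∀ φ : IrrCharacter G, (c φ • (φ : G → ℂ)) y
        = ∑ x : G, (if ¬ p ∣ orderOf x then (ψ : G → ℂ) x *
          (if φ ∈ blockOf M (χ : G → ℂ) then (φ : G → ℂ) y * conj ((φ : G → ℂ) x) else 0)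
          else 0) := by
      intro φ
      rw [Pi.smul_apply, smul_eq_mul, hc]
      by_cases hm : φ ∈ blockOf M (χ : G → ℂ)
      · simp only [hm, if_true]
        rw [ha, map_sum, Finset.sum_mul]
        refine Finset.sum_congr rfl fun x _ => ?_
        split_ifs
        · rw [map_zero, zero_mul]
        · rw [map_mul, Complex.conj_conj]; ring
      · simp only [hm, if_false, zero_mul, mul_zero, ite_self, Finset.sum_const_zero]
    rw [Finset.sum_congr rfl fun φ _ => e1 φ, Finset.sum_comm]
    by_cases hy : p ∣ orderOf y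
    · refine Finset.sum_eq_zero fun x _ => ?_
      by_cases hx : p ∣ orderOf x
      · simp only [hx, not_true_eq_false, if_false, Finset.sum_const_zero]
      · simp only [hx, not_false_eq_true, if_true]
        rw [← Finset.mul_sum, block_kernel_eq_zero hM χ x y (by tauto), mul_zero]
    · have e2 : ∀ x : G, ∑ φ : IrrCharacter G, (if ¬ p ∣ orderOf x then (ψ : G → ℂ) x *
            (if φ ∈ blockOf M (χ : G → ℂ) then (φ : G → ℂ) y * conj ((φ : G → ℂ) x) else 0)
            else 0)
          = ∑ φ : IrrCharacter G, (if φ ∈ blockOf M (χ : G → ℂ)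
              then (φ : G → ℂ) y * ((ψ : G → ℂ) x * conj ((φ : G → ℂ) x)) else 0) := by
        intro x
        by_cases hx : p ∣ orderOf x
        · simp only [hx, not_true_eq_false, if_false, Finset.sum_const_zero]
          have h0 := block_kernel_eq_zero hM χ x y (by tauto)
          have h1 := congrArg (fun t => (ψ : G → ℂ) x * t) h0
          simp only [mul_zero, Finset.mul_sum] at h1
          refine Eq.trans h1.symm (Finset.sum_congr rfl fun φ _ => ?_)
          split_ifs
          · ring
          · rw [mul_zero]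
        · simp only [hx, not_false_eq_true, if_true]
          refine Finset.sum_congr rfl fun φ _ => ?_
          split_ifs
          · ring
          · rw [mul_zero]
      rw [Finset.sum_congr rfl fun x _ => e2 x, Finset.sum_comm]
      refine Finset.sum_eq_zero fun φ _ => ?_
      by_cases hm : φ ∈ blockOf M (χ : G → ℂ)
      · simp only [hm, if_true]
        rw [← Finset.mul_sum]
        have hne : ψ ≠ φ := fun hh => h (hh ▸ hm)
        have h3 := irr_inner_ne hne
        unfold classInner at h3
        have hG : (Nat.card G : ℂ) ≠ 0 := Nat.cast_ne_zero.mpr Nat.card_pos.ne'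
        have h4 : ∑ x : G, (ψ : G → ℂ) x * conj ((φ : G → ℂ) x) = 0 := by
          rcases mul_eq_zero.mp h3 with h5 | h5
          · exact absurd (inv_eq_zero.mp h5) hG
          · exact h5
        rw [h4, mul_zero]
      · simp only [hm, if_false, Finset.sum_const_zero]
  have h1 : classInner F (χ : G → ℂ) = c χ := by
    rw [hF, classInner_sum_left]
    rw [Finset.sum_eq_single χ]
    · rw [classInner_smul_left, irr_inner_self, mul_one]
    · intro φ _ hφ
      rw [classInner_smul_left, irr_inner_ne hφ, mul_zero]
    · intro hh; exact absurd (Finset.mem_univ _) hh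
  rw [hF0, classInner_zero_left] at h1
  have h2 : c χ = conj (a χ) := by
    rw [hc]
    simp only [Cfsg.Agent.H81.mem_blockOf_self hM χ, if_true]
  rw [h2] at h1
  have h3 : a χ = 0 := by
    have := congrArg conj h1
    rw [map_zero, Complex.conj_conj] at this
    exact this.symm
  exact h3

open Classical in
/-- For `M` over `2` and an inversion-invariant algebraic-integer valued `f`, the sum of `f`
over the elements of odd order is congruent to `f 1` modulo the local ideal. -/
theorem sum_regular_sub_memLocalIdeal {M : Ideal AlgInt} (hM : IsPModular 2 M) (f : G → ℂ)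
    (hint : ∀ x, IsIntegral ℤ (f x)) (hinv : ∀ x, f x⁻¹ = f x) :
    MemLocalIdeal M (∑ x : G, (if ¬ 2 ∣ orderOf x then f x else 0) - f 1) := by
  have hMp := isPrime_of_isPModular hM
  set f' : G → AlgInt := fun x => ⟨f x, hint x⟩ with hf'
  set S : Finset G := Finset.univ.filter (fun x : G => ¬ 2 ∣ orderOf x ∧ x ≠ 1) with hS
  have ha : ∑ x ∈ S, f' x ∈ M := by
    rw [← Ideal.Quotient.eq_zero_iff_mem, map_sum]
    refine Finset.sum_involution (fun x _ => x⁻¹) ?_ ?_ ?_ ?_
    · intro x _
      have e : f' x⁻¹ = f' x := Subtype.ext (hinv x)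
      rw [e, ← map_add, ← two_mul, map_mul]
      have h2 : (Ideal.Quotient.mk M) (2 : AlgInt) = 0 := by
        rw [Ideal.Quotient.eq_zero_iff_mem]
        have := hM.2.2
        simpa using this
      rw [h2, zero_mul]
    · intro x hx _ hxx
      rw [hS, Finset.mem_filter] at hx
      have h1 : x ^ 2 = 1 := by
        rw [pow_two]
        nth_rewrite 1 [← hxx]
        exact inv_mul_cancel x
      have h2 : orderOf x ∣ 2 := orderOf_dvd_of_pow_eq_one h1
      have h3 : orderOf x = 1 ∨ orderOf x = 2 := (Nat.dvd_prime Nat.prime_two).mp h2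
      rcases h3 with h3 | h3
      · exact hx.2.2 (orderOf_eq_one_iff.mp h3)
      · exact hx.2.1 (by rw [h3])
    · intro x hx
      rw [hS, Finset.mem_filter] at hx ⊢
      refine ⟨Finset.mem_univ _, ?_, ?_⟩
      · rw [orderOf_inv]; exact hx.2.1
      · intro h; exact hx.2.2 (inv_eq_one.mp h)
    · intro x _
      exact inv_inv x
  have h1 := memLocalIdeal_of_mem hMp ha
  have e : ∑ x : G, (if ¬ 2 ∣ orderOf x then f x else 0) - f 1
      = ((∑ x ∈ S, f' x : AlgInt) : ℂ) := by
    rw [← Finset.sum_filter]
    have hsplit : Finset.univ.filter (fun x : G => ¬ 2 ∣ orderOf x) = insert 1 S := by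
      ext x
      simp only [hS, Finset.mem_filter, Finset.mem_univ, true_and, Finset.mem_insert]
      constructor
      · intro hx
        by_cases h : x = 1
        · exact Or.inl h
        · exact Or.inr ⟨hx, h⟩
      · rintro (h | h)
        · rw [h, orderOf_one]; decide
        · exact h.1
    have hnot : (1 : G) ∉ S := by
      simp [hS]
    rw [hsplit, Finset.sum_insert hnot, add_sub_cancel_left]
    rw [AddSubmonoidClass.coe_finsetSum]
  rw [e]
  exact h1

end Cfsg.Agent.H78
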