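import Cfsg.Agent.H78.Klein2
import Cfsg.Agent.H78.RealOdd
import Cfsg.Agent.H80.Block
import Cfsg.Agent.H81.Counting
import Cfsg.Agent.H81.Reg

/-!
# Brauer's order formula for Klein four Sylow subgroups: the character side (helper78)

With `B₀ = {1, χ₁, χ₂, χ₃}` and `χᵢ(J) = εᵢ = ±1`, the class function
`Φ = ∑_{φ ∈ B₀} φ(J) φ` vanishes on `2`-regular elements (weak block orthogonality) and, when
at most a quarter of the elements are `2`-singular, equals `4` on every `2`-singular element.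
-/

set_option autoImplicit false
set_option linter.unusedSectionVars false
set_option linter.style.haveILetI false

namespace Cfsg.Agent.H78.Klein

open Cfsg Cfsg.Agent.H20 Cfsg.Agent.H4 Cfsg.Agent.H80 Finset

open scoped ComplexConjugate

universe u

variable {G : Type u} [Group G] [Fintype G] [DecidableEq G]

attribute [local instance] Cfsg.Agent.H4.fintypeIrr

/-- The hypotheses on the principal block. -/
structure KData (M : Ideal AlgInt) (J : G) (χ₁ χ₂ χ₃ : IrrCharacter G) (ε₁ ε₂ ε₃ : ℤ) :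
    Prop where
  hM : IsPModular 2 M
  hJ : orderOf J = 2
  hB : principalBlock M G = {χ : IrrCharacter G | (χ : G → ℂ) = (fun _ => 1) ∨ χ = χ₁ ∨
    χ = χ₂ ∨ χ = χ₃}
  hd1 : (χ₁ : G → ℂ) ≠ (fun _ => 1)
  hd2 : (χ₂ : G → ℂ) ≠ (fun _ => 1)
  hd3 : (χ₃ : G → ℂ) ≠ (fun _ => 1)
  h12 : χ₁ ≠ χ₂
  h13 : χ₁ ≠ χ₃
  h23 : χ₂ ≠ χ₃
  hε₁ : ε₁ = 1 ∨ ε₁ = -1
  hε₂ : ε₂ = 1 ∨ ε₂ = -1
  hε₃ : ε₃ = 1 ∨ ε₃ = -1
  hv₁ : (χ₁ : G → ℂ) J = ε₁
  hv₂ : (χ₂ : G → ℂ) J = ε₂
  hv₃ : (χ₃ : G → ℂ) J = ε₃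

variable {M : Ideal AlgInt} {J : G} {χ₁ χ₂ χ₃ : IrrCharacter G} {ε₁ ε₂ ε₃ : ℤ}

theorem KData.mem_block (D : KData M J χ₁ χ₂ χ₃ ε₁ ε₂ ε₃) (φ : IrrCharacter G) :
    φ ∈ principalBlock M G ↔ φ = trivChar G ∨ φ = χ₁ ∨ φ = χ₂ ∨ φ = χ₃ := by
  rw [D.hB, Set.mem_ofPred_eq]
  have : ((φ : G → ℂ) = fun _ => 1) ↔ φ = trivChar G :=
    ⟨fun h => Subtype.ext h, fun h => by rw [h]; rfl⟩
  rw [this]

theorem KData.ne1 (D : KData M J χ₁ χ₂ χ₃ ε₁ ε₂ ε₃) : trivChar G ≠ χ₁ :=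
  fun h => D.hd1 (by rw [← h]; rfl)

theorem KData.ne2 (D : KData M J χ₁ χ₂ χ₃ ε₁ ε₂ ε₃) : trivChar G ≠ χ₂ :=
  fun h => D.hd2 (by rw [← h]; rfl)

theorem KData.ne3 (D : KData M J χ₁ χ₂ χ₃ ε₁ ε₂ ε₃) : trivChar G ≠ χ₃ :=
  fun h => D.hd3 (by rw [← h]; rfl)

theorem KData.val_J (D : KData M J χ₁ χ₂ χ₃ ε₁ ε₂ ε₃) (φ : IrrCharacter G)
    (hφ : φ ∈ principalBlock M G) : (φ : G → ℂ) J = 1 ∨ (φ : G → ℂ) J = -1 := by
  rw [D.mem_block] at hφ
  rcases hφ with rfl | rfl | rfl | rfl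
  · left; rfl
  · rw [D.hv₁]; rcases D.hε₁ with h | h <;> rw [h] <;> simp
  · rw [D.hv₂]; rcases D.hε₂ with h | h <;> rw [h] <;> simp
  · rw [D.hv₃]; rcases D.hε₃ with h | h <;> rw [h] <;> simp

open Classical in
theorem KData.blockSum (D : KData M J χ₁ χ₂ χ₃ ε₁ ε₂ ε₃) (f : IrrCharacter G → ℂ) :
    ∑ φ : IrrCharacter G, (if φ ∈ principalBlock M G then f φ else 0)
      = f (trivChar G) + f χ₁ + f χ₂ + f χ₃ := by
  rw [← Finset.sum_filter]
  have h : (univ.filter (fun φ : IrrCharacter G => φ ∈ principalBlock M G))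
      = {trivChar G, χ₁, χ₂, χ₃} := by
    ext φ
    simp only [mem_filter, mem_univ, true_and, mem_insert, mem_singleton]
    exact D.mem_block φ
  rw [h, sum_insert, sum_insert, sum_insert, sum_singleton]
  · ring
  · simp only [mem_singleton]; exact D.h23
  · simp only [mem_insert, mem_singleton, not_or]; exact ⟨D.h12, D.h13⟩
  · simp only [mem_insert, mem_singleton, not_or]; exact ⟨D.ne1, D.ne2, D.ne3⟩

open Classical in
/-- `Φ = ∑_{φ ∈ B₀} φ(J) φ`. -/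
noncomputable def Phi (M : Ideal AlgInt) (J g : G) : ℂ :=
  ∑ φ : IrrCharacter G,
    if φ ∈ principalBlock M G then (φ : G → ℂ) J * (φ : G → ℂ) g else 0

theorem KData.Phi_eq (D : KData M J χ₁ χ₂ χ₃ ε₁ ε₂ ε₃) (g : G) :
    Phi M J g = 1 + ε₁ * (χ₁ : G → ℂ) g + ε₂ * (χ₂ : G → ℂ) g + ε₃ * (χ₃ : G → ℂ) g := by
  unfold Phi
  rw [D.blockSum (fun φ => (φ : G → ℂ) J * (φ : G → ℂ) g), D.hv₁, D.hv₂, D.hv₃]
  simp [trivChar_apply]

theorem KData.Phi_regular (D : KData M J χ₁ χ₂ χ₃ ε₁ ε₂ ε₃) (x : G) (hx : ¬ 2 ∣ orderOf x) :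
    Phi M J x = 0 := by
  classical
  have h := block_kernel_eq_zero D.hM (trivChar G) x J (by rw [D.hJ]; simp [hx])
  have h2 := congrArg conj h
  rw [map_sum, map_zero] at h2
  rw [← h2]
  unfold Phi
  apply Finset.sum_congr rfl
  intro φ _
  by_cases hφ : φ ∈ principalBlock M G
  · have hφ' : φ ∈ blockOf M ((trivChar G : IrrCharacter G) : G → ℂ) := hφ
    rw [if_pos hφ, if_pos hφ', map_mul, Complex.conj_conj]
    rcases D.val_J φ hφ with h1 | h1 <;> rw [h1] <;> simp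
  · have hφ' : φ ∉ blockOf M ((trivChar G : IrrCharacter G) : G → ℂ) := hφ
    rw [if_neg hφ, if_neg hφ', map_zero]

omit [DecidableEq G] in
theorem irr_sum_mul_conj (φ ψ : IrrCharacter G) :
    ∑ g : G, (φ : G → ℂ) g * conj ((ψ : G → ℂ) g)
      = (Nat.card G : ℂ) * (if φ = ψ then 1 else 0) := by
  have h := irr_inner φ ψ
  unfold classInner at h
  have hG : (Nat.card G : ℂ) ≠ 0 := by exact_mod_cast Nat.card_pos.ne'
  rw [← h, ← mul_assoc, mul_inv_cancel₀ hG, one_mul]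

open Classical in
theorem Phi_inner (M : Ideal AlgInt) (J : G) (ψ : IrrCharacter G) :
    ∑ g : G, Phi M J g * conj ((ψ : G → ℂ) g)
      = (Nat.card G : ℂ) * (if ψ ∈ principalBlock M G then (ψ : G → ℂ) J else 0) := by
  unfold Phi
  simp only [Finset.sum_mul]
  rw [Finset.sum_comm]
  have h1 : ∀ φ : IrrCharacter G, ∑ g : G,
      (if φ ∈ principalBlock M G then (φ : G → ℂ) J * (φ : G → ℂ) g else 0)
        * conj ((ψ : G → ℂ) g)
      = if φ = ψ then (Nat.card G : ℂ) *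
          (if ψ ∈ principalBlock M G then (ψ : G → ℂ) J else 0) else 0 := by
    intro φ
    by_cases hφ : φ ∈ principalBlock M G
    · simp only [hφ, if_true, mul_assoc]
      rw [← Finset.mul_sum, irr_sum_mul_conj]
      by_cases e : φ = ψ
      · subst e
        simp only [if_true, hφ]
        ring
      · simp only [e, if_false, mul_zero]
    · simp only [hφ, if_false, zero_mul, Finset.sum_const_zero]
      by_cases e : φ = ψ
      · subst e
        simp only [if_true, hφ, if_false, mul_zero]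
      · simp only [e, if_false]
  rw [Finset.sum_congr rfl (fun φ _ => h1 φ), Finset.sum_ite_eq' ]
  simp

theorem KData.Phi_sum (D : KData M J χ₁ χ₂ χ₃ ε₁ ε₂ ε₃) :
    ∑ g : G, Phi M J g = (Nat.card G : ℂ) := by
  have hMp := isPrime_of_isPModular D.hM
  have h := Phi_inner M J (trivChar G)
  rw [if_pos (trivChar_mem_principalBlock hMp)] at h
  simp only [trivChar_apply, map_one, mul_one] at h
  exact h

open Classical in
theorem KData.conj_Phi (D : KData M J χ₁ χ₂ χ₃ ε₁ ε₂ ε₃) (g : G) :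
    conj (Phi M J g) = ∑ ψ : IrrCharacter G,
      if ψ ∈ principalBlock M G then (ψ : G → ℂ) J * conj ((ψ : G → ℂ) g) else 0 := by
  unfold Phi
  rw [map_sum]
  apply Finset.sum_congr rfl
  intro ψ _
  by_cases hψ : ψ ∈ principalBlock M G
  · rw [if_pos hψ, if_pos hψ, map_mul]
    rcases D.val_J ψ hψ with h1 | h1 <;> rw [h1] <;> simp
  · rw [if_neg hψ, if_neg hψ, map_zero]

open Classical in
theorem KData.Phi_norm (D : KData M J χ₁ χ₂ χ₃ ε₁ ε₂ ε₃) :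
    ∑ g : G, Phi M J g * conj (Phi M J g) = 4 * (Nat.card G : ℂ) := by
  simp only [D.conj_Phi, Finset.mul_sum]
  rw [Finset.sum_comm]
  have h1 : ∀ ψ : IrrCharacter G, ∑ g : G, Phi M J g *
      (if ψ ∈ principalBlock M G then (ψ : G → ℂ) J * conj ((ψ : G → ℂ) g) else 0)
      = if ψ ∈ principalBlock M G then (Nat.card G : ℂ) else 0 := by
    intro ψ
    by_cases hψ : ψ ∈ principalBlock M G
    · simp only [hψ, if_true]
      have : ∀ g : G, Phi M J g * ((ψ : G → ℂ) J * conj ((ψ : G → ℂ) g))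
          = (ψ : G → ℂ) J * (Phi M J g * conj ((ψ : G → ℂ) g)) := fun g => by ring
      rw [Finset.sum_congr rfl (fun g _ => this g), ← Finset.mul_sum, Phi_inner, if_pos hψ]
      rcases D.val_J ψ hψ with h1 | h1 <;> rw [h1] <;> ring
    · simp only [hψ, if_false, mul_zero, Finset.sum_const_zero]
  rw [Finset.sum_congr rfl (fun ψ _ => h1 ψ), D.blockSum (fun _ => (Nat.card G : ℂ))]
  ring

/-- If a quarter of the elements is `2`-singular, then `Φ = 4` on them. -/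
theorem KData.Phi_singular (D : KData M J χ₁ χ₂ χ₃ ε₁ ε₂ ε₃)
    (h4S : 4 * (Sing G).card = Fintype.card G) (g : G) (hg : 2 ∣ orderOf g) :
    Phi M J g = 4 := by
  have hoff : ∀ x : G, x ∉ Sing G → Phi M J x = 0 :=
    fun x hx => D.Phi_regular x (by rwa [mem_Sing] at hx)
  have hnormS : ∑ x ∈ Sing G, Complex.normSq (Phi M J x) = 4 * (Fintype.card G : ℝ) := by
    have h1 : ∑ x ∈ Sing G, Complex.normSq (Phi M J x) = ∑ x : G, Complex.normSq (Phi M J x) := by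
      apply Finset.sum_subset (Finset.subset_univ _)
      intro x _ hx
      rw [hoff x hx, map_zero]
    have h2 : ((∑ x : G, Complex.normSq (Phi M J x) : ℝ) : ℂ) = 4 * (Nat.card G : ℂ) := by
      rw [← D.Phi_norm, Complex.ofReal_sum]
      apply Finset.sum_congr rfl
      intro x _
      rw [Complex.mul_conj]
    rw [h1]
    have h3 : (4 * (Nat.card G : ℂ)) = ((4 * (Fintype.card G : ℝ) : ℝ) : ℂ) := by
      rw [Nat.card_eq_fintype_card]; push_cast; ring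
    rw [h3] at h2
    exact_mod_cast h2
  have hreS : ∑ x ∈ Sing G, (Phi M J x).re = (Fintype.card G : ℝ) := by
    have h1 : ∑ x ∈ Sing G, (Phi M J x).re = ∑ x : G, (Phi M J x).re := by
      apply Finset.sum_subset (Finset.subset_univ _)
      intro x _ hx
      rw [hoff x hx, Complex.zero_re]
    rw [h1, ← Complex.re_sum, D.Phi_sum, Nat.card_eq_fintype_card]
    simp
  have hsum : ∑ x ∈ Sing G, Complex.normSq (Phi M J x - 4) = 0 := by
    have h1 : ∀ x : G, Complex.normSq (Phi M J x - 4)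
        = Complex.normSq (Phi M J x) - 8 * (Phi M J x).re + 16 := by
      intro x
      rw [Complex.normSq_apply, Complex.normSq_apply]
      have e1 : (Phi M J x - 4).re = (Phi M J x).re - 4 := by simp
      have e2 : (Phi M J x - 4).im = (Phi M J x).im := by simp
      rw [e1, e2]
      ring
    rw [Finset.sum_congr rfl (fun x _ => h1 x), Finset.sum_add_distrib, Finset.sum_sub_distrib,
      ← Finset.mul_sum, hnormS, hreS, Finset.sum_const, nsmul_eq_mul]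
    have : (Fintype.card G : ℝ) = 4 * ((Sing G).card : ℝ) := by exact_mod_cast h4S.symm
    rw [this]; ring
  have hz := (Finset.sum_eq_zero_iff_of_nonneg (fun x _ => Complex.normSq_nonneg _)).1 hsum g
    (mem_Sing.mpr hg)
  rw [Complex.normSq_eq_zero] at hz
  exact sub_eq_zero.mp hz

open Classical in
theorem KData.sum_sing_conj (D : KData M J χ₁ χ₂ χ₃ ε₁ ε₂ ε₃)
    (h4S : 4 * (Sing G).card = Fintype.card G) (ψ : IrrCharacter G) :
    ∑ y ∈ Sing G, conj ((ψ : G → ℂ) y)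
      = (Nat.card G : ℂ) / 4 * (if ψ ∈ principalBlock M G then (ψ : G → ℂ) J else 0) := by
  have h := Phi_inner M J ψ
  have h1 : ∑ g : G, Phi M J g * conj ((ψ : G → ℂ) g)
      = 4 * ∑ y ∈ Sing G, conj ((ψ : G → ℂ) y) := by
    rw [Finset.mul_sum, ← Finset.sum_subset (Finset.subset_univ (Sing G))
      (fun x _ hx => by rw [D.Phi_regular x (by rwa [mem_Sing] at hx), zero_mul])]
    apply Finset.sum_congr rfl
    intro y hy
    rw [D.Phi_singular h4S y (mem_Sing.mp hy)]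
  rw [h1] at h
  have h4 : (4 : ℂ) ≠ 0 := by norm_num
  rw [eq_comm, div_mul_eq_mul_div, div_eq_iff h4, ← h, mul_comm]

theorem KData.degree_eq (D : KData M J χ₁ χ₂ χ₃ ε₁ ε₂ ε₃) :
    (1 : ℂ) + ε₁ * (χ₁ : G → ℂ) 1 + ε₂ * (χ₂ : G → ℂ) 1 + ε₃ * (χ₃ : G → ℂ) 1 = 0 := by
  rw [← D.Phi_eq 1]
  exact D.Phi_regular 1 (by rw [orderOf_one]; norm_num)

open Classical in
/-- The character-theoretic count of pairs `(a, b)` with `J^a J^b` `2`-singular. -/
theorem KData.char_count (D : KData M J χ₁ χ₂ χ₃ ε₁ ε₂ ε₃)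
    (h4S : 4 * (Sing G).card = Fintype.card G) :
    ((univ.filter (fun ab : G × G =>
        2 ∣ orderOf (ab.1 * J * ab.1⁻¹ * (ab.2 * J⁻¹ * ab.2⁻¹)))).card : ℂ)
      = (Nat.card G : ℂ) ^ 2 / 4 * (1 + ε₁ / (χ₁ : G → ℂ) 1 + ε₂ / (χ₂ : G → ℂ) 1
          + ε₃ / (χ₃ : G → ℂ) 1) := by
  have hJ2 := sq_of_orderOf_eq_two D.hJ
  have hJinv : J⁻¹ = J := inv_of_sq hJ2
  have hmaps : ∀ ab ∈ univ.filter (fun ab : G × G =>
      2 ∣ orderOf (ab.1 * J * ab.1⁻¹ * (ab.2 * J⁻¹ * ab.2⁻¹))),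
      ab.1 * J * ab.1⁻¹ * (ab.2 * J⁻¹ * ab.2⁻¹) ∈ Sing G := by
    intro ab hab
    rw [mem_filter] at hab
    exact mem_Sing.mpr hab.2
  rw [card_eq_sum_card_fiberwise hmaps]
  push_cast
  have hfib : ∀ y ∈ Sing G, (((univ.filter (fun ab : G × G =>
      2 ∣ orderOf (ab.1 * J * ab.1⁻¹ * (ab.2 * J⁻¹ * ab.2⁻¹)))).filter
        (fun ab => ab.1 * J * ab.1⁻¹ * (ab.2 * J⁻¹ * ab.2⁻¹) = y)).card : ℂ)
      = (Nat.card G : ℂ) * ∑ ψ : IrrCharacter G,
          (ψ : G → ℂ) J * (ψ : G → ℂ) J⁻¹ * (ψ : G → ℂ) y⁻¹ / (ψ : G → ℂ) 1 := by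
    intro y hy
    have h1 : (univ.filter (fun ab : G × G =>
        2 ∣ orderOf (ab.1 * J * ab.1⁻¹ * (ab.2 * J⁻¹ * ab.2⁻¹)))).filter
          (fun ab => ab.1 * J * ab.1⁻¹ * (ab.2 * J⁻¹ * ab.2⁻¹) = y)
        = univ.filter (fun ab : G × G => ab.1 * J * ab.1⁻¹ * (ab.2 * J⁻¹ * ab.2⁻¹) = y) := by
      ext ab
      simp only [mem_filter, mem_univ, true_and]
      constructor
      · rintro ⟨-, h⟩; exact h
      · intro h; exact ⟨by rw [h]; exact mem_Sing.mp hy, h⟩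
    rw [h1, Cfsg.Agent.H81.card_conj_pairs (Cfsg.Agent.H81.regIdentity G) J y, finsum_irr_eq_sum]
  rw [Finset.sum_congr rfl hfib, ← Finset.mul_sum, Finset.sum_comm]
  have hinner : ∀ ψ : IrrCharacter G, ∑ y ∈ Sing G,
      (ψ : G → ℂ) J * (ψ : G → ℂ) J⁻¹ * (ψ : G → ℂ) y⁻¹ / (ψ : G → ℂ) 1
      = if ψ ∈ principalBlock M G
          then (Nat.card G : ℂ) / 4 * ((ψ : G → ℂ) J / (ψ : G → ℂ) 1) else 0 := by
    intro ψ
    have h1 : ∀ y : G, (ψ : G → ℂ) J * (ψ : G → ℂ) J⁻¹ * (ψ : G → ℂ) y⁻¹ / (ψ : G → ℂ) 1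
        = ((ψ : G → ℂ) J * (ψ : G → ℂ) J / (ψ : G → ℂ) 1) * conj ((ψ : G → ℂ) y) := by
      intro y
      rw [hJinv, Cfsg.Agent.H81.irr_inv]
      ring
    rw [Finset.sum_congr rfl (fun y _ => h1 y), ← Finset.mul_sum, D.sum_sing_conj h4S ψ]
    by_cases hψ : ψ ∈ principalBlock M G
    · rw [if_pos hψ, if_pos hψ]
      rcases D.val_J ψ hψ with h2 | h2 <;> rw [h2] <;> ring
    · rw [if_neg hψ, if_neg hψ, mul_zero, mul_zero]
  rw [Finset.sum_congr rfl (fun ψ _ => hinner ψ),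
    D.blockSum (fun ψ => (Nat.card G : ℂ) / 4 * ((ψ : G → ℂ) J / (ψ : G → ℂ) 1)),
    D.hv₁, D.hv₂, D.hv₃]
  simp only [trivChar_apply]
  ring

end Cfsg.Agent.H78.Klein
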