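import Cfsg.Agent.H78.Klein4
import Cfsg.Agent.H78.FrobSchur5
import Cfsg.Agent.H78.BrauerFowler
import Cfsg.Agent.H4.RealClasses
import Cfsg.Agent.H20.CentralChar

/-!
# Klein four Sylow subgroups: the `PSL(2,q)`-like order formula (helper78)

With `ε = (1, 1, -1)`: `χ₂ = conj χ₁` (Frobenius–Schur count of square roots against `Φ`),
`q = χ₃(1) = 2 χ₁(1) + 1`, and `|G| = (m³ c(P) / 4) (q³ - q) / 2` with
`4 c(J) = m c(P) (q + 1)`.
-/

set_option autoImplicit false
set_option linter.unusedSectionVars false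
set_option linter.style.haveILetI false

namespace Cfsg.Agent.H78.Klein

open Cfsg Cfsg.Agent.H20 Cfsg.Agent.H4 Cfsg.Agent.H80 Finset

open scoped ComplexConjugate

universe u

variable {G : Type u} [Group G] [Fintype G] [DecidableEq G]

attribute [local instance] Cfsg.Agent.H4.fintypeIrr

variable {M : Ideal AlgInt} {J : G} {χ₁ χ₂ χ₃ : IrrCharacter G} {ε₁ ε₂ ε₃ : ℤ}

/-- A quotient of natural numbers that is an algebraic integer is an integer. -/
theorem dvd_of_isIntegral_natDiv {u d : ℕ} (hd : d ≠ 0)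
    (h : IsIntegral ℤ ((u : ℂ) / (d : ℂ))) : d ∣ u := by
  have hq : IsIntegral ℤ ((u : ℚ) / (d : ℚ)) := by
    rw [← isIntegral_algebraMap_iff (algebraMap ℚ ℂ).injective]
    simpa using h
  obtain ⟨y, hy⟩ := IsIntegrallyClosed.isIntegral_iff.mp hq
  have hdq : (d : ℚ) ≠ 0 := by exact_mod_cast hd
  have h3 : (u : ℚ) = (y : ℚ) * (d : ℚ) := by
    have : (algebraMap ℤ ℚ) y = (y : ℚ) := rfl
    rw [this] at hy
    rw [hy, div_mul_cancel₀ _ hdq]
  have h4 : (u : ℤ) = y * (d : ℤ) := by exact_mod_cast h3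
  have h5 : ((d : ℕ) : ℤ) ∣ ((u : ℕ) : ℤ) := ⟨y, by rw [h4, mul_comm]⟩
  exact Int.natCast_dvd_natCast.mp h5

omit [DecidableEq G] in
/-- If `χ(J) = ±1`, the degree of `χ` divides the class size of `J`. -/
theorem charDegree_dvd_index (χ : IrrCharacter G) (J : G)
    (hχ : (χ : G → ℂ) J = 1 ∨ (χ : G → ℂ) J = -1) :
    charDegree (χ : G → ℂ) ∣ (Subgroup.centralizer ({J} : Set G)).index := by
  have h := centralChar_isIntegral χ J
  unfold centralChar at h
  rw [(Cfsg.Agent.H81.irr_charDegree χ).1] at h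
  apply dvd_of_isIntegral_natDiv (Cfsg.Agent.H81.irr_charDegree χ).2.ne'
  rcases hχ with h1 | h1
  · rw [h1, mul_one] at h; exact h
  · rw [h1] at h
    have : (((Subgroup.centralizer ({J} : Set G)).index : ℂ)) / (charDegree (χ : G → ℂ) : ℂ)
        = -((((Subgroup.centralizer ({J} : Set G)).index : ℂ)) * -1
          / (charDegree (χ : G → ℂ) : ℂ)) := by ring
    rw [this]; exact h.neg

/-- A `2`-singular element has no square root. -/
theorem sqrtCount_sing {g₀ : ℕ} (h : Hyp G g₀) (g : G) (hg : 2 ∣ orderOf g) :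
    Cfsg.Agent.H78.sqrtCount g = 0 := by
  unfold Cfsg.Agent.H78.sqrtCount
  apply Finset.sum_eq_zero
  intro s _
  rw [if_neg]
  intro hs
  obtain ⟨k, m, hm, hkm⟩ := Nat.exists_eq_two_pow_mul_odd (orderOf_pos s).ne'
  have h1 : (s ^ m) ^ 2 ^ k = 1 := by rw [← pow_mul, mul_comm, ← hkm, pow_orderOf_eq_one]
  have h2 := sq_eq_one h _ k h1
  have h3 : g ^ m = 1 := by
    rw [← hs, ← pow_two, ← pow_mul, mul_comm, pow_mul, pow_two]; exact h2
  have h4 := orderOf_dvd_of_pow_eq_one h3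
  exact (Nat.not_even_iff_odd.mpr hm) (even_iff_two_dvd.mpr (hg.trans h4))

open Classical in
/-- The Frobenius–Schur relation `∑_{χ ∈ B₀} ν(χ) χ(J) = 0`. -/
theorem KData.fs_relation (D : KData M J χ₁ χ₂ χ₃ ε₁ ε₂ ε₃) {g₀ : ℕ} (h : Hyp G g₀) :
    (1 : ℂ) + ε₁ * Cfsg.Agent.H78.indicator (χ₁ : G → ℂ)
      + ε₂ * Cfsg.Agent.H78.indicator (χ₂ : G → ℂ)
      + ε₃ * Cfsg.Agent.H78.indicator (χ₃ : G → ℂ) = 0 := by
  have hG : (Nat.card G : ℂ) ≠ 0 := by exact_mod_cast Nat.card_pos.ne'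
  have hS0 : ∑ g : G, Cfsg.Agent.H78.sqrtCount g * conj (Phi M J g) = 0 := by
    apply Finset.sum_eq_zero
    intro g _
    by_cases hg : 2 ∣ orderOf g
    · rw [sqrtCount_sing h g hg, zero_mul]
    · rw [D.Phi_regular g hg, map_zero, mul_zero]
  have hS1 : ∑ g : G, Cfsg.Agent.H78.sqrtCount g * conj (Phi M J g)
      = (Nat.card G : ℂ) * (1 + ε₁ * Cfsg.Agent.H78.indicator (χ₁ : G → ℂ)
        + ε₂ * Cfsg.Agent.H78.indicator (χ₂ : G → ℂ)
        + ε₃ * Cfsg.Agent.H78.indicator (χ₃ : G → ℂ)) := by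
    simp only [D.conj_Phi, Finset.mul_sum]
    rw [Finset.sum_comm]
    have h1 : ∀ ψ : IrrCharacter G, ∑ g : G, Cfsg.Agent.H78.sqrtCount g *
        (if ψ ∈ principalBlock M G then (ψ : G → ℂ) J * conj ((ψ : G → ℂ) g) else 0)
        = if ψ ∈ principalBlock M G
            then (Nat.card G : ℂ) * ((ψ : G → ℂ) J * Cfsg.Agent.H78.indicator (ψ : G → ℂ))
            else 0 := by
      intro ψ
      by_cases hψ : ψ ∈ principalBlock M G
      · simp only [hψ, if_true]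
        have hci := Cfsg.Agent.H78.classInner_sqrtCount ψ
        unfold classInner at hci
        have : ∑ g : G, Cfsg.Agent.H78.sqrtCount g * conj ((ψ : G → ℂ) g)
            = (Nat.card G : ℂ) * Cfsg.Agent.H78.indicator (ψ : G → ℂ) := by
          rw [← hci, ← mul_assoc, mul_inv_cancel₀ hG, one_mul]
        have e : ∀ g : G, Cfsg.Agent.H78.sqrtCount g * ((ψ : G → ℂ) J * conj ((ψ : G → ℂ) g))
            = (ψ : G → ℂ) J * (Cfsg.Agent.H78.sqrtCount g * conj ((ψ : G → ℂ) g)) :=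
          fun g => by ring
        rw [Finset.sum_congr rfl (fun g _ => e g), ← Finset.mul_sum, this]; ring
      · simp only [hψ, if_false, mul_zero, Finset.sum_const_zero]
    rw [Finset.sum_congr rfl (fun ψ _ => h1 ψ),
      D.blockSum (fun ψ => (Nat.card G : ℂ) * ((ψ : G → ℂ) J
        * Cfsg.Agent.H78.indicator (ψ : G → ℂ))), D.hv₁, D.hv₂, D.hv₃]
    have ht : Cfsg.Agent.H78.indicator ((trivChar G : IrrCharacter G) : G → ℂ) = 1 :=
      Cfsg.Agent.H78.indicator_trivIrr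
    rw [ht]
    simp only [trivChar_apply]
    ring
  rw [hS0] at hS1
  exact (mul_eq_zero.mp hS1.symm).resolve_left hG

theorem final_arith (A a b i x q N : ℕ) (hA : 0 < A) (ha : 0 < a) (hb : 0 < b) (hx : 0 < x)
    (hq : q = 2 * x + 1) (hi : A = i * a) (h1 : N * b ^ 2 = 2 * A * a ^ 3)
    (hN : N * (2 * x * q) = A ^ 2 * (x + 1) ^ 2) (hxi : x ∣ i) (hqi : q ∣ i) :
    ∃ m : ℕ, 4 * a = m * b * (q + 1) ∧ 8 * A = m ^ 3 * b * (q ^ 3 - q) := by
  have hq0 : 0 < q := by omega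
  have hcop : Nat.Coprime x q := by
    rw [hq, add_comm]
    exact (Nat.coprime_add_mul_right_right x 1 2).mpr (Nat.coprime_one_right x)
  obtain ⟨r, hr⟩ := hcop.mul_dvd_of_dvd_of_dvd hxi hqi
  have key : r * ((x + 1) * b) ^ 2 = (2 * a) ^ 2 := by
    have e1 : A * (x * q * a) * (r * ((x + 1) * b) ^ 2) = A * (x * q * a) * ((2 * a) ^ 2) := by
      calc A * (x * q * a) * (r * ((x + 1) * b) ^ 2)
          = (A ^ 2 * (x + 1) ^ 2) * b ^ 2 := by rw [hi, hr]; ring
        _ = (2 * x * q) * (N * b ^ 2) := by rw [← hN]; ring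
        _ = A * (x * q * a) * ((2 * a) ^ 2) := by rw [h1]; ring
    exact Nat.eq_of_mul_eq_mul_left (by positivity) e1
  have hdvd : (x + 1) * b ∣ 2 * a :=
    (Nat.pow_dvd_pow_iff two_ne_zero).mp ⟨r, by rw [← key]; ring⟩
  obtain ⟨m, hm⟩ := hdvd
  have hr2 : r = m ^ 2 := by
    have : ((x + 1) * b) ^ 2 * r = ((x + 1) * b) ^ 2 * m ^ 2 := by
      rw [mul_comm, key, hm]; ring
    exact Nat.eq_of_mul_eq_mul_left (by positivity) this
  refine ⟨m, ?_, ?_⟩
  · have : 4 * a = 2 * (2 * a) := by ring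
    rw [this, hm, hq]; ring
  · have hq3 : q ^ 3 - q = 4 * x * (x + 1) * q := by
      have : q ^ 3 = 4 * x * (x + 1) * q + q := by rw [hq]; ring
      rw [this, Nat.add_sub_cancel]
    rw [hq3, hi, hr, hr2]
    have : 8 * (x * q * m ^ 2 * a) = 4 * x * q * m ^ 2 * (2 * a) := by ring
    rw [this, hm]; ring

open Classical in
/-- The `PSL(2,q)`-like case `ε = (1, 1, -1)`. -/
theorem klein_order {g₀ : ℕ} (h : Hyp G g₀) (P : Sylow 2 G)
    (D : KData M J χ₁ χ₂ χ₃ ε₁ ε₂ ε₃) (hprod : ε₁ * ε₂ * ε₃ = -1) (hε₃ : ε₃ = -1) :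
    ∃ m : ℕ, 4 * Nat.card (Subgroup.centralizer ({J} : Set G))
        = m * Nat.card (Subgroup.centralizer ((P : Subgroup G) : Set G))
          * (charDegree (χ₃ : G → ℂ) + 1) ∧
      8 * Nat.card G = m ^ 3 * Nat.card (Subgroup.centralizer ((P : Subgroup G) : Set G))
        * (charDegree (χ₃ : G → ℂ) ^ 3 - charDegree (χ₃ : G → ℂ)) := by
  obtain ⟨N, h1, h2, h3⟩ := core h P D
  have hx₁ := Cfsg.Agent.H81.irr_charDegree χ₁
  have hx₂ := Cfsg.Agent.H81.irr_charDegree χ₂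
  have hx₃ := Cfsg.Agent.H81.irr_charDegree χ₃
  have hG0 : (Nat.card G : ℂ) ≠ 0 := by exact_mod_cast Nat.card_pos.ne'
  -- `ε₁ = ε₂ = 1`
  have he : ε₁ = 1 ∧ ε₂ = 1 := by
    subst hε₃
    have hx₁' : (1 : ℚ) ≤ (charDegree (χ₁ : G → ℂ) : ℚ) := by exact_mod_cast hx₁.2
    have hx₂' : (1 : ℚ) ≤ (charDegree (χ₂ : G → ℂ) : ℚ) := by exact_mod_cast hx₂.2
    have hx₃' : (1 : ℚ) ≤ (charDegree (χ₃ : G → ℂ) : ℚ) := by exact_mod_cast hx₃.2
    rcases D.hε₁ with e1 | e1 <;> rcases D.hε₂ with e2 | e2 <;> subst e1 <;> subst e2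
    · exact ⟨rfl, rfl⟩
    · norm_num at hprod
    · norm_num at hprod
    · exfalso
      push_cast at h3
      linarith
  obtain ⟨rfl, rfl⟩ := he
  subst hε₃
  -- the class size of `J`
  have hidx : (Subgroup.centralizer ({J} : Set G)).index
      * Nat.card (Subgroup.centralizer ({J} : Set G)) = Nat.card G := Subgroup.index_mul_card _
  have hJ1 : (χ₁ : G → ℂ) J = 1 := by rw [D.hv₁]; simp
  have hJ2 : (χ₂ : G → ℂ) J = 1 := by rw [D.hv₂]; simp
  have hJ3 : (χ₃ : G → ℂ) J = -1 := by rw [D.hv₃]; simp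
  have hd1 := charDegree_dvd_index χ₁ J (Or.inl hJ1)
  have hd2 := charDegree_dvd_index χ₂ J (Or.inl hJ2)
  have hd3 := charDegree_dvd_index χ₃ J (Or.inr hJ3)
  have hiodd : Odd (Subgroup.centralizer ({J} : Set G)).index := by
    have hK := card_Kf h J J D.hJ D.hJ
    have hidx' := hidx
    rw [← hK, h.2.1] at hidx'
    have : (Subgroup.centralizer ({J} : Set G)).index * (Kf J).card = g₀ := by
      have e : 4 * ((Subgroup.centralizer ({J} : Set G)).index * (Kf J).card) = 4 * g₀ := by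
        rw [← hidx']; ring
      exact Nat.eq_of_mul_eq_mul_left (by norm_num) e
    exact Odd.of_dvd_nat h.1 ⟨_, this.symm⟩
  have ho1 : Odd (charDegree (χ₁ : G → ℂ)) := Odd.of_dvd_nat hiodd hd1
  have ho2 : Odd (charDegree (χ₂ : G → ℂ)) := Odd.of_dvd_nat hiodd hd2
  have ho3 : Odd (charDegree (χ₃ : G → ℂ)) := Odd.of_dvd_nat hiodd hd3
  -- indicators of odd-degree characters
  have hind : ∀ χ : IrrCharacter G, Odd (charDegree (χ : G → ℂ)) →
      Cfsg.Agent.H78.indicator (χ : G → ℂ) = 0 ∨ Cfsg.Agent.H78.indicator (χ : G → ℂ) = 1 := by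
    intro χ hodd
    by_cases hreal : ∀ g : G, ((χ : G → ℂ) g).im = 0
    · right
      exact Cfsg.Agent.H78.irr_indicator_eq_one_of_odd (χ : G → ℂ) χ.2 hreal _
        (Cfsg.Agent.H81.irr_charDegree χ).1 hodd
    · left
      push Not at hreal
      obtain ⟨s, hs⟩ := hreal
      exact Cfsg.Agent.H78.irr_indicator_eq_zero_of_not_real χ s hs
  have hfs := D.fs_relation h
  push_cast at hfs
  -- `χ₁` is not real
  have hnr : ∃ s : G, ((χ₁ : G → ℂ) s).im ≠ 0 := by
    by_contra hcon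
    push Not at hcon
    have hν₁ : Cfsg.Agent.H78.indicator (χ₁ : G → ℂ) = 1 :=
      Cfsg.Agent.H78.irr_indicator_eq_one_of_odd (χ₁ : G → ℂ) χ₁.2 hcon _ hx₁.1 ho1
    rw [hν₁] at hfs
    rcases hind χ₂ ho2 with e2 | e2 <;> rcases hind χ₃ ho3 with e3 | e3 <;>
      rw [e2, e3] at hfs <;> norm_num at hfs
  obtain ⟨s, hs⟩ := hnr
  -- the conjugate of `χ₁` lies in the block
  have h4S := card_Sing' h J D.hJ
  have hψ : irrConj χ₁ ∈ principalBlock M G := by
    by_contra hψ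
    have hin := Phi_inner M J (irrConj χ₁)
    rw [if_neg hψ, mul_zero] at hin
    have hin1 := Phi_inner M J χ₁
    have hχ₁B : χ₁ ∈ principalBlock M G := (D.mem_block χ₁).2 (Or.inr (Or.inl rfl))
    rw [if_pos hχ₁B, hJ1, mul_one] at hin1
    have hc := congrArg conj hin1
    rw [map_sum, Complex.conj_natCast] at hc
    have : ∑ g : G, conj (Phi M J g * conj ((χ₁ : G → ℂ) g))
        = ∑ g : G, Phi M J g * conj (((irrConj χ₁ : IrrCharacter G) : G → ℂ) g) := by
      apply Finset.sum_congr rfl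
      intro g _
      rw [map_mul]
      have hreal : conj (Phi M J g) = Phi M J g := by
        by_cases hg : 2 ∣ orderOf g
        · rw [D.Phi_singular h4S g hg]; exact map_ofNat _ 4
        · rw [D.Phi_regular g hg, map_zero]
      rw [hreal]
      rfl
    rw [this, hin] at hc
    exact hG0 hc.symm
  have hψJ : ((irrConj χ₁ : IrrCharacter G) : G → ℂ) J = 1 := by
    show conj ((χ₁ : G → ℂ) J) = 1
    rw [hJ1, map_one]
  have hψ2 : irrConj χ₁ = χ₂ := by
    rcases (D.mem_block _).1 hψ with e | e | e | e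
    · exfalso
      apply D.hd1
      funext g
      have h5 : conj ((χ₁ : G → ℂ) g) = 1 :=
        congrArg (fun φ : IrrCharacter G => (φ : G → ℂ) g) e
      have h6 := congrArg conj h5
      rw [Complex.conj_conj, map_one] at h6
      exact h6
    · exfalso
      apply hs
      have h5 : conj ((χ₁ : G → ℂ) s) = (χ₁ : G → ℂ) s :=
        congrArg (fun φ : IrrCharacter G => (φ : G → ℂ) s) e
      exact Complex.conj_eq_iff_im.mp h5
    · exact e
    · exfalso
      rw [e, hJ3] at hψJ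
      norm_num at hψJ
  have hx12 : charDegree (χ₂ : G → ℂ) = charDegree (χ₁ : G → ℂ) := by
    have h5 : (χ₂ : G → ℂ) 1 = conj ((χ₁ : G → ℂ) 1) := by rw [← hψ2]; rfl
    rw [hx₁.1, hx₂.1, Complex.conj_natCast] at h5
    exact_mod_cast h5
  -- arithmetic
  rw [hx12] at h2 h3
  have hq' : (charDegree (χ₃ : G → ℂ) : ℚ) = 2 * (charDegree (χ₁ : G → ℂ) : ℚ) + 1 := by
    push_cast at h3
    linarith
  have hq : charDegree (χ₃ : G → ℂ) = 2 * charDegree (χ₁ : G → ℂ) + 1 := by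
    exact_mod_cast hq'
  have hN : N * (2 * charDegree (χ₁ : G → ℂ) * charDegree (χ₃ : G → ℂ))
      = Nat.card G ^ 2 * (charDegree (χ₁ : G → ℂ) + 1) ^ 2 := by
    have hxq : (0 : ℚ) < (charDegree (χ₁ : G → ℂ) : ℚ) := by exact_mod_cast hx₁.2
    have hqq : (0 : ℚ) < (charDegree (χ₃ : G → ℂ) : ℚ) := by exact_mod_cast hx₃.2
    have : (N : ℚ) * (2 * (charDegree (χ₁ : G → ℂ) : ℚ) * (charDegree (χ₃ : G → ℂ) : ℚ))
        = (Nat.card G : ℚ) ^ 2 * ((charDegree (χ₁ : G → ℂ) : ℚ) + 1) ^ 2 := by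
      rw [h2]
      push_cast
      field_simp
      rw [hq']
      ring
    exact_mod_cast this
  exact final_arith (Nat.card G) _ _ _ _ _ N Nat.card_pos Nat.card_pos Nat.card_pos hx₁.2 hq
    hidx.symm h1 hN hd1 hd3

end Cfsg.Agent.H78.Klein
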