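import Cfsg.Agent.H78.Klein5
import Cfsg.Agent.H78.Constancy
import Cfsg.Agent.S0944
import Cfsg.Agent.H81.Rank

/-!
# Klein four Sylow subgroups with one class of involutions: the principal block (helper78)

The principal `2`-block consists of exactly four characters, each taking the value `±1` on the
involutions; its `2`-regular rank is `3`.
-/

set_option autoImplicit false
set_option linter.unusedSectionVars false
set_option linter.style.haveILetI false

namespace Cfsg.Agent.H78.Klein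

open Cfsg Cfsg.Agent.H20 Cfsg.Agent.H4 Cfsg.Agent.H80 Finset

open scoped ComplexConjugate

universe u

variable {G : Type u} [Group G] [Fintype G] [DecidableEq G]

attribute [local instance] Cfsg.Agent.H4.fintypeIrr

variable {M : Ideal AlgInt} {J : G} {χ₁ χ₂ χ₃ : IrrCharacter G} {ε₁ ε₂ ε₃ : ℤ}

/-- Principal block characters are constant on the `2`-singular elements. -/
theorem principal_sing_const {g₀ : ℕ} (h : Hyp G g₀) (hM : IsPModular 2 M) (J : G)
    (hJ : orderOf J = 2) (χ : IrrCharacter G) (hχ : χ ∈ principalBlock M G) (g : G)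
    (hg : 2 ∣ orderOf g) : (χ : G → ℂ) g = (χ : G → ℂ) J := by
  haveI : Fact (Nat.Prime 2) := ⟨Nat.prime_two⟩
  have E := sq_eq_one h
  have hz : orderOf (invPart g) = 2 := orderOf_invPart hg
  have hy : Odd (orderOf (invPart g * g)) := odd_invPart_mul E hg
  have hcomm : (invPart g * g) * invPart g = invPart g * (invPart g * g) := by
    have := invPart_comm g g rfl
    rw [mul_assoc, this]
  obtain ⟨K, Q, -, hK1, hK2, -⟩ := exists_K_involution h (invPart g) hz
  haveI hn : (K.subgroupOf (Subgroup.centralizer ({invPart g} : Set G))).Normal := by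
    constructor
    intro n hn c
    rw [Subgroup.mem_subgroupOf] at hn ⊢
    rw [hK1] at hn ⊢
    refine ⟨?_, ?_⟩
    · simp only [Subgroup.coe_mul, InvMemClass.coe_inv]
      rw [orderOf_conj']
      exact hn.1
    · exact Subgroup.mem_centralizer_singleton_iff.mp (c * n * c⁻¹).2
  have hodd : (Nat.card (K.subgroupOf (Subgroup.centralizer ({invPart g} : Set G)))).Coprime 2 := by
    rw [Nat.coprime_two_right]
    by_contra hne
    rw [Nat.not_odd_iff_even, even_iff_two_dvd] at hne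
    obtain ⟨k, hk⟩ := exists_prime_orderOf_dvd_card' 2 hne
    have hk1 : (k : Subgroup.centralizer ({invPart g} : Set G)) ∈
        K.subgroupOf (Subgroup.centralizer ({invPart g} : Set G)) := k.2
    rw [Subgroup.mem_subgroupOf, hK1] at hk1
    have hk2 : orderOf (((k : Subgroup.centralizer ({invPart g} : Set G)) : G)) = 2 := by
      rw [Subgroup.orderOf_coe, Subgroup.orderOf_coe, hk]
    rw [hk2] at hk1
    exact not_odd_two hk1.1
  have hyC : invPart g * g ∈ Subgroup.centralizer ({invPart g} : Set G) :=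
    Subgroup.mem_centralizer_singleton_iff.mpr hcomm
  have hyK : (⟨invPart g * g, hyC⟩ : Subgroup.centralizer ({invPart g} : Set G)) ∈
      K.subgroupOf (Subgroup.centralizer ({invPart g} : Set G)) := by
    rw [Subgroup.mem_subgroupOf, hK1]
    exact ⟨hy, hcomm⟩
  have key := Cfsg.Agent.H78.principal_const_on_core 2 hM (invPart g) (k := 1)
    (by rw [hz, pow_one]) _ hodd χ hχ ⟨invPart g * g, hyC⟩ hyK
  have key' : (χ : G → ℂ) (invPart g * (invPart g * g)) = (χ : G → ℂ) (invPart g) := key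
  rw [sq_cancel (sq_of_orderOf_eq_two hz)] at key'
  obtain ⟨a, ha⟩ := conj_of_involutions h J (invPart g) hJ hz
  rw [key', ← ha]
  exact irr_isClassFunction χ J a

omit [DecidableEq G] in
/-- Values at involutions are real. -/
theorem conj_val_involution (J : G) (hJ : orderOf J = 2) (φ : IrrCharacter G) :
    conj ((φ : G → ℂ) J) = (φ : G → ℂ) J := by
  obtain ⟨n, hn, -⟩ := Cfsg.Agent.S0944.result φ J hJ
  rw [hn]
  exact map_intCast (starRingEnd ℂ) n

theorem Phi_regular' (hM : IsPModular 2 M) (J : G) (hJ : orderOf J = 2) (x : G)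
    (hx : ¬ 2 ∣ orderOf x) : Phi M J x = 0 := by
  classical
  have h := block_kernel_eq_zero hM (trivChar G) x J (by rw [hJ]; simp [hx])
  have h2 := congrArg conj h
  rw [map_sum, map_zero] at h2
  rw [← h2]
  unfold Phi
  apply Finset.sum_congr rfl
  intro φ _
  by_cases hφ : φ ∈ principalBlock M G
  · have hφ' : φ ∈ blockOf M ((trivChar G : IrrCharacter G) : G → ℂ) := hφ
    rw [if_pos hφ, if_pos hφ', map_mul, Complex.conj_conj, conj_val_involution J hJ]
  · have hφ' : φ ∉ blockOf M ((trivChar G : IrrCharacter G) : G → ℂ) := hφ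
    rw [if_neg hφ, if_neg hφ', map_zero]

open Classical in
/-- `∑_{φ ∈ B₀} φ(J)² = 4`. -/
theorem sum_sq_eq_four {g₀ : ℕ} (h : Hyp G g₀) (hM : IsPModular 2 M) (J : G)
    (hJ : orderOf J = 2) :
    ∑ φ : IrrCharacter G,
      (if φ ∈ principalBlock M G then (φ : G → ℂ) J * (φ : G → ℂ) J else 0) = 4 := by
  have hMp := isPrime_of_isPModular hM
  obtain ⟨c, hc⟩ : ∃ c : ℂ, c = ∑ φ : IrrCharacter G,
      (if φ ∈ principalBlock M G then (φ : G → ℂ) J * (φ : G → ℂ) J else 0) := ⟨_, rfl⟩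
  rw [← hc]
  have hsing : ∀ g ∈ Sing G, Phi M J g = c := by
    intro g hg
    rw [hc]
    unfold Phi
    apply Finset.sum_congr rfl
    intro φ _
    by_cases hφ : φ ∈ principalBlock M G
    · rw [if_pos hφ, if_pos hφ, principal_sing_const h hM J hJ φ hφ g (mem_Sing.mp hg)]
    · rw [if_neg hφ, if_neg hφ]
  have h1 := Phi_inner M J (trivChar G)
  rw [if_pos (trivChar_mem_principalBlock hMp)] at h1
  simp only [trivChar_apply, map_one, mul_one] at h1
  rw [← Finset.sum_subset (Finset.subset_univ (Sing G))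
    (fun x _ hx => Phi_regular' hM J hJ x (by rwa [mem_Sing] at hx)),
    Finset.sum_congr rfl hsing, Finset.sum_const, nsmul_eq_mul] at h1
  have h4S := card_Sing' h J hJ
  have h2 : (Nat.card G : ℂ) = 4 * ((Sing G).card : ℂ) := by
    rw [Nat.card_eq_fintype_card, ← h4S]; push_cast; ring
  rw [h2] at h1
  have hS : ((Sing G).card : ℂ) ≠ 0 := by
    have : (Sing G).card ≠ 0 := by
      intro h0
      rw [h0] at h4S
      exact Fintype.card_ne_zero h4S.symm
    exact_mod_cast this
  have h3 : ((Sing G).card : ℂ) * c = ((Sing G).card : ℂ) * 4 := by rw [h1]; ring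
  exact mul_left_cancel₀ hS h3

/-- Principal block characters do not vanish at involutions. -/
theorem principal_val_ne_zero {g₀ : ℕ} (h : Hyp G g₀) (hM : IsPModular 2 M) (J : G)
    (hJ : orderOf J = 2) (φ : IrrCharacter G) (hφ : φ ∈ principalBlock M G) :
    (φ : G → ℂ) J ≠ 0 := by
  intro h0
  have h1 : MemLocalIdeal M (centralChar (fun _ : G => (1 : ℂ)) J - centralChar (φ : G → ℂ) J) :=
    hφ J
  rw [centralChar_const_one] at h1
  have h2 : centralChar (φ : G → ℂ) J = 0 := by
    unfold centralChar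
    rw [h0, mul_zero, zero_div]
  rw [h2, sub_zero, memLocalIdeal_natCast_iff hM] at h1
  have h3 := (Subgroup.centralizer ({J} : Set G)).index_mul_card
  rw [← card_Kf h J J hJ hJ, h.2.1] at h3
  obtain ⟨m, hm⟩ := h1
  obtain ⟨r, hr⟩ := h.1
  rw [hm, hr] at h3
  have h4 : 8 * (m * (Kf J).card) = 8 * r + 4 := by
    calc 8 * (m * (Kf J).card) = 2 * m * (4 * (Kf J).card) := by ring
      _ = 4 * (2 * r + 1) := h3
      _ = 8 * r + 4 := by ring
  omega

open Classical in
/-- The principal block is `{1, χ₁, χ₂, χ₃}` with `χᵢ(J) = ±1`. -/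
theorem exists_KData {g₀ : ℕ} (h : Hyp G g₀) (hM : IsPModular 2 M) (J : G)
    (hJ : orderOf J = 2) :
    ∃ (χ₁ χ₂ χ₃ : IrrCharacter G) (ε₁ ε₂ ε₃ : ℤ), KData M J χ₁ χ₂ χ₃ ε₁ ε₂ ε₃ := by
  have hMp := isPrime_of_isPModular hM
  choose n hn hn2 using fun φ : IrrCharacter G => Cfsg.Agent.S0944.result φ J hJ
  obtain ⟨S, hS⟩ : ∃ S : Finset (IrrCharacter G),
      S = univ.filter (fun φ : IrrCharacter G => φ ∈ principalBlock M G) := ⟨_, rfl⟩
  have hsum : ∑ φ ∈ S, (n φ) ^ 2 = 4 := by
    have h1 := sum_sq_eq_four h hM J hJ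
    rw [← Finset.sum_filter, ← hS] at h1
    have h2 : ((∑ φ ∈ S, (n φ) ^ 2 : ℤ) : ℂ) = ((4 : ℤ) : ℂ) := by
      push_cast
      rw [← h1]
      apply Finset.sum_congr rfl
      intro φ _
      rw [hn φ]; ring
    exact_mod_cast h2
  have htriv : trivChar G ∈ S := by
    rw [hS, mem_filter]
    exact ⟨mem_univ _, trivChar_mem_principalBlock hMp⟩
  have hn1 : n (trivChar G) = 1 := by
    have h1 := hn (trivChar G)
    rw [trivChar_apply] at h1
    exact_mod_cast h1.symm
  rw [← Finset.add_sum_erase S _ htriv, hn1] at hsum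
  have hsum' : ∑ φ ∈ S.erase (trivChar G), (n φ) ^ 2 = 3 := by linarith
  have hne : ∀ φ ∈ S.erase (trivChar G), n φ ≠ 0 := by
    intro φ hφ h0
    have hφS := (Finset.mem_erase.mp hφ).2
    rw [hS, mem_filter] at hφS
    apply principal_val_ne_zero h hM J hJ φ hφS.2
    rw [hn φ, h0]; simp
  have hle : ∀ φ ∈ S.erase (trivChar G), (n φ) ^ 2 = 1 := by
    intro φ hφ
    by_contra hcon
    have h2 : 4 ≤ (n φ) ^ 2 := by
      have h0 := hne φ hφ
      have h5 : n φ ≤ -2 ∨ 2 ≤ n φ ∨ n φ = 1 ∨ n φ = -1 := by omega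
      rcases h5 with h5 | h5 | h5 | h5
      · nlinarith
      · nlinarith
      · exact absurd (by rw [h5]; norm_num) hcon
      · exact absurd (by rw [h5]; norm_num) hcon
    have h3 := Finset.single_le_sum (f := fun φ => (n φ) ^ 2) (fun ψ _ => sq_nonneg (n ψ)) hφ
    have h4 : (n φ) ^ 2 ≤ ∑ φ ∈ S.erase (trivChar G), (n φ) ^ 2 := h3
    linarith
  have hcard : (S.erase (trivChar G)).card = 3 := by
    have h1 : ∑ φ ∈ S.erase (trivChar G), (n φ) ^ 2 = ∑ φ ∈ S.erase (trivChar G), (1 : ℤ) :=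
      Finset.sum_congr rfl hle
    rw [hsum', Finset.sum_const, nsmul_eq_mul, mul_one] at h1
    exact_mod_cast h1.symm
  obtain ⟨χ₁, χ₂, χ₃, h12, h13, h23, hT⟩ := Finset.card_eq_three.mp hcard
  have hmem : ∀ φ, φ ∈ S.erase (trivChar G) ↔ φ = χ₁ ∨ φ = χ₂ ∨ φ = χ₃ := by
    intro φ
    rw [hT]
    simp
  have hval : ∀ φ ∈ S.erase (trivChar G), n φ = 1 ∨ n φ = -1 := by
    intro φ hφ
    have h1 := hle φ hφ
    have h4 : (n φ - 1) * (n φ + 1) = 0 := by linear_combination h1
    rcases mul_eq_zero.mp h4 with h5 | h5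
    · left; omega
    · right; omega
  have hm1 := (hmem χ₁).mpr (Or.inl rfl)
  have hm2 := (hmem χ₂).mpr (Or.inr (Or.inl rfl))
  have hm3 := (hmem χ₃).mpr (Or.inr (Or.inr rfl))
  refine ⟨χ₁, χ₂, χ₃, n χ₁, n χ₂, n χ₃, ⟨hM, hJ, ?_, ?_, ?_, ?_, h12, h13, h23, hval χ₁ hm1,
    hval χ₂ hm2, hval χ₃ hm3, hn χ₁, hn χ₂, hn χ₃⟩⟩
  · ext φ
    rw [Set.mem_ofPred_eq]
    have e1 : ((φ : G → ℂ) = fun _ => 1) ↔ φ = trivChar G :=
      ⟨fun h => Subtype.ext h, fun h => by rw [h]; rfl⟩
    rw [e1, ← hmem φ, Finset.mem_erase, hS, mem_filter]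
    constructor
    · intro hφ
      by_cases h1 : φ = trivChar G
      · left; exact h1
      · right; exact ⟨h1, mem_univ _, hφ⟩
    · rintro (h1 | ⟨-, -, h1⟩)
      · rw [h1]; exact trivChar_mem_principalBlock hMp
      · exact h1
  · intro hc
    exact (Finset.mem_erase.mp hm1).1 (Subtype.ext hc)
  · intro hc
    exact (Finset.mem_erase.mp hm2).1 (Subtype.ext hc)
  · intro hc
    exact (Finset.mem_erase.mp hm3).1 (Subtype.ext hc)

open Classical in
/-- The `2`-regular rank of the principal block is `3`. -/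
theorem blockRank_eq_three {g₀ : ℕ} (h : Hyp G g₀) (hM : IsPModular 2 M) (J : G)
    (hJ : orderOf J = 2) : blockRank 2 (principalBlock M G) = 3 := by
  obtain ⟨χ₁, χ₂, χ₃, ε₁, ε₂, ε₃, D⟩ := exists_KData h hM J hJ
  have hMp := isPrime_of_isPModular hM
  have h4S := card_Sing' h J hJ
  have hr : (blockRank 2 (principalBlock M G) : ℂ) = ∑ χ : IrrCharacter G,
      if χ ∈ principalBlock M G then classInner (pRegularPart 2 (χ : G → ℂ)) (χ : G → ℂ)
        else 0 := Cfsg.Agent.H81.blockRank_eq_sum (p := 2) hM (trivChar G)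
  have hval : ∀ χ ∈ principalBlock M G,
      classInner (pRegularPart 2 (χ : G → ℂ)) (χ : G → ℂ) = 3 / 4 := by
    intro χ hχ
    unfold classInner
    have e1 : ∀ g : G, pRegularPart 2 (χ : G → ℂ) g * conj ((χ : G → ℂ) g)
        = (χ : G → ℂ) g * conj ((χ : G → ℂ) g) - (if g ∈ Sing G then 1 else 0) := by
      intro g
      by_cases hg : 2 ∣ orderOf g
      · rw [Cfsg.Agent.H81.pRegularPart_of_dvd 2 _ hg, if_pos (mem_Sing.mpr hg),
          principal_sing_const h hM J hJ χ hχ g hg]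
        rcases D.val_J χ hχ with h1 | h1 <;> rw [h1] <;> simp
      · rw [Cfsg.Agent.H81.pRegularPart_of_not_dvd 2 _ hg, if_neg (by rwa [mem_Sing]), sub_zero]
    rw [Finset.sum_congr rfl (fun g _ => e1 g), Finset.sum_sub_distrib, irr_sum_mul_conj,
      if_pos rfl, mul_one, Finset.sum_ite_mem, Finset.univ_inter, Finset.sum_const, nsmul_eq_mul,
      mul_one]
    have h2 : (Nat.card G : ℂ) = 4 * ((Sing G).card : ℂ) := by
      rw [Nat.card_eq_fintype_card, ← h4S]; push_cast; ring
    have hS : ((Sing G).card : ℂ) ≠ 0 := by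
      have h3 : (Sing G).card ≠ 0 := by
        intro h0
        rw [h0] at h4S
        exact Fintype.card_ne_zero h4S.symm
      exact_mod_cast h3
    rw [h2]
    field_simp
    ring
  rw [D.blockSum, hval _ (trivChar_mem_principalBlock hMp),
    hval χ₁ ((D.mem_block χ₁).mpr (Or.inr (Or.inl rfl))),
    hval χ₂ ((D.mem_block χ₂).mpr (Or.inr (Or.inr (Or.inl rfl)))),
    hval χ₃ ((D.mem_block χ₃).mpr (Or.inr (Or.inr (Or.inr rfl))))] at hr
  have h5 : (blockRank 2 (principalBlock M G) : ℂ) = ((3 : ℕ) : ℂ) := by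
    rw [hr]; norm_num
  exact_mod_cast h5

omit [Fintype G] [DecidableEq G] in
/-- A Sylow `2`-subgroup of order `4` and exponent `2` together with a single class of
involutions gives the standing hypotheses. -/
theorem hyp_of_sylow [Finite G] (P : Sylow 2 G) (hP : Nat.card (P : Subgroup G) = 4)
    (hexp : ∀ x : (P : Subgroup G), x * x = 1)
    (hone : ∀ s t : G, orderOf s = 2 → orderOf t = 2 → IsConj s t) :
    Hyp G (P : Subgroup G).index ∧ ∃ J : G, orderOf J = 2 := by
  haveI : Fact (Nat.Prime 2) := ⟨Nat.prime_two⟩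
  have hidx : ¬ 2 ∣ (P : Subgroup G).index := P.not_dvd_index
  have hcard : Nat.card G = 4 * (P : Subgroup G).index := by
    rw [← hP]; exact (Subgroup.card_mul_index _).symm
  haveI : Fintype (P : Subgroup G) := Fintype.ofFinite _
  have h3 : 2 < Fintype.card (P : Subgroup G) := by
    rw [← Nat.card_eq_fintype_card, hP]; norm_num
  obtain ⟨x, y, z, hxy, hxz, hyz⟩ := Fintype.two_lt_card_iff.mp h3
  obtain ⟨a, b, ha, hb, hab⟩ : ∃ a b : (P : Subgroup G), a ≠ 1 ∧ b ≠ 1 ∧ a ≠ b := by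
    by_cases hx : x = 1
    · exact ⟨y, z, fun h => hxy (hx.trans h.symm), fun h => hxz (hx.trans h.symm), hyz⟩
    · by_cases hy : y = 1
      · exact ⟨x, z, hx, fun h => hyz (hy.trans h.symm), hxz⟩
      · exact ⟨x, y, hx, hy, hxy⟩
  have hord : ∀ c : (P : Subgroup G), c ≠ 1 → orderOf (c : G) = 2 := by
    intro c hc
    apply orderOf_eq_prime
    · rw [pow_two]
      exact congrArg Subtype.val (hexp c)
    · intro h
      exact hc (Subtype.ext h)
  refine ⟨⟨Nat.not_even_iff_odd.mp (fun h => hidx (even_iff_two_dvd.mp h)), hcard, ?_⟩,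
    (a : G), hord a ha⟩
  rintro ⟨N, hN, hNc⟩
  obtain ⟨g, hg⟩ := isConj_iff.mp (hone a b (hord a ha) (hord b hb))
  have hpos : 0 < (P : Subgroup G).index :=
    Nat.pos_of_ne_zero (by intro h0; rw [h0] at hidx; exact hidx (dvd_zero 2))
  have hq : Nat.card (G ⧸ N) = 2 ^ 2 := by
    have h1 := N.index_mul_card
    rw [hNc, hcard, Subgroup.index_eq_card] at h1
    exact Nat.eq_of_mul_eq_mul_right hpos h1
  have hcomm := (IsPGroup.isMulCommutative_of_card_eq_prime_sq (p := 2) (G := G ⧸ N)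
    hq).is_comm.comm
  have hmem : (b : G) * (a : G)⁻¹ ∈ N := by
    rw [← hg, ← QuotientGroup.eq_one_iff]
    simp only [QuotientGroup.mk_mul, QuotientGroup.mk_inv]
    rw [hcomm (g : G ⧸ N) ((a : G) : G ⧸ N)]
    group
  have hc : b * a⁻¹ ≠ 1 := by
    intro h
    exact hab (mul_inv_eq_one.mp h).symm
  have h2 := hord (b * a⁻¹) hc
  have h4 : orderOf ((b : G) * (a : G)⁻¹) ∣ Nat.card N := Subgroup.orderOf_dvd_natCard N hmem
  have h5 : ((b * a⁻¹ : (P : Subgroup G)) : G) = (b : G) * (a : G)⁻¹ := rfl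
  rw [← h5, h2, hNc] at h4
  exact hidx h4

end Cfsg.Agent.H78.Klein
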