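import Cfsg.Agent.H78.Klein6
import Cfsg.Agent.H4.Chars

/-!
# Klein four Sylow subgroups with one class of involutions: the principal block, normal form

`B₀ = {1, ζ₂, ζ₃, ζ₄}` with values `1, 1, ε, -1` on the involutions, degrees congruent to these
values modulo `4`, and `1 + ζ₂ + ε ζ₃ - ζ₄ = 0` on the elements of odd order.
-/

set_option autoImplicit false
set_option linter.unusedSectionVars false
set_option linter.style.haveILetI false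

namespace Cfsg.Agent.H78.Klein

open Cfsg Cfsg.Agent.H20 Cfsg.Agent.H4 Cfsg.Agent.H80 Finset

open scoped ComplexConjugate

universe u

variable {G : Type u} [Group G] [Fintype G] [DecidableEq G]

attribute [local instance] Cfsg.Agent.H4.fintypeIrr

variable {M : Ideal AlgInt} {J : G} {χ₁ χ₂ χ₃ : IrrCharacter G} {ε₁ ε₂ ε₃ : ℤ}

theorem KData.swap12 (D : KData M J χ₁ χ₂ χ₃ ε₁ ε₂ ε₃) : KData M J χ₂ χ₁ χ₃ ε₂ ε₁ ε₃ :=
  ⟨D.hM, D.hJ, by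
    rw [D.hB]
    ext φ
    simp only [Set.mem_ofPred_eq]
    tauto, D.hd2, D.hd1, D.hd3, D.h12.symm, D.h23, D.h13, D.hε₂, D.hε₁, D.hε₃, D.hv₂, D.hv₁,
    D.hv₃⟩

theorem KData.swap23 (D : KData M J χ₁ χ₂ χ₃ ε₁ ε₂ ε₃) : KData M J χ₁ χ₃ χ₂ ε₁ ε₃ ε₂ :=
  ⟨D.hM, D.hJ, by
    rw [D.hB]
    ext φ
    simp only [Set.mem_ofPred_eq]
    tauto, D.hd1, D.hd3, D.hd2, D.h13, D.h12, D.h23.symm, D.hε₁, D.hε₃, D.hε₂, D.hv₁, D.hv₃,
    D.hv₂⟩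

/-- The signs are neither all `+1` nor all `-1`. -/
theorem KData.signs (D : KData M J χ₁ χ₂ χ₃ ε₁ ε₂ ε₃) :
    ¬ (ε₁ = 1 ∧ ε₂ = 1 ∧ ε₃ = 1) ∧ ¬ (ε₁ = -1 ∧ ε₂ = -1 ∧ ε₃ = -1) := by
  have h := D.degree_eq
  rw [(Cfsg.Agent.H81.irr_charDegree χ₁).1, (Cfsg.Agent.H81.irr_charDegree χ₂).1,
    (Cfsg.Agent.H81.irr_charDegree χ₃).1] at h
  have h1 := (Cfsg.Agent.H81.irr_charDegree χ₁).2
  have h2 := (Cfsg.Agent.H81.irr_charDegree χ₂).2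
  have h3 := (Cfsg.Agent.H81.irr_charDegree χ₃).2
  have hZ : (1 : ℤ) + ε₁ * (charDegree (χ₁ : G → ℂ) : ℤ) + ε₂ * (charDegree (χ₂ : G → ℂ) : ℤ)
      + ε₃ * (charDegree (χ₃ : G → ℂ) : ℤ) = 0 := by exact_mod_cast h
  constructor
  · rintro ⟨rfl, rfl, rfl⟩
    omega
  · rintro ⟨rfl, rfl, rfl⟩
    omega

/-- Normal form: signs `(1, ε, -1)`. -/
theorem KData.exists_normalized (D : KData M J χ₁ χ₂ χ₃ ε₁ ε₂ ε₃) :
    ∃ (ζ₂ ζ₃ ζ₄ : IrrCharacter G) (ε : ℤ), KData M J ζ₂ ζ₃ ζ₄ 1 ε (-1) := by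
  have hs := D.signs
  rcases D.hε₁ with h1 | h1 <;> rcases D.hε₂ with h2 | h2 <;> rcases D.hε₃ with h3 | h3 <;>
    subst h1 <;> subst h2 <;> subst h3
  · exact absurd ⟨rfl, rfl, rfl⟩ hs.1
  · exact ⟨_, _, _, _, D⟩
  · exact ⟨_, _, _, _, D.swap23⟩
  · exact ⟨_, _, _, _, D⟩
  · exact ⟨_, _, _, _, D.swap12.swap23⟩
  · exact ⟨_, _, _, _, D.swap12⟩
  · exact ⟨_, _, _, _, D.swap23.swap12⟩
  · exact absurd ⟨rfl, rfl, rfl⟩ hs.2

omit [Fintype G] [DecidableEq G] in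
/-- `χ(1) + 3 χ(J) ≡ 0 (mod 4)` when the three involutions of a four-group are conjugate to
`J`. -/
theorem degree_mod_four [Finite G] (P : Subgroup G) (hP : Nat.card P = 4)
    (J : G) (hconj : ∀ x : P, x ≠ 1 → IsConj J (x : G))
    (χ : IrrCharacter G) (n : ℤ) (hn : (χ : G → ℂ) J = n) :
    (4 : ℤ) ∣ (charDegree (χ : G → ℂ) : ℤ) + 3 * n := by
  classical
  haveI : Fintype P := Fintype.ofFinite P
  have hval : ∀ x : P, x ≠ 1 → (χ : G → ℂ) (x : G) = (χ : G → ℂ) J := by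
    intro x hx
    obtain ⟨c, hc⟩ := isConj_iff.mp (hconj x hx)
    rw [← hc]
    exact irr_isClassFunction χ J c
  have hsum : ∑ x : P, (χ : G → ℂ) (x : G) = (χ : G → ℂ) 1 + 3 * (χ : G → ℂ) J := by
    rw [← Finset.add_sum_erase Finset.univ _ (Finset.mem_univ (1 : P))]
    congr 1
    rw [Finset.sum_congr rfl (fun x hx => hval x (Finset.ne_of_mem_erase hx)), Finset.sum_const,
      Finset.card_erase_of_mem (Finset.mem_univ _), Finset.card_univ, ← Nat.card_eq_fintype_card,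
      hP]
    simp
  obtain ⟨m, hm⟩ := classInner_isCharacter_nat
    (isCharacter_restrict P (isCharacter_of_isIrrCharacter χ.2))
    (isCharacter_of_isIrrCharacter (trivChar P).2)
  unfold classInner at hm
  simp only [trivChar_apply, map_one, mul_one] at hm
  rw [hsum, hP, (Cfsg.Agent.H81.irr_charDegree χ).1, hn] at hm
  have h4 : ((charDegree (χ : G → ℂ) : ℂ) + 3 * (n : ℂ)) = 4 * (m : ℂ) := by
    have h40 : ((4 : ℕ) : ℂ) ≠ 0 := by norm_num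
    rw [← hm]
    push_cast
    field_simp
  have h5 : (charDegree (χ : G → ℂ) : ℤ) + 3 * n = 4 * (m : ℤ) := by exact_mod_cast h4
  exact ⟨m, h5⟩

omit [Fintype G] [DecidableEq G] in
/-- The principal `2`-block of a group with Klein four Sylow `2`-subgroups and one class of
involutions. -/
theorem klein_principal_block [Finite G] (hM : IsPModular 2 M) (P : Sylow 2 G)
    (hP : Nat.card (P : Subgroup G) = 4) (hexp : ∀ x : (P : Subgroup G), x * x = 1)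
    (hone : ∀ s t : G, orderOf s = 2 → orderOf t = 2 → IsConj s t) :
    ∃ ζ₂ ζ₃ ζ₄ : IrrCharacter G, ∃ ε : ℤ, (ε = 1 ∨ ε = -1) ∧
      (ζ₂ : G → ℂ) ≠ (fun _ => 1) ∧ (ζ₃ : G → ℂ) ≠ (fun _ => 1) ∧ ζ₂ ≠ ζ₃ ∧ ζ₂ ≠ ζ₄ ∧ ζ₃ ≠ ζ₄ ∧
      principalBlock M G = {χ : IrrCharacter G | (χ : G → ℂ) = (fun _ => 1) ∨ χ = ζ₂ ∨ χ = ζ₃ ∨
        χ = ζ₄} ∧
      (∀ z : G, orderOf z = 2 → (ζ₂ : G → ℂ) z = 1 ∧ (ζ₃ : G → ℂ) z = (ε : ℂ) ∧
        (ζ₄ : G → ℂ) z = -1) ∧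
      (4 : ℤ) ∣ (charDegree (ζ₂ : G → ℂ) : ℤ) - 1 ∧
      (4 : ℤ) ∣ (charDegree (ζ₃ : G → ℂ) : ℤ) - ε ∧
      (4 : ℤ) ∣ (charDegree (ζ₄ : G → ℂ) : ℤ) + 1 ∧
      ∀ y : G, Odd (orderOf y) → 1 + (ζ₂ : G → ℂ) y + (ε : ℂ) * (ζ₃ : G → ℂ) y
        - (ζ₄ : G → ℂ) y = 0 := by
  classical
  haveI : Fintype G := Fintype.ofFinite G
  obtain ⟨h, J, hJ⟩ := hyp_of_sylow P hP hexp hone
  obtain ⟨χ₁, χ₂, χ₃, ε₁, ε₂, ε₃, D₀⟩ := exists_KData h hM J hJ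
  obtain ⟨ζ₂, ζ₃, ζ₄, ε, D⟩ := D₀.exists_normalized
  have hv₁ : (ζ₂ : G → ℂ) J = 1 := by have := D.hv₁; simpa using this
  have hv₃ : (ζ₄ : G → ℂ) J = -1 := by have := D.hv₃; simpa using this
  have hconj : ∀ x : (P : Subgroup G), x ≠ 1 → IsConj J (x : G) := by
    intro x hx
    apply hone J x hJ
    apply orderOf_eq_prime
    · rw [pow_two]
      exact congrArg Subtype.val (hexp x)
    · intro hx1
      exact hx (Subtype.ext hx1)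
  have hd := fun (χ : IrrCharacter G) (n : ℤ) (hn : (χ : G → ℂ) J = n) =>
    degree_mod_four (P : Subgroup G) hP J hconj χ n hn
  refine ⟨ζ₂, ζ₃, ζ₄, ε, D.hε₂, D.hd1, D.hd2, D.h12, D.h13, D.h23, D.hB, ?_, ?_, ?_, ?_, ?_⟩
  · intro z hz
    obtain ⟨c, hc⟩ := isConj_iff.mp (hone J z hJ hz)
    rw [← hc, irr_isClassFunction ζ₂ J c, irr_isClassFunction ζ₃ J c,
      irr_isClassFunction ζ₄ J c]
    exact ⟨hv₁, D.hv₂, hv₃⟩
  · have h1 := hd ζ₂ 1 D.hv₁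
    obtain ⟨m, hm⟩ := h1
    exact ⟨m - 1, by linarith⟩
  · have h1 := hd ζ₃ ε D.hv₂
    obtain ⟨m, hm⟩ := h1
    exact ⟨m - ε, by linarith⟩
  · have h1 := hd ζ₄ (-1) D.hv₃
    obtain ⟨m, hm⟩ := h1
    exact ⟨m + 1, by linarith⟩
  · intro y hy
    have h1 := D.Phi_eq y
    rw [D.Phi_regular y hy.not_two_dvd_nat] at h1
    rw [h1]
    push_cast
    ring

end Cfsg.Agent.H78.Klein
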