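import Cfsg.Agent.H78.OSDefs

/-!
# S2159: assembly of the pieces (helper78)
-/

set_option autoImplicit false

namespace Cfsg.Agent.H78.OS

open Cfsg.Lie

universe u

/-- The generic core: everything except the index statement follows from the generic pieces and the facts. -/
theorem core (D : ChevalleyDatum) (F : Type u) [Field F] [Finite F]
    (hComm : StComm.{u}) (hCyc : StCyc.{u}) (hScal : StScal.{u}) (hFD : StFD.{u}) (hGD : StGD.{u})
    (hND : StNormD.{u}) (hNDF : StNormDF.{u}) (hGU : StGUniq.{u}) (hCov : StCover.{u})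
    (hConj : HConj D F) (hX : HX D F) (hFund : HFund D F) (hLt : HLt D) (hGF : HGF D F) (hDec : HDec D F)
    (hChar : CChar D F)
    (hIdx : CCover D F → CGUniq D F → (Dbar D F ⊔ Fbar D F).Normal → CIdx D F) :
    (Dbar D F).Normal ∧ IsMulCommutative ↥(Dbar D F) ∧ IsCyclic ↥(Fbar D F) ∧
      (Dbar D F ⊔ Fbar D F).Normal ∧ CIdx D F := by
  have hS : CScal D F := hScal D F hConj hFund hLt hChar
  have hfd : CFD D F := hFD D F hConj hX hLt hS
  have hgd : CGD D F := hGD D F hConj hX hLt hS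
  have hn : (Dbar D F).Normal := hND D F hDec hfd hgd
  have hnf : (Dbar D F ⊔ Fbar D F).Normal := hNDF D F hDec hGF hfd hn
  exact ⟨hn, hComm D F, hCyc D F, hnf, hIdx (hCov D F hDec hn) (hGU D F hFund) hnf⟩

/-- The statement of S2159 for one datum, from the pieces and the facts. -/
theorem out_of_pieces (D : ChevalleyDatum) (hD : D ∈ types) (F : Type u) [Field F] [Finite F]
    (hComm : StComm.{u}) (hCyc : StCyc.{u}) (hScal : StScal.{u}) (hFD : StFD.{u}) (hGD : StGD.{u})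
    (hND : StNormD.{u}) (hNDF : StNormDF.{u}) (hGU : StGUniq.{u}) (hCov : StCover.{u})
    (hI2 : StIdx2.{u}) (hS3 : StS3Q.{u}) (hI6 : StIdx6.{u}) (hCh : StChar.{u}) (hSym2 : StSym2)
    (hSymD4 : StSymD4) (hD4 : StD4Inv.{u})
    (hConj : HConj D F) (hX : HX D F) (hFund : HFund D F) (hLt : HLt D) (hGF : HGF D F) (hDec : HDec D F)
    (Db Fb : Subgroup (Cfsg.Out ↥(D.group F)))
    (hDb : Db = (Subgroup.closure {φ : MulAut ↥(D.group F) | D.IsDiagonalAut φ}).map
      (QuotientGroup.mk' (Cfsg.Inn ↥(D.group F))))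
    (hFb : Fb = (Subgroup.closure {φ : MulAut ↥(D.group F) | D.IsFieldAut φ}).map
      (QuotientGroup.mk' (Cfsg.Inn ↥(D.group F)))) :
    Db.Normal ∧ IsMulCommutative ↥Db ∧ IsCyclic ↥Fb ∧ (Db ⊔ Fb).Normal ∧
      ((Db ⊔ Fb).index = 1 ∨ (Db ⊔ Fb).index = 2 ∨
        ((Db ⊔ Fb).index = 6 ∧ ¬ commutator (Cfsg.Out ↥(D.group F)) ≤ Db ⊔ Fb)) := by
  subst hDb hFb
  refine core D F hComm hCyc hScal hFD hGD hND hNDF hGU hCov hConj hX hFund hLt hGF hDec
    (hCh D hD F) ?_
  intro hcov hgu hnf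
  by_cases h4 : D = chevD4
  · subst h4
    obtain ⟨hexp, hcard, hnc⟩ := hSymD4
    exact hI6 hS3 chevD4 F hcov hgu hnf (fun i j => hexp _ i j) hcard hnc (hD4 F)
  · have hD' : D ∈ [chevG2, chevB2, chevF4, chevE6, chevE7, chevE8] := by
      simp only [types, List.mem_cons, List.not_mem_nil, or_false] at hD ⊢
      tauto
    rcases hI2 D F hcov hgu (hSym2 D hD') with h | h
    · exact Or.inl h
    · exact Or.inr (Or.inl h)

end Cfsg.Agent.H78.OS
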