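import Mathlib
import Cfsg.Prelude.Def_ChevAutomorphisms
import Cfsg.Prelude.Def_KGroupFacts
import Cfsg.Prelude.Def_ChevStructure
import Cfsg.Prelude.Def_LieTypes
import Cfsg.Prelude.Def_ChevB2

/-!
# S2159 (structure of `Out` of a Chevalley group): statements of the team-project pieces (helper78)

`Out(G) ⊇ D̄ F̄ ⊇ D̄`: `D̄` normal and abelian, `F̄` cyclic, `D̄ F̄` normal, of index 1, 2 or 6 (then with
non-abelian quotient).  Everything is phrased with the frozen predicates `IsDiagonalAut`, `IsFieldAut`,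
`IsGraphAut`; the facts coming from landed statements / the engine are the `H…` hypotheses.
-/

set_option autoImplicit false

namespace Cfsg.Agent.H78.OS

open Cfsg.Lie

universe u

section defs

variable (D : ChevalleyDatum) (F : Type u) [Field F]

/-- The image in `Out` of the subgroup generated by the diagonal automorphisms. -/
def Dbar : Subgroup (Cfsg.Out ↥(D.group F)) :=
  (Subgroup.closure {φ : MulAut ↥(D.group F) | D.IsDiagonalAut φ}).map
    (QuotientGroup.mk' (Cfsg.Inn ↥(D.group F)))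

/-- The image in `Out` of the subgroup generated by the field automorphisms. -/
def Fbar : Subgroup (Cfsg.Out ↥(D.group F)) :=
  (Subgroup.closure {φ : MulAut ↥(D.group F) | D.IsFieldAut φ}).map
    (QuotientGroup.mk' (Cfsg.Inn ↥(D.group F)))

/-- `g` is a graph automorphism for the permutation `π` of the nodes (the body of `IsGraphAut`). -/
def GW (π : Equiv.Perm (Fin D.rank)) (g : ↥(D.group F) ≃* ↥(D.group F)) : Prop :=
  ∀ (y : ↥(D.group F)) (i : Fin D.rank) (t : F),
    (((y : GL D.Idx F) : Matrix D.Idx D.Idx F) = D.x F (D.simple i) t →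
      ((g y : GL D.Idx F) : Matrix D.Idx D.Idx F) =
        D.x F (D.simple (π i)) (t ^ D.graphExp (ringChar F) i (π i))) ∧
    (((y : GL D.Idx F) : Matrix D.Idx D.Idx F) = D.x F (D.neg (D.simple i)) t →
      ((g y : GL D.Idx F) : Matrix D.Idx D.Idx F) =
        D.x F (D.neg (D.simple (π i))) (t ^ D.graphExp (ringChar F) i (π i)))

theorem isGraphAut_iff (g : ↥(D.group F) ≃* ↥(D.group F)) :
    D.IsGraphAut g ↔ ∃ π : Equiv.Perm (Fin D.rank), D.IsDiagramSymmetry π ∧ GW D F π g := Iff.rfl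

/-! ### Facts (from landed statements and the engine) -/

/-- [S2157] `ĥ(χ) x_r(t) ĥ(χ)⁻¹ = x_r(χ(r) t)`. -/
def HConj : Prop :=
  ∀ χ : ℕ → Fˣ, D.IsRootCharacter χ → ∀ r : ℕ, r < D.nroots → ∀ t : F,
    D.charDiag F χ * D.x F r t * D.charDiag F (fun s => (χ s)⁻¹) = D.x F r ((χ r : F) * t)

/-- [engine] every root element is (the matrix of) an element of the group. -/
def HX : Prop :=
  ∀ r : ℕ, r < D.nroots → ∀ t : F,
    ∃ y : ↥(D.group F), ((y : GL D.Idx F) : Matrix D.Idx D.Idx F) = D.x F r t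

/-- [engine, `hom_ext_fund`] two homomorphisms agreeing on the fundamental root elements and their negatives
are equal. -/
def HFund : Prop :=
  ∀ a b : ↥(D.group F) →* GL D.Idx F,
    (∀ (y : ↥(D.group F)) (i : ℕ) (t : F), i < D.rank →
      (((y : GL D.Idx F) : Matrix D.Idx D.Idx F) = D.x F (D.simple i) t ∨
        ((y : GL D.Idx F) : Matrix D.Idx D.Idx F) = D.x F (D.neg (D.simple i)) t) → a y = b y) → a = b

/-- [tables] the fundamental roots and their negatives are roots. -/
def HLt : Prop := ∀ i : ℕ, i < D.rank → D.simple i < D.nroots ∧ D.neg (D.simple i) < D.nroots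

/-- [S2160] field and graph automorphisms commute. -/
def HGF : Prop :=
  ∀ f g : ↥(D.group F) ≃* ↥(D.group F), D.IsFieldAut f → D.IsGraphAut g →
    ∀ y : ↥(D.group F), f (g y) = g (f y)

/-- [S2156] every automorphism is inner ∘ diagonal ∘ graph ∘ field. -/
def HDec : Prop :=
  ∀ θ : ↥(D.group F) ≃* ↥(D.group F),
    ∃ (x : ↥(D.group F)) (d g f : ↥(D.group F) ≃* ↥(D.group F)),
      D.IsDiagonalAut d ∧ D.IsGraphAut g ∧ D.IsFieldAut f ∧ ∀ y : ↥(D.group F), θ y = x * d (g (f y)) * x⁻¹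

/-! ### Conclusions of the pieces (used as hypotheses of later pieces) -/

/-- Conclusion of OS-CHAR: a character of the root lattice with prescribed values on the fundamental roots. -/
def CChar : Prop :=
  ∀ c : ℕ → Fˣ, ∃ χ : ℕ → Fˣ, D.IsRootCharacter χ ∧ ∀ i : ℕ, i < D.rank → χ (D.simple i) = c i

/-- Conclusion of OS-SCAL: an automorphism acting by scalars `c_i^{±1}` on the fundamental root elements
`x_{±α_i}(t)` is a diagonal automorphism. -/
def CScal : Prop :=
  ∀ (ψ : ↥(D.group F) ≃* ↥(D.group F)) (c : ℕ → Fˣ),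
    (∀ (y : ↥(D.group F)) (i : ℕ) (t : F), i < D.rank →
      (((y : GL D.Idx F) : Matrix D.Idx D.Idx F) = D.x F (D.simple i) t →
        ((ψ y : GL D.Idx F) : Matrix D.Idx D.Idx F) = D.x F (D.simple i) ((c i : F) * t)) ∧
      (((y : GL D.Idx F) : Matrix D.Idx D.Idx F) = D.x F (D.neg (D.simple i)) t →
        ((ψ y : GL D.Idx F) : Matrix D.Idx D.Idx F) =
          D.x F (D.neg (D.simple i)) ((((c i)⁻¹ : Fˣ) : F) * t))) →
    D.IsDiagonalAut ψ

/-- Conclusion of OS-FD: a field automorphism conjugates diagonal automorphisms to diagonal automorphisms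
(products in `MulAut`: `(f * d * f⁻¹) y = f (d (f⁻¹ y))`). -/
def CFD : Prop :=
  ∀ f d : MulAut ↥(D.group F), D.IsFieldAut f → D.IsDiagonalAut d → D.IsDiagonalAut (f * d * f⁻¹)

/-- Conclusion of OS-GD: a graph automorphism conjugates diagonal automorphisms to diagonal automorphisms. -/
def CGD : Prop :=
  ∀ g d : MulAut ↥(D.group F), D.IsGraphAut g → D.IsDiagonalAut d → D.IsDiagonalAut (g * d * g⁻¹)

/-- Conclusion of OS-GUNIQ: a graph automorphism is determined by its permutation. -/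
def CGUniq : Prop :=
  ∀ (π : Equiv.Perm (Fin D.rank)) (g₁ g₂ : ↥(D.group F) ≃* ↥(D.group F)),
    GW D F π g₁ → GW D F π g₂ → g₁ = g₂

/-- Conclusion of OS-COVER: every outer class is the class of a graph automorphism times an element of
`D̄ F̄`. -/
def CCover : Prop :=
  ∀ q : Cfsg.Out ↥(D.group F), ∃ g : MulAut ↥(D.group F), D.IsGraphAut g ∧
    ∃ n ∈ Dbar D F ⊔ Fbar D F, q = QuotientGroup.mk' (Cfsg.Inn ↥(D.group F)) g * n

/-- The index statement of S2159. -/
def CIdx : Prop :=
  (Dbar D F ⊔ Fbar D F).index = 1 ∨ (Dbar D F ⊔ Fbar D F).index = 2 ∨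
    ((Dbar D F ⊔ Fbar D F).index = 6 ∧
      ¬ commutator (Cfsg.Out ↥(D.group F)) ≤ Dbar D F ⊔ Fbar D F)

end defs

/-! ### The pieces -/

/-- The seven tabulated types. -/
def types : List ChevalleyDatum := [chevG2, chevB2, chevD4, chevF4, chevE6, chevE7, chevE8]

/-- **OS-COMM** (Mathlib + Prelude): `D̄` is abelian. -/
def StComm : Prop :=
  ∀ (D : ChevalleyDatum) (F : Type u) [Field F], IsMulCommutative ↥(Dbar D F)

/-- **OS-CYC** (Mathlib + Prelude): `F̄` is cyclic. -/
def StCyc : Prop :=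
  ∀ (D : ChevalleyDatum) (F : Type u) [Field F] [Finite F], IsCyclic ↥(Fbar D F)

/-- **OS-SCAL**: scalar action on the fundamental root elements ⟹ diagonal automorphism. -/
def StScal : Prop :=
  ∀ (D : ChevalleyDatum) (F : Type u) [Field F], HConj D F → HFund D F → HLt D → CChar D F → CScal D F

/-- **OS-FD**: field automorphisms normalise the diagonal automorphisms. -/
def StFD : Prop :=
  ∀ (D : ChevalleyDatum) (F : Type u) [Field F], HConj D F → HX D F → HLt D → CScal D F → CFD D F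

/-- **OS-GD**: graph automorphisms normalise the diagonal automorphisms. -/
def StGD : Prop :=
  ∀ (D : ChevalleyDatum) (F : Type u) [Field F] [Finite F],
    HConj D F → HX D F → HLt D → CScal D F → CGD D F

/-- **OS-NORMD**: `D̄` is normal in `Out`. -/
def StNormD : Prop :=
  ∀ (D : ChevalleyDatum) (F : Type u) [Field F] [Finite F],
    HDec D F → CFD D F → CGD D F → (Dbar D F).Normal

/-- **OS-NORMDF**: `D̄ F̄` is normal in `Out`. -/
def StNormDF : Prop :=
  ∀ (D : ChevalleyDatum) (F : Type u) [Field F] [Finite F],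
    HDec D F → HGF D F → CFD D F → (Dbar D F).Normal → (Dbar D F ⊔ Fbar D F).Normal

/-- **OS-GUNIQ**: a graph automorphism is determined by its permutation. -/
def StGUniq : Prop :=
  ∀ (D : ChevalleyDatum) (F : Type u) [Field F], HFund D F → CGUniq D F

/-- **OS-COVER**: `Out = ⋃ [graph] · D̄ F̄`. -/
def StCover : Prop :=
  ∀ (D : ChevalleyDatum) (F : Type u) [Field F], HDec D F → (Dbar D F).Normal → CCover D F

/-- **OS-IDX2**: at most two diagram symmetries ⟹ index 1 or 2. -/
def StIdx2 : Prop :=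
  ∀ (D : ChevalleyDatum) (F : Type u) [Field F] [Finite F], CCover D F → CGUniq D F →
    (∃ π₀ : Equiv.Perm (Fin D.rank), ∀ π : Equiv.Perm (Fin D.rank), D.IsDiagramSymmetry π → π = 1 ∨ π = π₀) →
    (Dbar D F ⊔ Fbar D F).index = 1 ∨ (Dbar D F ⊔ Fbar D F).index = 2

/-- **OS-S3Q** (Mathlib only): a quotient of a subgroup containing an involution of a non-abelian group of
order 6 has order 1 or 2, or has order 6 and is non-abelian. -/
def StS3Q : Prop :=
  ∀ (S : Type) [Group S] (Q : Type u) [Group Q], Nat.card S = 6 → (∃ a b : S, a * b ≠ b * a) →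
    ∀ (Γ : Subgroup S) (φ : ↥Γ →* Q), Function.Surjective φ → (∃ τ ∈ Γ, τ ≠ 1 ∧ τ * τ = 1) →
    Nat.card Q = 1 ∨ Nat.card Q = 2 ∨ (Nat.card Q = 6 ∧ ∃ a b : Q, a * b ≠ b * a)

/-- **OS-IDX6**: six diagram symmetries forming a non-abelian group, one root length, an involutory graph
automorphism ⟹ the index statement. -/
def StIdx6 : Prop :=
  StS3Q.{u} → ∀ (D : ChevalleyDatum) (F : Type u) [Field F] [Finite F], CCover D F → CGUniq D F →
    (Dbar D F ⊔ Fbar D F).Normal →
    (∀ i j : Fin D.rank, D.graphExp (ringChar F) i j = 1) →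
    Nat.card {π : Equiv.Perm (Fin D.rank) // D.IsDiagramSymmetry π} = 6 →
    (∃ π₁ π₂ : Equiv.Perm (Fin D.rank), D.IsDiagramSymmetry π₁ ∧ D.IsDiagramSymmetry π₂ ∧
      π₁ * π₂ ≠ π₂ * π₁) →
    (∃ (π : Equiv.Perm (Fin D.rank)) (g : ↥(D.group F) ≃* ↥(D.group F)),
      D.IsDiagramSymmetry π ∧ GW D F π g ∧ π ≠ 1 ∧ π * π = 1) →
    CIdx D F

/-- **OS-CHAR** (Mathlib + Prelude, tables by `decide`): characters of the root lattice with prescribed values
on the fundamental roots, for the seven types. -/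
def StChar : Prop :=
  ∀ (D : ChevalleyDatum), D ∈ types → ∀ (F : Type u) [Field F], CChar D F

/-- **OS-SYM2** (Mathlib + Prelude): the diagrams other than D₄ have at most two symmetries. -/
def StSym2 : Prop :=
  ∀ (D : ChevalleyDatum), D ∈ [chevG2, chevB2, chevF4, chevE6, chevE7, chevE8] →
    ∃ π₀ : Equiv.Perm (Fin D.rank), ∀ π : Equiv.Perm (Fin D.rank), D.IsDiagramSymmetry π → π = 1 ∨ π = π₀

/-- **OS-SYMD4** (Mathlib + Prelude): the symmetries of the D₄ diagram. -/
def StSymD4 : Prop :=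
  (∀ (c : ℕ) (i j : Fin chevD4.rank), chevD4.graphExp c i j = 1) ∧
  Nat.card {π : Equiv.Perm (Fin chevD4.rank) // chevD4.IsDiagramSymmetry π} = 6 ∧
  (∃ π₁ π₂ : Equiv.Perm (Fin chevD4.rank), chevD4.IsDiagramSymmetry π₁ ∧ chevD4.IsDiagramSymmetry π₂ ∧
    π₁ * π₂ ≠ π₂ * π₁)

/-- **OS-D4INV** (D₄ tables): an involutory graph automorphism of `D₄(F)`. -/
def StD4Inv : Prop :=
  ∀ (F : Type u) [Field F], ∃ (π : Equiv.Perm (Fin chevD4.rank)) (g : ↥(chevD4.group F) ≃* ↥(chevD4.group F)),
    chevD4.IsDiagramSymmetry π ∧ GW chevD4 F π g ∧ π ≠ 1 ∧ π * π = 1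

end Cfsg.Agent.H78.OS
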