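import Mathlib

/-!
# Abstract Steinberg module (helper78)

`G` acts on a set `Ω`; `a : W → Ω` is an "apartment" and `sg : W → ℂ` a sign function.
`stE a sg = ∑ w, sg w • δ_{a w}` and `stV U a sg` is the span of its `U`-translates inside the
translation representation `trep G Ω` on `Ω → ℂ`.

* `rank_one`: rank one conditions for a "simple reflection" `n` give `n * u • e ∈ V`.
* `stV_stable_of`: stability under a generating set gives `G`-stability.
* `exists_irr`: big cell uniqueness + stability give an irreducible subrepresentation of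
  dimension `|U|`.
-/

set_option autoImplicit false

namespace Cfsg.Agent.H78.StM

open scoped Classical

section Defs

variable (G : Type*) [Group G] (Ω : Type*) [MulAction G Ω]

/-- The translation representation of `G` on complex functions on a `G`-set. -/
noncomputable def trep : Representation ℂ G (Ω → ℂ) where
  toFun g := LinearMap.funLeft ℂ ℂ (fun ω : Ω => g⁻¹ • ω)
  map_one' := by
    refine LinearMap.ext fun f => funext fun ω => ?_
    simp [LinearMap.funLeft_apply]
  map_mul' g h := by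
    refine LinearMap.ext fun f => funext fun ω => ?_
    simp [LinearMap.funLeft_apply, mul_smul]

end Defs

variable {G : Type*} [Group G] {Ω : Type*} [MulAction G Ω]

theorem trep_apply (g : G) (f : Ω → ℂ) (ω : Ω) : trep G Ω g f ω = f (g⁻¹ • ω) := rfl

theorem trep_mul_apply (g h : G) (f : Ω → ℂ) :
    trep G Ω (g * h) f = trep G Ω g (trep G Ω h f) := by
  rw [map_mul]; rfl

/-- The delta function at a point. -/
noncomputable def dl (ω : Ω) : Ω → ℂ := fun ω' => if ω' = ω then 1 else 0

theorem trep_dl (g : G) (ω : Ω) : trep G Ω g (dl ω) = dl (g • ω) := by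
  funext ω'
  rw [trep_apply]
  unfold dl
  simp only [inv_smul_eq_iff]

variable {W : Type*} [Fintype W]

/-- The apartment element. -/
noncomputable def stE (a : W → Ω) (sg : W → ℂ) : Ω → ℂ := ∑ w, sg w • dl (a w)

theorem trep_stE (g : G) (a : W → Ω) (sg : W → ℂ) :
    trep G Ω g (stE a sg) = ∑ w, sg w • dl (g • a w) := by
  unfold stE
  rw [map_sum]
  exact Finset.sum_congr rfl fun w _ => by rw [map_smul, trep_dl]

theorem trep_stE_of_fix (g : G) (a : W → Ω) (sg : W → ℂ) (h : ∀ w, g • a w = a w) :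
    trep G Ω g (stE a sg) = stE a sg := by
  rw [trep_stE]
  unfold stE
  exact Finset.sum_congr rfl fun w _ => by rw [h]

/-- The Steinberg module: span of the `U`-translates of the apartment element. -/
noncomputable def stV (U : Subgroup G) (a : W → Ω) (sg : W → ℂ) : Submodule ℂ (Ω → ℂ) :=
  Submodule.span ℂ (Set.range fun u : U => trep G Ω (u : G) (stE a sg))

theorem trep_mem_stV (U : Subgroup G) (a : W → Ω) (sg : W → ℂ) (u : G) (hu : u ∈ U) :
    trep G Ω u (stE a sg) ∈ stV U a sg :=
  Submodule.subset_span ⟨⟨u, hu⟩, rfl⟩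

theorem stE_mem_stV (U : Subgroup G) (a : W → Ω) (sg : W → ℂ) : stE a sg ∈ stV U a sg := by
  have h := trep_mem_stV U a sg 1 U.one_mem
  rwa [map_one] at h

theorem stable_of_gen (U : Subgroup G) (a : W → Ω) (sg : W → ℂ) (g : G)
    (h : ∀ u : U, trep G Ω (g * u) (stE a sg) ∈ stV U a sg) :
    ∀ v ∈ stV U a sg, trep G Ω g v ∈ stV U a sg := by
  intro v hv
  unfold stV at hv
  induction hv using Submodule.span_induction with
  | mem x hx =>
    obtain ⟨u', rfl⟩ := hx
    have := h u'
    rwa [trep_mul_apply] at this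
  | zero => rw [map_zero]; exact Submodule.zero_mem _
  | add x y _ _ hx hy => rw [map_add]; exact Submodule.add_mem _ hx hy
  | smul c x _ hx => rw [map_smul]; exact Submodule.smul_mem _ c hx

theorem stV_U_stable (U : Subgroup G) (a : W → Ω) (sg : W → ℂ) (u : G) (hu : u ∈ U) :
    ∀ v ∈ stV U a sg, trep G Ω u v ∈ stV U a sg :=
  stable_of_gen U a sg u fun u' => trep_mem_stV U a sg _ (U.mul_mem hu u'.2)

/-- Stability under a generating set gives stability under the whole (finite) group. -/
theorem stV_stable_of [Finite G] (U : Subgroup G) (a : W → Ω) (sg : W → ℂ) (T : Set G)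
    (hT : Subgroup.closure T = ⊤)
    (h : ∀ g ∈ T, ∀ u : U, trep G Ω (g * u) (stE a sg) ∈ stV U a sg) :
    ∀ g : G, ∀ v ∈ stV U a sg, trep G Ω g v ∈ stV U a sg := by
  obtain ⟨S, hS⟩ : ∃ S : Submonoid G, ∀ g, g ∈ S ↔ ∀ v ∈ stV U a sg, trep G Ω g v ∈ stV U a sg :=
    ⟨{ carrier := {g | ∀ v ∈ stV U a sg, trep G Ω g v ∈ stV U a sg}
       one_mem' := fun v hv => by rw [map_one]; exact hv
       mul_mem' := fun {g g'} hg hg' v hv => by
        rw [trep_mul_apply]; exact hg _ (hg' v hv) }, fun g => Iff.rfl⟩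
  have hTS : ∀ g ∈ T, g ∈ S := fun g hg => (hS g).mpr (stable_of_gen U a sg g (h g hg))
  intro g
  rw [← hS]
  have hg : g ∈ Subgroup.closure T := by rw [hT]; trivial
  induction hg using Subgroup.closure_induction with
  | mem x hx => exact hTS x hx
  | one => exact S.one_mem
  | mul x y _ _ hx hy => exact S.mul_mem hx hy
  | inv x _ hx =>
    have : x⁻¹ = x ^ (orderOf x - 1) := by
      apply inv_eq_of_mul_eq_one_right
      rw [← pow_succ', Nat.sub_add_cancel (orderOf_pos x), pow_orderOf_eq_one]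
    rw [this]
    exact S.pow_mem hx _

theorem sum_pair {M : Type*} [AddCommMonoid M] (σ : W → W) (hσ : ∀ w, σ (σ w) = w) (Wp : Set W)
    (hWp : ∀ w, σ w ∈ Wp ↔ w ∉ Wp) (f : W → M) :
    ∑ w, f w = ∑ w ∈ Finset.univ.filter (· ∈ Wp), (f w + f (σ w)) := by
  rw [Finset.sum_add_distrib, ← Finset.sum_filter_add_sum_filter_not Finset.univ (· ∈ Wp) f]
  congr 1
  apply Finset.sum_nbij' σ σ
  · intro w hw
    simp only [Finset.mem_filter, Finset.mem_univ, true_and] at hw ⊢
    exact (hWp w).mpr hw
  · intro w hw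
    simp only [Finset.mem_filter, Finset.mem_univ, true_and] at hw ⊢
    have := hWp (σ w)
    rw [hσ] at this
    exact this.mp hw
  · intro w _; exact hσ w
  · intro w _; exact hσ w
  · intro w _; rw [hσ]

/-- Rank one conditions for a simple reflection `n` with root group `X`. -/
theorem rank_one (U : Subgroup G) (a : W → Ω) (sg : W → ℂ) (n : G) (X : Set G)
    (σ : W → W) (hσ : ∀ w, σ (σ w) = w) (hsg : ∀ w, sg (σ w) = - sg w)
    (hn : ∀ w, n • a w = a (σ w))
    (Wp : Set W) (hWp : ∀ w, σ w ∈ Wp ↔ w ∉ Wp)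
    (hXU : ∀ x ∈ X, x ∈ U)
    (hX : ∀ x ∈ X, ∀ w ∈ Wp, x • a w = a w)
    (hr : ∀ x ∈ X, x ≠ 1 → ∃ x' ∈ X, ∀ w ∈ Wp, (n * x) • a (σ w) = x' • a (σ w))
    (hf : ∀ u ∈ U, ∃ u' ∈ U, ∃ x ∈ X, u = u' * x ∧ n * u' * n⁻¹ ∈ U) :
    ∀ u : U, trep G Ω (n * u) (stE a sg) ∈ stV U a sg := by
  have key : ∀ g : G, trep G Ω g (stE a sg) =
      ∑ w ∈ Finset.univ.filter (· ∈ Wp), sg w • (dl (g • a w) - dl (g • a (σ w))) := by
    intro g
    rw [trep_stE, sum_pair σ hσ Wp hWp]
    apply Finset.sum_congr rfl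
    intro w _
    rw [hsg, neg_smul, smul_sub, sub_eq_add_neg]
  have he : stE a sg =
      ∑ w ∈ Finset.univ.filter (· ∈ Wp), sg w • (dl (a w) - dl (a (σ w))) := by
    have h1 := key 1
    rw [map_one] at h1
    simpa using h1
  have hnx : ∀ x ∈ X, trep G Ω (n * x) (stE a sg) ∈ stV U a sg := by
    intro x hx
    by_cases hx1 : x = 1
    · subst hx1
      rw [mul_one]
      have h2 : trep G Ω n (stE a sg) = - stE a sg := by
        rw [key n]
        conv_rhs => rw [he]
        rw [← Finset.sum_neg_distrib]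
        apply Finset.sum_congr rfl
        intro w _
        rw [hn, hn, hσ, ← smul_neg, neg_sub]
      rw [h2]
      exact Submodule.neg_mem _ (stE_mem_stV U a sg)
    · obtain ⟨x', hx', hxx'⟩ := hr x hx hx1
      have h2 : trep G Ω (n * x) (stE a sg) = trep G Ω x' (stE a sg) - stE a sg := by
        rw [key (n * x), key x']
        conv_rhs => rw [he]
        rw [← Finset.sum_sub_distrib]
        apply Finset.sum_congr rfl
        intro w hw
        simp only [Finset.mem_filter, Finset.mem_univ, true_and] at hw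
        rw [hxx' w hw, mul_smul, hX x hx w hw, hn, hX x' hx' w hw, ← smul_sub,
          sub_sub_sub_cancel_left]
      rw [h2]
      exact Submodule.sub_mem _ (trep_mem_stV U a sg x' (hXU x' hx')) (stE_mem_stV U a sg)
  intro u
  obtain ⟨u', hu', x, hx, hux, hnu⟩ := hf u u.2
  have h3 : n * (u : G) = (n * u' * n⁻¹) * (n * x) := by
    rw [hux]; group
  rw [h3, trep_mul_apply]
  exact stV_U_stable U a sg _ hnu _ (hnx x hx)

/-- Evaluation of a translate of the apartment element on the big cell. -/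
theorem eval_big (U : Subgroup G) (a : W → Ω) (sg : W → ℂ) (w₀ : W)
    (hind : ∀ v ∈ U, ∀ w, v • a w₀ = a w → v = 1 ∧ w = w₀) (u u₁ : G) (hu : u ∈ U)
    (hu₁ : u₁ ∈ U) :
    trep G Ω u (stE a sg) (u₁ • a w₀) = if u = u₁ then sg w₀ else 0 := by
  rw [trep_stE, Finset.sum_apply]
  have hterm : ∀ w, (sg w • dl (u • a w)) (u₁ • a w₀) =
      if (u = u₁ ∧ w = w₀) then sg w₀ else 0 := by
    intro w
    rw [Pi.smul_apply, smul_eq_mul]
    unfold dl
    by_cases h : u₁ • a w₀ = u • a w
    · have h' : (u⁻¹ * u₁) • a w₀ = a w := by rw [mul_smul, h, inv_smul_smul]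
      obtain ⟨h1, h2⟩ := hind _ (U.mul_mem (U.inv_mem hu) hu₁) w h'
      have h3 : u = u₁ := by rw [inv_mul_eq_one] at h1; exact h1
      rw [if_pos h, if_pos ⟨h3, h2⟩, h2, mul_one]
    · rw [if_neg h, mul_zero, if_neg]
      rintro ⟨rfl, rfl⟩
      exact h rfl
  simp only [hterm]
  by_cases huu : u = u₁
  · simp [huu]
  · simp [huu]

theorem linIndep (U : Subgroup G) (a : W → Ω) (sg : W → ℂ) (w₀ : W) (hw₀ : sg w₀ ≠ 0)
    (hind : ∀ v ∈ U, ∀ w, v • a w₀ = a w → v = 1 ∧ w = w₀) :
    LinearIndependent ℂ (fun u : U => trep G Ω (u : G) (stE a sg)) := by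
  rw [linearIndependent_iff']
  intro s c hc u₁ hu₁
  have h := congrFun hc ((u₁ : G) • a w₀)
  rw [Finset.sum_apply] at h
  simp only [Pi.smul_apply, smul_eq_mul, Pi.zero_apply] at h
  have h2 : ∀ u ∈ s, c u * trep G Ω (u : G) (stE a sg) ((u₁ : G) • a w₀) =
      if u = u₁ then c u₁ * sg w₀ else 0 := by
    intro u _
    rw [eval_big U a sg w₀ hind u u₁ u.2 u₁.2]
    by_cases h : u = u₁
    · subst h; simp
    · have : (u : G) ≠ u₁ := fun h' => h (Subtype.ext h')
      simp [h, this]
  rw [Finset.sum_congr rfl h2, Finset.sum_ite_eq' s u₁, if_pos hu₁] at h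
  exact (mul_eq_zero.mp h).resolve_right hw₀

/-- A central element fixing the apartment pointwise acts trivially on the Steinberg module. -/
theorem central_trivial (U : Subgroup G) (a : W → Ω) (sg : W → ℂ) (z : G)
    (hz : ∀ u ∈ U, z * u = u * z) (hza : ∀ w, z • a w = a w) :
    ∀ v ∈ stV U a sg, trep G Ω z v = v := by
  intro v hv
  unfold stV at hv
  induction hv using Submodule.span_induction with
  | mem x hx =>
    obtain ⟨u', rfl⟩ := hx
    show trep G Ω z (trep G Ω (u' : G) (stE a sg)) = _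
    rw [← trep_mul_apply, hz _ u'.2, trep_mul_apply, trep_stE_of_fix z a sg hza]
  | zero => rw [map_zero]
  | add x y _ _ hx hy => rw [map_add, hx, hy]
  | smul c x _ hx => rw [map_smul, hx]

end Cfsg.Agent.H78.StM
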