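import Cfsg.Agent.H78.StDbl
import Cfsg.Agent.H78.StSpDefs
import Cfsg.Agent.H45.SpTwoGen

/-!
# Steinberg module for `Sp_{2m}`: the embedding into `SL_{2m}` and the root elements (helper78)
-/

set_option autoImplicit false

namespace Cfsg.Agent.H78.StSp

open Matrix Cfsg.Agent.H50.AutPSL Cfsg.Agent.H78.StSL

variable {m : ℕ} {F : Type*} [Field F]

/-! ### Positions -/

theorem pE_val (i : Fin (m + 1)) : ((pE m i : Fin ((m + 1) + (m + 1))) : ℕ) = i := rfl

theorem pF_val (i : Fin (m + 1)) :
    ((pF m i : Fin ((m + 1) + (m + 1))) : ℕ) = (m + 1) + (m - i) := by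
  simp [pF, Fin.rev]
  omega

theorem pE_lt_pF (i j : Fin (m + 1)) : pE m i < pF m j := by
  rw [Fin.lt_def, pE_val, pF_val]
  have := i.isLt
  omega

theorem pE_ne_pF (i j : Fin (m + 1)) : pE m i ≠ pF m j := ne_of_lt (pE_lt_pF i j)

theorem pE_inj {i j : Fin (m + 1)} : pE m i = pE m j ↔ i = j := by
  rw [Fin.ext_iff, Fin.ext_iff, pE_val, pE_val]

theorem pF_inj {i j : Fin (m + 1)} : pF m i = pF m j ↔ i = j := by
  rw [Fin.ext_iff, Fin.ext_iff, pF_val, pF_val]
  have := i.isLt
  have := j.isLt
  omega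

theorem pE_lt_pE {i j : Fin (m + 1)} : pE m i < pE m j ↔ i < j := by
  rw [Fin.lt_def, Fin.lt_def, pE_val, pE_val]

theorem pF_lt_pF {i j : Fin (m + 1)} : pF m i < pF m j ↔ j < i := by
  rw [Fin.lt_def, Fin.lt_def, pF_val, pF_val]
  have := i.isLt
  have := j.isLt
  omega

theorem rev_pE (i : Fin (m + 1)) : Fin.rev (pE m i) = pF m i := by
  rw [Fin.ext_iff, Fin.val_rev, pE_val, pF_val]
  have := i.isLt
  omega

theorem rev_pF (i : Fin (m + 1)) : Fin.rev (pF m i) = pE m i := by
  rw [← rev_pE, Fin.rev_rev]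

/-- The index equivalence. -/
def eN (m : ℕ) : Fin (m + 1) ⊕ Fin (m + 1) ≃ Fin ((m + 1) + (m + 1)) :=
  (Equiv.sumCongr (Equiv.refl _) Fin.revPerm).trans finSumFinEquiv

theorem eN_inl (i : Fin (m + 1)) : eN m (Sum.inl i) = pE m i := by
  simp [eN, pE]

theorem eN_inr (i : Fin (m + 1)) : eN m (Sum.inr i) = pF m i := by
  simp [eN, pF]

/-! ### The embedding -/

/-- The embedding of the symplectic group into the special linear group (reordered basis). -/
noncomputable def psi (m : ℕ) (F : Type*) [Field F] :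
    symplecticGroup (Fin (m + 1)) F →* SpecialLinearGroup (Fin ((m + 1) + (m + 1))) F where
  toFun g := ⟨Matrix.reindexAlgEquiv F F (eN m) g.1, by
    rw [Matrix.det_reindexAlgEquiv]
    exact SymplecticGroup.det_eq_one g.2⟩
  map_one' := Subtype.ext (map_one _)
  map_mul' g h := Subtype.ext (map_mul _ _ _)

theorem psi_val (g : symplecticGroup (Fin (m + 1)) F) :
    (psi m F g).1 = Matrix.reindexAlgEquiv F F (eN m) g.1 := rfl

theorem psi_apply (g : symplecticGroup (Fin (m + 1)) F) (x y : Fin (m + 1) ⊕ Fin (m + 1)) :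
    (psi m F g).1 (eN m x) (eN m y) = g.1 x y := by
  rw [psi_val, Matrix.coe_reindexAlgEquiv, Matrix.reindex_apply, Matrix.submatrix_apply,
    Equiv.symm_apply_apply, Equiv.symm_apply_apply]

theorem psi_injective : Function.Injective (psi m F) := by
  intro g h hgh
  apply Subtype.ext
  ext x y
  rw [← psi_apply, ← psi_apply h, hgh]

theorem reindex_transvection (x y : Fin (m + 1) ⊕ Fin (m + 1)) (t : F) :
    Matrix.reindexAlgEquiv F F (eN m) (transvection x y t) = transvection (eN m x) (eN m y) t := by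
  ext a b
  rw [Matrix.coe_reindexAlgEquiv, Matrix.reindex_apply, Matrix.submatrix_apply]
  simp only [transvection, Matrix.add_apply, Matrix.one_apply, Matrix.single_apply,
    Equiv.eq_symm_apply, Equiv.apply_symm_apply]

/-- If the matrix of `g` is a transvection, its image is the corresponding root element. -/
theorem psi_eq_xE (g : symplecticGroup (Fin (m + 1)) F) (x y : Fin (m + 1) ⊕ Fin (m + 1))
    (hxy : eN m x ≠ eN m y) (t : F) (hg : g.1 = transvection x y t) :
    psi m F g = xE (eN m x) (eN m y) hxy t := by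
  apply Subtype.ext
  rw [psi_val, hg, reindex_transvection]
  rfl

/-- If the matrix of `g` is a product of two transvections, its image is the product of the
corresponding root elements. -/
theorem psi_eq_xE_mul (g : symplecticGroup (Fin (m + 1)) F)
    (x y x' y' : Fin (m + 1) ⊕ Fin (m + 1))
    (hxy : eN m x ≠ eN m y) (hxy' : eN m x' ≠ eN m y') (t s : F)
    (hg : g.1 = transvection x y t * transvection x' y' s) :
    psi m F g = xE (eN m x) (eN m y) hxy t * xE (eN m x') (eN m y') hxy' s := by
  apply Subtype.ext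
  rw [psi_val, hg, map_mul, reindex_transvection, reindex_transvection]
  rfl

/-! ### Block matrices as transvections -/

theorem blocks_short (i j : Fin (m + 1)) (t s : F) :
    (fromBlocks (transvection i j t) 0 0 (transvection j i s) :
      Matrix (Fin (m + 1) ⊕ Fin (m + 1)) (Fin (m + 1) ⊕ Fin (m + 1)) F) =
      transvection (Sum.inl i) (Sum.inl j) t * transvection (Sum.inr j) (Sum.inr i) s := by
  have h1 : (transvection (Sum.inl i) (Sum.inl j) t :
      Matrix (Fin (m + 1) ⊕ Fin (m + 1)) (Fin (m + 1) ⊕ Fin (m + 1)) F) =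
      fromBlocks (transvection i j t) 0 0 1 := by
    ext (a | a) (b | b) <;> simp [transvection, Matrix.one_apply, Matrix.single_apply]
  have h2 : (transvection (Sum.inr j) (Sum.inr i) s :
      Matrix (Fin (m + 1) ⊕ Fin (m + 1)) (Fin (m + 1) ⊕ Fin (m + 1)) F) =
      fromBlocks 1 0 0 (transvection j i s) := by
    ext (a | a) (b | b) <;> simp [transvection, Matrix.one_apply, Matrix.single_apply]
  rw [h1, h2, fromBlocks_multiply]
  simp

theorem blocks_upper (i : Fin (m + 1)) (t : F) :
    (fromBlocks 1 (Matrix.single i i t) 0 1 :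
      Matrix (Fin (m + 1) ⊕ Fin (m + 1)) (Fin (m + 1) ⊕ Fin (m + 1)) F) =
      transvection (Sum.inl i) (Sum.inr i) t := by
  ext (a | a) (b | b) <;> simp [transvection, Matrix.one_apply, Matrix.single_apply]

theorem blocks_lower (i : Fin (m + 1)) (t : F) :
    (fromBlocks 1 0 (Matrix.single i i t) 1 :
      Matrix (Fin (m + 1) ⊕ Fin (m + 1)) (Fin (m + 1) ⊕ Fin (m + 1)) F) =
      transvection (Sum.inr i) (Sum.inl i) t := by
  ext (a | a) (b | b) <;> simp [transvection, Matrix.one_apply, Matrix.single_apply]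

/-! ### Root elements of the symplectic group -/

theorem transvection_transpose' (i j : Fin (m + 1)) (t : F) :
    (transvection i j t)ᵀ = transvection j i t := by
  simp [transvection]

/-- Short root elements (all pairs `i ≠ j`). -/
noncomputable def xd (i j : Fin (m + 1)) (hij : i ≠ j) (t : F) :
    symplecticGroup (Fin (m + 1)) F :=
  ⟨fromBlocks (transvection i j t) 0 0 (transvection j i (-t)), by
    have h := Cfsg.Agent.H45.diag_mem_sp (transvection i j t) (transvection i j (-t))
      (by rw [transvection_mul_transvection_same i j hij, add_neg_cancel, transvection_zero])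
    rwa [transvection_transpose'] at h⟩

theorem xd_val (i j : Fin (m + 1)) (hij : i ≠ j) (t : F) :
    (xd i j hij t : symplecticGroup (Fin (m + 1)) F).1 =
      fromBlocks (transvection i j t) 0 0 (transvection j i (-t)) := rfl

/-- Long root elements (upper). -/
noncomputable def xl (i : Fin (m + 1)) (t : F) : symplecticGroup (Fin (m + 1)) F :=
  ⟨fromBlocks 1 (Matrix.single i i t) 0 1, Cfsg.Agent.H45.upper_mem_sp _ (by
    rw [Matrix.transpose_single])⟩

/-- Long root elements (lower). -/
noncomputable def yl (i : Fin (m + 1)) (t : F) : symplecticGroup (Fin (m + 1)) F :=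
  ⟨fromBlocks 1 0 (Matrix.single i i t) 1, Cfsg.Agent.H45.lower_mem_sp _ (by
    rw [Matrix.transpose_single])⟩

theorem xl_val (i : Fin (m + 1)) (t : F) :
    (xl i t : symplecticGroup (Fin (m + 1)) F).1 = fromBlocks 1 (Matrix.single i i t) 0 1 := rfl

theorem yl_val (i : Fin (m + 1)) (t : F) :
    (yl i t : symplecticGroup (Fin (m + 1)) F).1 = fromBlocks 1 0 (Matrix.single i i t) 1 := rfl

theorem pE_ne {i j : Fin (m + 1)} (hij : i ≠ j) : pE m i ≠ pE m j := fun h => hij (pE_inj.mp h)

theorem pF_ne {i j : Fin (m + 1)} (hij : i ≠ j) : pF m i ≠ pF m j := fun h => hij (pF_inj.mp h)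

theorem psi_xd (i j : Fin (m + 1)) (hij : i ≠ j) (t : F) :
    psi m F (xd i j hij t) =
      xE (pE m i) (pE m j) (pE_ne hij) t * xE (pF m j) (pF m i) (pF_ne hij.symm) (-t) := by
  have h := psi_eq_xE_mul (xd i j hij t) (Sum.inl i) (Sum.inl j) (Sum.inr j) (Sum.inr i)
    (by rw [eN_inl, eN_inl]; exact pE_ne hij) (by rw [eN_inr, eN_inr]; exact pF_ne hij.symm)
    t (-t) (by rw [xd_val, blocks_short i j])
  rw [h]
  simp only [eN_inl, eN_inr]

theorem psi_xl (i : Fin (m + 1)) (t : F) :
    psi m F (xl i t) = xE (pE m i) (pF m i) (pE_ne_pF i i) t := by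
  have h := psi_eq_xE (xl i t) (Sum.inl i) (Sum.inr i)
    (by rw [eN_inl, eN_inr]; exact pE_ne_pF i i) t (by rw [xl_val, blocks_upper])
  rw [h]
  simp only [eN_inl, eN_inr]

theorem psi_yl (i : Fin (m + 1)) (t : F) :
    psi m F (yl i t) = xE (pF m i) (pE m i) (pE_ne_pF i i).symm t := by
  have h := psi_eq_xE (yl i t) (Sum.inr i) (Sum.inl i)
    (by rw [eN_inl, eN_inr]; exact (pE_ne_pF i i).symm) t (by rw [yl_val, blocks_lower])
  rw [h]
  simp only [eN_inl, eN_inr]

end Cfsg.Agent.H78.StSp
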