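import Cfsg.Agent.H78.StSp1

/-!
# Steinberg module for `Sp_{2m}`: unipotent subgroup, monomial elements, relations (helper78)
-/

set_option autoImplicit false

namespace Cfsg.Agent.H78.StSp

open Matrix Cfsg.Agent.H50.AutPSL Cfsg.Agent.H78.StSL

variable {m : ℕ} {F : Type*} [Field F]

local notation "Spm" => symplecticGroup (Fin (m + 1)) F

/-- The action of the symplectic group on flags (through the embedding). -/
noncomputable instance spAction :
    MulAction (symplecticGroup (Fin (m + 1)) F) (Flg ((m + 1) + (m + 1)) F) :=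
  MulAction.compHom _ (psi m F)

theorem sp_smul_def (g : Spm) (φ : Flg ((m + 1) + (m + 1)) F) : g • φ = psi m F g • φ := rfl

/-- The unipotent subgroup. -/
noncomputable def USp (m : ℕ) (F : Type*) [Field F] [Fintype F] :
    Subgroup (symplecticGroup (Fin (m + 1)) F) :=
  (Uni ((m + 1) + (m + 1)) F).comap (psi m F)

theorem mem_USp [Fintype F] (g : Spm) : g ∈ USp m F ↔ psi m F g ∈ Uni ((m + 1) + (m + 1)) F :=
  Iff.rfl

theorem mem_USp_of_blocks [Fintype F] (g : Spm) (A B D : Matrix (Fin (m + 1)) (Fin (m + 1)) F)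
    (hg : g.1 = fromBlocks A B 0 D) (hA : IsUT A) (hD1 : ∀ i j, i < j → D i j = 0)
    (hD2 : ∀ i, D i i = 1) : g ∈ USp m F := by
  show IsUT (psi m F g).1
  constructor
  · intro a b hba
    obtain ⟨x, rfl⟩ := (eN m).surjective a
    obtain ⟨y, rfl⟩ := (eN m).surjective b
    rw [psi_apply, hg]
    rcases x with i | i <;> rcases y with j | j
    · rw [eN_inl, eN_inl, pE_lt_pE] at hba
      exact hA.1 i j hba
    · rw [eN_inl, eN_inr] at hba
      exact absurd hba (not_lt.mpr (pE_lt_pF i j).le)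
    · rfl
    · rw [eN_inr, eN_inr, pF_lt_pF] at hba
      exact hD1 i j hba
  · intro a
    obtain ⟨x, rfl⟩ := (eN m).surjective a
    rw [psi_apply, hg]
    rcases x with i | i
    · exact hA.2 i
    · exact hD2 i

theorem blocks_of_mem_USp [Fintype F] (g : Spm) (hg : g ∈ USp m F) :
    (∀ i j, g.1 (Sum.inr i) (Sum.inl j) = 0) ∧
    (∀ i j, j < i → g.1 (Sum.inl i) (Sum.inl j) = 0) ∧
    (∀ i, g.1 (Sum.inl i) (Sum.inl i) = 1) ∧
    (∀ i j, i < j → g.1 (Sum.inr i) (Sum.inr j) = 0) ∧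
    (∀ i, g.1 (Sum.inr i) (Sum.inr i) = 1) := by
  have h : IsUT (psi m F g).1 := hg
  refine ⟨?_, ?_, ?_, ?_, ?_⟩
  · intro i j
    rw [← psi_apply]
    apply h.1
    rw [eN_inl, eN_inr]
    exact pE_lt_pF j i
  · intro i j hij
    rw [← psi_apply]
    apply h.1
    rw [eN_inl, eN_inl, pE_lt_pE]
    exact hij
  · intro i
    rw [← psi_apply]
    exact h.2 _
  · intro i j hij
    rw [← psi_apply]
    apply h.1
    rw [eN_inr, eN_inr, pF_lt_pF]
    exact hij
  · intro i
    rw [← psi_apply]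
    exact h.2 _

/-- The symplectic relation between the two "short" superdiagonal entries. -/
theorem sp_rel [Fintype F] (g : Spm) (hg : g ∈ USp m F) (k : Fin m) :
    (psi m F g).1 (pF m k.succ) (pF m k.castSucc) =
      - (psi m F g).1 (pE m k.castSucc) (pE m k.succ) := by
  obtain ⟨hC, hA1, hA2, hD1, hD2⟩ := blocks_of_mem_USp g hg
  rw [← eN_inr, ← eN_inr, ← eN_inl, ← eN_inl, psi_apply, psi_apply]
  have hb : g.1 = fromBlocks g.1.toBlocks₁₁ g.1.toBlocks₁₂ g.1.toBlocks₂₁ g.1.toBlocks₂₂ :=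
    (fromBlocks_toBlocks g.1).symm
  have hmem : fromBlocks g.1.toBlocks₁₁ g.1.toBlocks₁₂ g.1.toBlocks₂₁ g.1.toBlocks₂₂ ∈
      symplecticGroup (Fin (m + 1)) F := by
    rw [← hb]
    exact g.2
  have h3 := (SymplecticGroup.fromBlocks_mem_iff.mp hmem).2.2
  have hC0 : g.1.toBlocks₂₁ = 0 := by
    ext i j
    exact hC i j
  rw [hC0, Matrix.transpose_zero, Matrix.zero_mul, sub_zero] at h3
  have h4 := congrFun (congrFun h3 k.succ) k.castSucc
  rw [Matrix.one_apply_ne (cs_ne k).symm, Matrix.mul_apply,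
    Finset.sum_eq_add k.castSucc k.succ (cs_ne k)] at h4
  · simp only [Matrix.transpose_apply, toBlocks₁₁, toBlocks₂₂, Matrix.of_apply] at h4
    rw [hD2, hA2, mul_one, one_mul] at h4
    linear_combination h4
  · intro c _ hc
    simp only [Matrix.transpose_apply, toBlocks₁₁, toBlocks₂₂, Matrix.of_apply]
    rcases lt_or_ge c k.castSucc with h | h
    · rw [hD1 c k.castSucc h, mul_zero]
    · have h5 : k.succ < c := by
        have h6 : (c : ℕ) ≠ (k.castSucc : Fin (m + 1)) := fun h' => hc.1 (Fin.ext h')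
        have h7 : (c : ℕ) ≠ (k.succ : Fin (m + 1)) := fun h' => hc.2 (Fin.ext h')
        rw [Fin.lt_def]
        rw [Fin.le_def] at h
        rw [Fin.val_castSucc] at h6 h
        rw [Fin.val_succ] at h7 ⊢
        omega
      rw [hA1 c k.succ h5, zero_mul]
  · intro h
    exact absurd (Finset.mem_univ _) h
  · intro h
    exact absurd (Finset.mem_univ _) h

/-! ### Monomial elements -/

/-- Monomial lift of the short simple reflection. -/
noncomputable def ns (k : Fin m) : Spm :=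
  xd k.castSucc k.succ (cs_ne k) 1 * xd k.succ k.castSucc (cs_ne k).symm (-1) *
    xd k.castSucc k.succ (cs_ne k) 1

/-- Monomial lift of the long simple reflection. -/
noncomputable def nl : Spm := xl (Fin.last m) 1 * yl (Fin.last m) (-1) * xl (Fin.last m) 1

theorem six_comm {G : Type*} [Group G] (a1 a2 a3 b1 b2 b3 : G) (h12 : Commute b1 a2)
    (h13 : Commute b1 a3) (h23 : Commute b2 a3) :
    (a1 * b1) * (a2 * b2) * (a3 * b3) = (a1 * a2 * a3) * (b1 * b2 * b3) := by
  have e : ∀ {a b : G} (x : G), Commute a b → a * (b * x) = b * (a * x) := by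
    intro a b x h
    rw [← mul_assoc, h.eq, mul_assoc]
  simp only [mul_assoc]
  rw [e _ h12, e _ h23, e _ h13]

theorem disj_short (k : Fin m) :
    Disj4 (pE m k.castSucc) (pE m k.succ) (pF m k.succ) (pF m k.castSucc) :=
  ⟨pE_ne_pF _ _, pE_ne_pF _ _, pE_ne_pF _ _, pE_ne_pF _ _⟩

theorem psi_ns (k : Fin m) :
    psi m F (ns k) =
      nE (pE m k.castSucc) (pE m k.succ) (pE_ne (cs_ne k)) *
        (nE (pF m k.succ) (pF m k.castSucc) (pF_ne (cs_ne k).symm))⁻¹ := by
  unfold ns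
  rw [map_mul, map_mul, psi_xd, psi_xd, neg_neg, six_comm, nE_inv]
  · rfl
  · exact xE_commute _ _ _ _ _ _ (pE_ne_pF _ _).symm (pE_ne_pF _ _).symm _ _
  · exact xE_commute _ _ _ _ _ _ (pE_ne_pF _ _).symm (pE_ne_pF _ _).symm _ _
  · exact xE_commute _ _ _ _ _ _ (pE_ne_pF _ _).symm (pE_ne_pF _ _).symm _ _

theorem psi_nl :
    psi m F (nl : Spm) = nE (pE m (Fin.last m)) (pF m (Fin.last m)) (pE_ne_pF _ _) := by
  unfold nl
  rw [map_mul, map_mul, psi_xl, psi_yl]
  rfl

theorem pE_adj (k : Fin m) : ((pE m k.castSucc : Fin ((m + 1) + (m + 1))) : ℕ) + 1 =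
    (pE m k.succ : Fin ((m + 1) + (m + 1))) := by
  rw [pE_val, pE_val]
  simp

theorem pF_adj (k : Fin m) : ((pF m k.succ : Fin ((m + 1) + (m + 1))) : ℕ) + 1 =
    (pF m k.castSucc : Fin ((m + 1) + (m + 1))) := by
  rw [pF_val, pF_val]
  have := k.isLt
  simp
  omega

theorem pEF_adj : ((pE m (Fin.last m) : Fin ((m + 1) + (m + 1))) : ℕ) + 1 =
    (pF m (Fin.last m) : Fin ((m + 1) + (m + 1))) := by
  rw [pE_val, pF_val]
  simp

/-! ### Root elements in `U` -/

theorem xd_mem_USp [Fintype F] (i j : Fin (m + 1)) (hij : i < j) (t : F) :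
    xd i j hij.ne t ∈ USp m F := by
  rw [mem_USp, psi_xd]
  exact (Uni _ F).mul_mem (isUT_transvection _ _ (pE_lt_pE.mpr hij) t)
    (isUT_transvection _ _ (pF_lt_pF.mpr hij) _)

theorem xl_mem_USp [Fintype F] (i : Fin (m + 1)) (t : F) : xl i t ∈ USp m F := by
  rw [mem_USp, psi_xl]
  exact isUT_transvection _ _ (pE_lt_pF i i) t

theorem xd_zero (i j : Fin (m + 1)) (hij : i ≠ j) : (xd i j hij (0 : F) : Spm) = 1 := by
  apply Subtype.ext
  rw [xd_val, neg_zero, transvection_zero, transvection_zero, fromBlocks_one]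
  rfl

theorem xl_zero (i : Fin (m + 1)) : (xl i (0 : F) : Spm) = 1 := by
  apply Subtype.ext
  rw [xl_val, Matrix.single_zero, fromBlocks_one]
  rfl

/-- Lower short root elements are conjugates of upper ones. -/
theorem ns_conj (k : Fin m) (t : F) :
    ns k * xd k.castSucc k.succ (cs_ne k) (-t) * (ns k)⁻¹ =
      (xd k.succ k.castSucc (cs_ne k).symm t : Spm) := by
  apply psi_injective
  rw [map_mul, map_mul, map_inv, psi_ns, psi_xd, psi_xd, neg_neg]
  exact dbl_conj _ _ _ _ _ _ (disj_short k) t t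

/-- Lower long root elements are conjugates of upper ones. -/
theorem nl_conj (t : F) :
    nl * xl (Fin.last m) (-t) * nl⁻¹ = (yl (Fin.last m) t : Spm) := by
  apply psi_injective
  rw [map_mul, map_mul, map_inv, psi_nl, psi_xl, psi_yl]
  exact conj_xE _ _ _ t

/-! ### Factorisations -/

theorem factor_short [Fintype F] (k : Fin m) (u : Spm) (hu : u ∈ USp m F) :
    ∃ u' ∈ USp m F, ∃ t : F, u = u' * xd k.castSucc k.succ (cs_ne k) t ∧
      ns k * u' * (ns k)⁻¹ ∈ USp m F := by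
  obtain ⟨t, ht⟩ : ∃ t : F, t = (psi m F u).1 (pE m k.castSucc) (pE m k.succ) := ⟨_, rfl⟩
  have hrel := sp_rel u hu k
  rw [← ht] at hrel
  have hf := dbl_factor (pE m k.castSucc) (pE m k.succ) (pF m k.succ) (pF m k.castSucc)
    (pE_adj k) (pF_adj k) (pE_ne (cs_ne k)) (pF_ne (cs_ne k).symm) (disj_short k) (psi m F u) hu
  rw [hrel, ← ht] at hf
  have hx : psi m F (xd k.castSucc k.succ (cs_ne k) t) =
      xE (pE m k.castSucc) (pE m k.succ) (pE_ne (cs_ne k)) t *
        xE (pF m k.succ) (pF m k.castSucc) (pF_ne (cs_ne k).symm) (-t) := psi_xd _ _ _ _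
  refine ⟨u * (xd k.castSucc k.succ (cs_ne k) t)⁻¹, ?_, t, by rw [inv_mul_cancel_right], ?_⟩
  · rw [mem_USp, map_mul, map_inv, hx]
    exact hf.1
  · rw [mem_USp, map_mul, map_mul, map_inv, map_mul, map_inv, hx, psi_ns]
    exact hf.2

theorem factor_long [Fintype F] (u : Spm) (hu : u ∈ USp m F) :
    ∃ u' ∈ USp m F, ∃ t : F, u = u' * xl (Fin.last m) t ∧
      nl * u' * nl⁻¹ ∈ USp m F := by
  obtain ⟨t, ht⟩ : ∃ t : F, t = (psi m F u).1 (pE m (Fin.last m)) (pF m (Fin.last m)) := ⟨_, rfl⟩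
  have hxU : ∀ s : F, xE (pE m (Fin.last m)) (pF m (Fin.last m)) (pE_ne_pF _ _) s ∈
      Uni ((m + 1) + (m + 1)) F := fun s => isUT_transvection _ _ (pE_lt_pF _ _) s
  have hu1 : psi m F u * (xE (pE m (Fin.last m)) (pF m (Fin.last m)) (pE_ne_pF _ _) t)⁻¹ ∈
      Uni ((m + 1) + (m + 1)) F := (Uni _ F).mul_mem hu ((Uni _ F).inv_mem (hxU t))
  have h0 : (psi m F u * (xE (pE m (Fin.last m)) (pF m (Fin.last m)) (pE_ne_pF _ _) t)⁻¹).1
      (pE m (Fin.last m)) (pF m (Fin.last m)) = 0 := by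
    rw [xE_inv]
    show ((psi m F u).1 * transvection (pE m (Fin.last m)) (pF m (Fin.last m)) (-t))
      (pE m (Fin.last m)) (pF m (Fin.last m)) = 0
    have hd : (psi m F u).1 (pE m (Fin.last m)) (pE m (Fin.last m)) = 1 :=
      (show IsUT (psi m F u).1 from hu).2 _
    rw [mul_transvection_apply_same, hd, ← ht]
    ring
  refine ⟨u * (xl (Fin.last m) t)⁻¹, ?_, t, by rw [inv_mul_cancel_right], ?_⟩
  · rw [mem_USp, map_mul, map_inv, psi_xl]
    exact hu1
  · rw [mem_USp, map_mul, map_mul, map_inv, map_mul, map_inv, psi_xl, psi_nl]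
    exact isUT_conj _ _ pEF_adj _ _ hu1 h0

end Cfsg.Agent.H78.StSp
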