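import Cfsg.Agent.H23.StbDefs

/-!
# S2125-RANK1 (helper78, for helper23)

If `x_α(a) x_{-α}(b) x_α(a)` (`a ≠ 0`, `α` fundamental) conjugates `X_α` into `X_{-α}` then
`b = -a⁻¹`.
-/

set_option autoImplicit false

namespace Cfsg.Agent.H78.Stb

open Cfsg.Lie Cfsg.Agent.H23 Cfsg.Agent.H23.Stb

universe u

/-- For `c ≠ 0`, `n_α(c)` conjugates `x_α(t)` to `x_{-α}(q t)` with a fixed `q ≠ 0`. -/
theorem nU_conj_simple {D : ChevalleyDatum} {F : Type u} [Field F] {z η : ℕ → ℕ → ℤ}
    (hS : Sem D F z) (hN : SemN D F η) (hT : Tab D) (i : ℕ) (hi : i < D.rank) (c : F) (hc : c ≠ 0) :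
    ∃ q : F, q ≠ 0 ∧ ∀ t : F,
      nU hS (D.simple i) c * xU hS (D.simple i) t * (nU hS (D.simple i) c)⁻¹ =
        xU hS (D.neg (D.simple i)) (q * t) := by
  have hrl : D.simple i < D.nroots := hT.simple_lt i hi
  have hnl : D.neg (D.simple i) < D.nroots := hT.neg_lt _ hrl
  refine ⟨c ^ z (D.simple i) (D.neg (D.simple i)) * ((η i (D.simple i) : ℤ) : F), ?_, ?_⟩
  · apply mul_ne_zero (zpow_ne_zero _ hc)
    rcases hN.eta i (D.simple i) with h | h <;> rw [h] <;> simp
  · intro t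
    rw [nU_eq_hU_mul hS (D.simple i) c]
    have h1 := nU_conj hS hN i hi (D.simple i) hrl t
    rw [reflectRoot_simple] at h1
    have h2 := hU_conj hS (D.simple i) hrl c hc (D.neg (D.simple i)) hnl
      (((η i (D.simple i) : ℤ) : F) * t)
    calc hU hS (D.simple i) c * nU hS (D.simple i) 1 * xU hS (D.simple i) t *
          (hU hS (D.simple i) c * nU hS (D.simple i) 1)⁻¹
        = hU hS (D.simple i) c *
            (nU hS (D.simple i) 1 * xU hS (D.simple i) t * (nU hS (D.simple i) 1)⁻¹) *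
            (hU hS (D.simple i) c)⁻¹ := by group
      _ = _ := by rw [h1, h2, mul_assoc]

theorem rank1 : Cfsg.Agent.H23.Stb.StRank1.{u} := by
  intro D F _ z η rT w0 hC i hi a b ha hyp
  have hS := hC.hP.sem
  have hN := hC.hP.semN
  have hT := hC.hP.tab
  have hV := hC.hV
  have hrl : D.simple i < D.nroots := hT.simple_lt i hi
  have hrpos : D.IsPosRoot (D.simple i) := hT.simple_pos i hi
  have hneg : D.IsNegRoot (D.neg (D.simple i)) := (hT.pos_neg _ hrl).1 hrpos
  have hyV : ∀ t : F, xU hS (D.neg (D.simple i)) t ∈ D.negUnipotent F := fun t =>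
    Subgroup.subset_closure ⟨D.neg (D.simple i), t, hneg, rfl⟩
  -- `x_α(c) = x_{-α}(w)` forces `c = 0`
  have hxy : ∀ c w : F, xU hS (D.simple i) c = xU hS (D.neg (D.simple i)) w → c = 0 := by
    intro c w h
    by_contra hc
    exact xU_pos_not_mem_neg hC.hP hV (D.simple i) hrpos c hc (h ▸ hyV w)
  -- `b ≠ 0`
  have hb : b ≠ 0 := by
    rintro rfl
    obtain ⟨t', ht'⟩ := hyp 1
    rw [xU_zero hS, mul_one, xU_mul, xU_mul, xU_inv, xU_mul] at ht'
    have := hxy _ _ ht'
    exact one_ne_zero (by linear_combination this)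
  -- `x_{-α}(b) = x_α(b⁻¹) n_α(-b⁻¹) x_α(b⁻¹)`
  have hyb : xU hS (D.neg (D.simple i)) b =
      xU hS (D.simple i) b⁻¹ * nU hS (D.simple i) (-b⁻¹) * xU hS (D.simple i) b⁻¹ := by
    rw [nU_eq hS (D.simple i) (-b⁻¹)]
    have e : -(-b⁻¹)⁻¹ = b := by rw [inv_neg, inv_inv, neg_neg]
    rw [e]
    have h1 : xU hS (D.simple i) b⁻¹ * xU hS (D.simple i) (-b⁻¹) = 1 := by
      rw [xU_mul, add_neg_cancel, xU_zero]
    have h2 : xU hS (D.simple i) (-b⁻¹) * xU hS (D.simple i) b⁻¹ = 1 := by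
      rw [xU_mul, neg_add_cancel, xU_zero]
    calc xU hS (D.neg (D.simple i)) b
        = (xU hS (D.simple i) b⁻¹ * xU hS (D.simple i) (-b⁻¹)) * xU hS (D.neg (D.simple i)) b *
            (xU hS (D.simple i) (-b⁻¹) * xU hS (D.simple i) b⁻¹) := by rw [h1, h2, one_mul, mul_one]
      _ = _ := by group
  obtain ⟨k, hk⟩ : ∃ k : F, k = a + b⁻¹ := ⟨_, rfl⟩
  have e1 : xU hS (D.simple i) k = xU hS (D.simple i) a * xU hS (D.simple i) b⁻¹ := by
    rw [xU_mul, hk]
  have e2 : xU hS (D.simple i) k = xU hS (D.simple i) b⁻¹ * xU hS (D.simple i) a := by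
    rw [xU_mul, hk, add_comm]
  have hm : xU hS (D.simple i) a * xU hS (D.neg (D.simple i)) b * xU hS (D.simple i) a =
      xU hS (D.simple i) k * nU hS (D.simple i) (-b⁻¹) * xU hS (D.simple i) k := by
    calc xU hS (D.simple i) a * xU hS (D.neg (D.simple i)) b * xU hS (D.simple i) a
        = xU hS (D.simple i) a *
            (xU hS (D.simple i) b⁻¹ * nU hS (D.simple i) (-b⁻¹) * xU hS (D.simple i) b⁻¹) *
            xU hS (D.simple i) a := by rw [← hyb]
      _ = (xU hS (D.simple i) a * xU hS (D.simple i) b⁻¹) * nU hS (D.simple i) (-b⁻¹) *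
            (xU hS (D.simple i) b⁻¹ * xU hS (D.simple i) a) := by group
      _ = _ := by rw [← e1, ← e2]
  obtain ⟨q, hq, hqc⟩ := nU_conj_simple hS hN hT i hi (-b⁻¹) (neg_ne_zero.mpr (inv_ne_zero hb))
  have h4 : ∀ t : F, ∃ t' : F,
      xU hS (D.simple i) k * xU hS (D.neg (D.simple i)) (q * t) * xU hS (D.simple i) (-k) =
        xU hS (D.neg (D.simple i)) t' := by
    intro t
    obtain ⟨t', ht'⟩ := hyp t
    refine ⟨t', ?_⟩
    have ht'' : (xU hS (D.simple i) a * xU hS (D.neg (D.simple i)) b * xU hS (D.simple i) a) *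
        xU hS (D.simple i) t *
        (xU hS (D.simple i) a * xU hS (D.neg (D.simple i)) b * xU hS (D.simple i) a)⁻¹ =
        xU hS (D.neg (D.simple i)) t' := ht'
    rw [hm] at ht''
    have hc : xU hS (D.simple i) k * xU hS (D.simple i) t * (xU hS (D.simple i) k)⁻¹ =
        xU hS (D.simple i) t := by
      rw [xU_inv, xU_mul, xU_mul]
      congr 1
      ring
    calc xU hS (D.simple i) k * xU hS (D.neg (D.simple i)) (q * t) * xU hS (D.simple i) (-k)
        = xU hS (D.simple i) k *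
            (nU hS (D.simple i) (-b⁻¹) * xU hS (D.simple i) t * (nU hS (D.simple i) (-b⁻¹))⁻¹) *
            (xU hS (D.simple i) k)⁻¹ := by rw [hqc, xU_inv]
      _ = xU hS (D.simple i) k *
            (nU hS (D.simple i) (-b⁻¹) *
              (xU hS (D.simple i) k * xU hS (D.simple i) t * (xU hS (D.simple i) k)⁻¹) *
              (nU hS (D.simple i) (-b⁻¹))⁻¹) *
            (xU hS (D.simple i) k)⁻¹ := by rw [hc]
      _ = (xU hS (D.simple i) k * nU hS (D.simple i) (-b⁻¹) * xU hS (D.simple i) k) *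
            xU hS (D.simple i) t *
            (xU hS (D.simple i) k * nU hS (D.simple i) (-b⁻¹) * xU hS (D.simple i) k)⁻¹ := by group
      _ = _ := ht''
  have hk0 : k = 0 := by
    by_contra hkne
    obtain ⟨s, hs⟩ := h4 (q⁻¹ * (-k⁻¹))
    rw [← mul_assoc, mul_inv_cancel₀ hq, one_mul] at hs
    have hn : nU hS (D.simple i) k =
        xU hS (D.neg (D.simple i)) s * xU hS (D.simple i) (k + k) := by
      rw [nU_eq hS (D.simple i) k, ← hs, ← xU_mul hS (D.simple i) k k, ← xU_inv hS (D.simple i) k]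
      group
    obtain ⟨w, hw, hwc⟩ := nU_conj_simple hS hN hT i hi k hkne
    have h5 := hwc 1
    rw [hn] at h5
    have e' : xU hS (D.simple i) (k + k) * xU hS (D.simple i) 1 * (xU hS (D.simple i) (k + k))⁻¹ =
        xU hS (D.simple i) 1 := by
      rw [xU_inv, xU_mul, xU_mul]
      congr 1
      ring
    have e : xU hS (D.neg (D.simple i)) s * xU hS (D.simple i) (k + k) * xU hS (D.simple i) 1 *
        (xU hS (D.neg (D.simple i)) s * xU hS (D.simple i) (k + k))⁻¹ =
        xU hS (D.neg (D.simple i)) s * xU hS (D.simple i) 1 * (xU hS (D.neg (D.simple i)) s)⁻¹ := by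
      calc _ = xU hS (D.neg (D.simple i)) s *
            (xU hS (D.simple i) (k + k) * xU hS (D.simple i) 1 * (xU hS (D.simple i) (k + k))⁻¹) *
            (xU hS (D.neg (D.simple i)) s)⁻¹ := by group
        _ = _ := by rw [e']
    rw [e] at h5
    have h7 : xU hS (D.simple i) 1 =
        (xU hS (D.neg (D.simple i)) s)⁻¹ * xU hS (D.neg (D.simple i)) (w * 1) *
          xU hS (D.neg (D.simple i)) s := by
      rw [← h5]; group
    rw [xU_inv, xU_mul, xU_mul] at h7
    exact one_ne_zero (hxy 1 _ h7)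
  have hb' : b⁻¹ = -a := by
    rw [hk0] at hk
    linear_combination -hk
  rw [← inv_inv b, hb', inv_neg]

/-- Verbatim check. -/
example : Cfsg.Agent.H23.Stb.StRank1.{u} := rank1

end Cfsg.Agent.H78.Stb
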